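import Mathlib
import Cfsg.Agent.Lib.helper3.ZgCenter

/-!
The nonabelian minimal case for Bender–Glauberman Theorem 3.6 (S1444), requested by helper3:
a `P R₀`-minimal `q`-group `D = [D, P]` acting faithfully on `V` is abelian.
-/

namespace Cfsg.Agent.Lib.helper60.BG36

open scoped commutatorElement

section quot

variable {G : Type*} [Group G]

/-- The image of a subgroup `A` in `N_G(Z) / Z`. -/
noncomputable def qImg (Z A : Subgroup G) :
    Subgroup (↥(Subgroup.normalizer (Z : Set G)) ⧸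
      Z.subgroupOf (Subgroup.normalizer (Z : Set G))) :=
  (A.subgroupOf (Subgroup.normalizer (Z : Set G))).map
    (QuotientGroup.mk' (Z.subgroupOf (Subgroup.normalizer (Z : Set G))))

theorem mem_qImg {Z A : Subgroup G} (hA : A ≤ Subgroup.normalizer (Z : Set G))
    {y : ↥(Subgroup.normalizer (Z : Set G)) ⧸ Z.subgroupOf (Subgroup.normalizer (Z : Set G))} :
    y ∈ qImg Z A ↔ ∃ a, ∃ ha : a ∈ A,
      QuotientGroup.mk' (Z.subgroupOf (Subgroup.normalizer (Z : Set G)))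
        (⟨a, hA ha⟩ : ↥(Subgroup.normalizer (Z : Set G))) = y := by
  unfold qImg
  rw [Subgroup.mem_map]
  constructor
  · rintro ⟨x, hx, rfl⟩
    exact ⟨x.1, Subgroup.mem_subgroupOf.1 hx, rfl⟩
  · rintro ⟨a, ha, rfl⟩
    exact ⟨⟨a, hA ha⟩, Subgroup.mem_subgroupOf.2 ha, rfl⟩

theorem qmk_eq_one_iff {Z : Subgroup G} (x : ↥(Subgroup.normalizer (Z : Set G))) :
    QuotientGroup.mk' (Z.subgroupOf (Subgroup.normalizer (Z : Set G))) x = 1 ↔ (x : G) ∈ Z := by
  rw [QuotientGroup.mk'_apply, QuotientGroup.eq_one_iff, Subgroup.mem_subgroupOf]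

theorem qImg_le_normalizer {Z A B : Subgroup G} (h : A ≤ Subgroup.normalizer (B : Set G)) :
    qImg Z A ≤ Subgroup.normalizer ((qImg Z B : Subgroup _) : Set _) := by
  unfold qImg
  refine le_trans ?_ (Subgroup.le_normalizer_map _)
  apply Subgroup.map_mono
  refine le_trans ?_ (Subgroup.le_normalizer_comap _)
  exact Subgroup.comap_mono h

theorem card_qImg_dvd [Finite G] {Z A : Subgroup G}
    (hA : A ≤ Subgroup.normalizer (Z : Set G)) : Nat.card (qImg Z A) ∣ Nat.card A := by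
  unfold qImg
  have h1 : Nat.card ((A.subgroupOf (Subgroup.normalizer (Z : Set G))).map
      (QuotientGroup.mk' (Z.subgroupOf (Subgroup.normalizer (Z : Set G))))) ∣
      Nat.card (A.subgroupOf (Subgroup.normalizer (Z : Set G))) := Subgroup.card_map_dvd _ _
  have h2 : Nat.card (A.subgroupOf (Subgroup.normalizer (Z : Set G))) = Nat.card A :=
    Nat.card_congr (Subgroup.subgroupOfEquivOfLe hA).toEquiv
  rwa [h2] at h1

theorem qmk_commute {Z : Subgroup G} (a x : G) (ha : a ∈ Subgroup.normalizer (Z : Set G))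
    (hx : x ∈ Subgroup.normalizer (Z : Set G))
    (h : QuotientGroup.mk' (Z.subgroupOf (Subgroup.normalizer (Z : Set G))) ⟨a, ha⟩ *
        QuotientGroup.mk' (Z.subgroupOf (Subgroup.normalizer (Z : Set G))) ⟨x, hx⟩ =
      QuotientGroup.mk' (Z.subgroupOf (Subgroup.normalizer (Z : Set G))) ⟨x, hx⟩ *
        QuotientGroup.mk' (Z.subgroupOf (Subgroup.normalizer (Z : Set G))) ⟨a, ha⟩) :
    a * x * a⁻¹ * x⁻¹ ∈ Z := by
  have h1 : QuotientGroup.mk' (Z.subgroupOf (Subgroup.normalizer (Z : Set G)))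
      ((⟨a, ha⟩ : ↥(Subgroup.normalizer (Z : Set G))) * ⟨x, hx⟩ * ⟨a, ha⟩⁻¹ * ⟨x, hx⟩⁻¹) = 1 := by
    rw [map_mul, map_mul, map_mul, map_inv, map_inv, h]
    group
  have h2 := (qmk_eq_one_iff _).1 h1
  simpa using h2

/-- A Frobenius-type configuration on the quotient `D / Z` forces `D = Z`. -/
theorem le_of_frobenius_quot [Finite G] [Group.IsSolvable G]
    (hodd : Odd (Nat.card G)) (D P R₀ Z : Subgroup G) (hr : (Nat.card R₀).Prime)
    (hZD : Z ≤ D) (hDZ : D ≤ Subgroup.normalizer (Z : Set G))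
    (hPZ : P ≤ Subgroup.normalizer (Z : Set G)) (hRZ : R₀ ≤ Subgroup.normalizer (Z : Set G))
    (hab : ∀ a ∈ D, ∀ b ∈ D, a * b * a⁻¹ * b⁻¹ ∈ Z)
    (hPD : P ≤ Subgroup.normalizer (D : Set G)) (hRD : R₀ ≤ Subgroup.normalizer (D : Set G))
    (hRP : R₀ ≤ Subgroup.normalizer (P : Set G))
    (hcopPD : (Nat.card P).Coprime (Nat.card D)) (hDr : (Nat.card D).Coprime (Nat.card R₀))
    (hPfix : P ⊓ Subgroup.centralizer (R₀ : Set G) = ⊥)
    (hCP : D ⊓ Subgroup.centralizer (P : Set G) ≤ Z)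
    (hCR : D ⊓ Subgroup.centralizer (R₀ : Set G) ≤ Z) : D ≤ Z := by
  by_contra hcon
  have key : ∀ A : Subgroup G, ∀ hAZ : A ≤ Subgroup.normalizer (Z : Set G),
      (Nat.card A).Coprime (Nat.card D) → D ⊓ Subgroup.centralizer (A : Set G) ≤ Z →
      qImg Z D ⊓ Subgroup.centralizer ((qImg Z A : Subgroup _) : Set _) = ⊥ := by
    intro A hAZ hcop hCA
    rw [eq_bot_iff]
    rintro y ⟨hyD, hyC⟩
    obtain ⟨x, hx, rfl⟩ := (mem_qImg hDZ).1 hyD
    rw [Subgroup.mem_bot, qmk_eq_one_iff]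
    show x ∈ Z
    have hg : ∀ a ∈ A, a * x * a⁻¹ * x⁻¹ ∈ Z := by
      intro a ha
      apply qmk_commute a x (hAZ ha) (hDZ hx)
      exact Subgroup.mem_centralizer_iff.1 hyC _ ((mem_qImg hAZ).2 ⟨a, ha, rfl⟩)
    obtain ⟨c, hc, hcx⟩ := Cfsg.Agent.Lib.helper1.coset_fixed A Z hAZ
      (Nat.Coprime.coprime_dvd_right (Subgroup.card_dvd_of_le hZD) hcop)
      (Or.inr inferInstance) x hg
    have hcD : c ∈ D := by
      have e : c = (c * x⁻¹) * x := by group
      rw [e]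
      exact D.mul_mem (hZD hcx) hx
    have hcZ : c ∈ Z := hCA ⟨hcD, hc⟩
    have e : x = (c * x⁻¹)⁻¹ * c := by group
    rw [e]
    exact Z.mul_mem (Z.inv_mem hcx) hcZ
  have hM1 : qImg Z D ≠ ⊥ := by
    intro h0
    apply hcon
    intro x hx
    have h1 : QuotientGroup.mk' (Z.subgroupOf (Subgroup.normalizer (Z : Set G)))
        (⟨x, hDZ hx⟩ : ↥(Subgroup.normalizer (Z : Set G))) ∈ qImg Z D :=
      (mem_qImg hDZ).2 ⟨x, hx, rfl⟩
    rw [h0, Subgroup.mem_bot, qmk_eq_one_iff] at h1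
    exact h1
  have hCK := key P hPZ hcopPD hCP
  have hCR' := key R₀ hRZ hDr.symm hCR
  have hK1 : qImg Z P ≠ ⊥ := by
    intro h0
    apply hM1
    rw [eq_bot_iff, ← hCK, h0]
    refine le_inf le_rfl ?_
    intro y _
    rw [Subgroup.mem_centralizer_iff]
    intro z hz
    have hz1 : z = 1 := by simpa using hz
    rw [hz1, one_mul, mul_one]
  have hPZbot : P ⊓ Z = ⊥ :=
    disjoint_iff.1 (Subgroup.disjoint_of_coprime_natCard
      (Nat.Coprime.coprime_dvd_right (Subgroup.card_dvd_of_le hZD) hcopPD))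
  have hKfix : qImg Z P ⊓ Subgroup.centralizer ((qImg Z R₀ : Subgroup _) : Set _) = ⊥ := by
    rw [eq_bot_iff]
    rintro y ⟨hyP, hyC⟩
    obtain ⟨x, hx, rfl⟩ := (mem_qImg hPZ).1 hyP
    have hxC : x ∈ Subgroup.centralizer (R₀ : Set G) := by
      rw [Subgroup.mem_centralizer_iff]
      intro a ha
      have h1 : a * x * a⁻¹ * x⁻¹ ∈ Z := by
        apply qmk_commute a x (hRZ ha) (hPZ hx)
        exact Subgroup.mem_centralizer_iff.1 hyC _ ((mem_qImg hRZ).2 ⟨a, ha, rfl⟩)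
      have h2 : a * x * a⁻¹ * x⁻¹ ∈ P :=
        P.mul_mem ((Subgroup.mem_normalizer_iff.1 (hRP ha) x).1 hx) (P.inv_mem hx)
      have h3 : a * x * a⁻¹ * x⁻¹ ∈ P ⊓ Z := ⟨h2, h1⟩
      rw [hPZbot, Subgroup.mem_bot] at h3
      calc a * x = (a * x * a⁻¹ * x⁻¹) * (x * a) := by group
        _ = x * a := by rw [h3, one_mul]
    have hx1 : x ∈ P ⊓ Subgroup.centralizer (R₀ : Set G) := ⟨hx, hxC⟩
    rw [hPfix, Subgroup.mem_bot] at hx1
    rw [Subgroup.mem_bot, qmk_eq_one_iff]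
    show x ∈ Z
    rw [hx1]
    exact Z.one_mem
  have hr' : (Nat.card (qImg Z R₀)).Prime := by
    rcases (Nat.dvd_prime hr).1 (card_qImg_dvd hRZ) with h1 | h1
    · exfalso
      rw [Subgroup.card_eq_one] at h1
      have hRZ' : R₀ ≤ Z := by
        intro a ha
        have h2 : QuotientGroup.mk' (Z.subgroupOf (Subgroup.normalizer (Z : Set G)))
            (⟨a, hRZ ha⟩ : ↥(Subgroup.normalizer (Z : Set G))) ∈ qImg Z R₀ :=
          (mem_qImg hRZ).2 ⟨a, ha, rfl⟩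
        rw [h1, Subgroup.mem_bot, qmk_eq_one_iff] at h2
        exact h2
      have h3 : Nat.card R₀ ∣ Nat.card D := Subgroup.card_dvd_of_le (hRZ'.trans hZD)
      have h4 : Nat.card R₀ = 1 := Nat.Coprime.eq_one_of_dvd hDr.symm h3
      exact hr.one_lt.ne' h4
    · rw [h1]; exact hr
  have hodd' : Odd (Nat.card (↥(Subgroup.normalizer (Z : Set G)) ⧸
      Z.subgroupOf (Subgroup.normalizer (Z : Set G)))) := by
    apply Odd.of_dvd_nat hodd
    exact (Subgroup.card_quotient_dvd_card _).trans (Subgroup.card_subgroup_dvd_card _)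
  have hMc : ∀ a ∈ qImg Z D, ∀ b ∈ qImg Z D, a * b = b * a := by
    intro a ha b hb
    obtain ⟨x, hx, rfl⟩ := (mem_qImg hDZ).1 ha
    obtain ⟨y, hy, rfl⟩ := (mem_qImg hDZ).1 hb
    have h1 : QuotientGroup.mk' (Z.subgroupOf (Subgroup.normalizer (Z : Set G)))
        ((⟨x, hDZ hx⟩ : ↥(Subgroup.normalizer (Z : Set G))) * ⟨y, hDZ hy⟩ * ⟨x, hDZ hx⟩⁻¹ *
          ⟨y, hDZ hy⟩⁻¹) = 1 := by
      rw [qmk_eq_one_iff]
      simpa using hab x hx y hy
    rw [map_mul, map_mul, map_mul, map_inv, map_inv] at h1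
    have h2 := mul_inv_eq_one.1 h1
    exact mul_inv_eq_iff_eq_mul.1 h2
  have hcopK : (Nat.card (qImg Z P)).Coprime (Nat.card (qImg Z D)) :=
    Nat.Coprime.coprime_dvd_left (card_qImg_dvd hPZ)
      (Nat.Coprime.coprime_dvd_right (card_qImg_dvd hDZ) hcopPD)
  have hcopR : (Nat.card (qImg Z R₀)).Coprime (Nat.card (qImg Z D)) :=
    Nat.Coprime.coprime_dvd_left (card_qImg_dvd hRZ)
      (Nat.Coprime.coprime_dvd_right (card_qImg_dvd hDZ) hDr.symm)
  have hf := Cfsg.Agent.Lib.helper3.zg_frob hodd' (qImg Z P) (qImg Z R₀) (qImg Z D) hr' hK1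
    (qImg_le_normalizer hRP) hKfix hM1 hMc (qImg_le_normalizer hPD) (qImg_le_normalizer hRD)
    hcopK hcopR hCK
  rw [hCR', Subgroup.card_bot, one_pow] at hf
  exact hM1 (Subgroup.card_eq_one.1 hf)

end quot

/-- The nonabelian minimal case: `D` is abelian. -/
theorem zg_nonabelian_case {G : Type*} [Group G] [Finite G] [Group.IsSolvable G] {p : ℕ}
    {V R₀ : Subgroup G} (h : Cfsg.Agent.Lib.helper3.ZgCtx p V R₀) (D P : Subgroup G) {q : ℕ}
    (hq : q.Prime) (hqp : q ≠ p) (hDq : IsPGroup q D) (hP : IsPGroup p P)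
    (hDV : D ≤ Subgroup.normalizer (V : Set G))
    (hPD : P ≤ Subgroup.normalizer (D : Set G)) (hRD : R₀ ≤ Subgroup.normalizer (D : Set G))
    (hRP : R₀ ≤ Subgroup.normalizer (P : Set G)) (hDr : (Nat.card D).Coprime (Nat.card R₀))
    (hPfix : P ⊓ Subgroup.centralizer (R₀ : Set G) = ⊥)
    (hDf : D ⊓ Subgroup.centralizer (V : Set G) = ⊥)
    (hDcyc : IsCyclic ↥(D ⊓ Subgroup.centralizer (R₀ : Set G)))
    (hmin : ∀ D' : Subgroup G, D' ≤ D → D' ≠ D → P ≤ Subgroup.normalizer (D' : Set G) →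
      R₀ ≤ Subgroup.normalizer (D' : Set G) → P ≤ Subgroup.centralizer (D' : Set G))
    (hcomm : ⁅D, P⁆ = D) : ∀ a ∈ D, ∀ b ∈ D, a * b = b * a := by
  have hpF : Fact p.Prime := ⟨h.hp⟩
  have hqF : Fact q.Prime := ⟨hq⟩
  by_cases hZ : D ⊓ Subgroup.centralizer (D : Set G) = D
  · intro a ha b hb
    have ha' : a ∈ D ⊓ Subgroup.centralizer (D : Set G) := by rw [hZ]; exact ha
    exact (Subgroup.mem_centralizer_iff.1 ha'.2 b hb).symm
  have hD1 : D ≠ ⊥ := by
    intro h0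
    apply hZ
    rw [h0]
    exact bot_inf_eq _
  have hD'D : ⁅D, D⁆ ≤ D :=
    Cfsg.Agent.Lib.helper1.commutator_le_of_le_normalizer Subgroup.le_normalizer
  have hD' : ⁅D, D⁆ ≠ D := by
    intro hperf
    have hp' : Group.IsPerfect D := Subgroup.isPerfect_iff.mpr hperf
    have hnt : Nontrivial D := (Subgroup.nontrivial_iff_ne_bot D).mpr hD1
    exact Group.IsPerfect.not_isSolvable (↥D) inferInstance
  have hPc' : P ≤ Subgroup.centralizer ((⁅D, D⁆ : Subgroup G) : Set G) :=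
    hmin _ hD'D hD' (Cfsg.Agent.Lib.helper3.zg_le_normalizer_commutator hPD hPD)
      (Cfsg.Agent.Lib.helper3.zg_le_normalizer_commutator hRD hRD)
  have hPZn : P ≤ Subgroup.normalizer ((D ⊓ Subgroup.centralizer (D : Set G) : Subgroup G) : Set G) :=
    Cfsg.Agent.Lib.helper3.zg_le_normalizer_inf hPD
      (Cfsg.Agent.Lib.helper3.zg_le_normalizer_centralizer hPD)
  have hRZn : R₀ ≤ Subgroup.normalizer ((D ⊓ Subgroup.centralizer (D : Set G) : Subgroup G) : Set G) :=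
    Cfsg.Agent.Lib.helper3.zg_le_normalizer_inf hRD
      (Cfsg.Agent.Lib.helper3.zg_le_normalizer_centralizer hRD)
  have hDZn : D ≤ Subgroup.normalizer ((D ⊓ Subgroup.centralizer (D : Set G) : Subgroup G) : Set G) :=
    Cfsg.Agent.Lib.helper3.zg_le_normalizer_inf Subgroup.le_normalizer
      (Cfsg.Agent.Lib.helper3.zg_le_normalizer_centralizer Subgroup.le_normalizer)
  have h1 : ⁅P, ⁅D, D⁆⁆ = ⊥ := Subgroup.commutator_eq_bot_iff_le_centralizer.2 hPc'
  have h1' : ⁅⁅D, D⁆, P⁆ = ⊥ := by rw [Subgroup.commutator_comm]; exact h1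
  -- class two
  have hcl2 : ⁅D, ⁅D, D⁆⁆ = ⊥ := by
    have h2 := Subgroup.commutator_commutator_eq_bot_of_rotate (H₁ := D) (H₂ := P)
      (H₃ := ⁅D, D⁆)
      (by rw [h1, Subgroup.commutator_bot_left])
      (by
        rw [eq_bot_iff, ← h1']
        exact Subgroup.commutator_mono (Subgroup.commutator_mono hD'D le_rfl) le_rfl)
    rwa [hcomm] at h2
  have hD'C : ⁅D, D⁆ ≤ Subgroup.centralizer (D : Set G) := by
    rw [← Subgroup.commutator_eq_bot_iff_le_centralizer, Subgroup.commutator_comm]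
    exact hcl2
  have hcl : ∀ a ∈ D, ∀ b ∈ D, ∀ c ∈ D, ⁅a, b⁆ * c = c * ⁅a, b⁆ := by
    intro a ha b hb c hc
    exact (Subgroup.mem_centralizer_iff.1
      (hD'C (Subgroup.commutator_mem_commutator ha hb)) c hc).symm
  -- `C_D(P) ≤ Z(D)`
  have hCP : D ⊓ Subgroup.centralizer (P : Set G) ≤ D ⊓ Subgroup.centralizer (D : Set G) := by
    have hC1 : ⁅D ⊓ Subgroup.centralizer (P : Set G), P⁆ = ⊥ :=
      Subgroup.commutator_eq_bot_iff_le_centralizer.2 inf_le_right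
    have h2 := Subgroup.commutator_commutator_eq_bot_of_rotate (H₁ := P) (H₂ := D)
      (H₃ := D ⊓ Subgroup.centralizer (P : Set G))
      (by
        rw [eq_bot_iff, ← h1']
        exact Subgroup.commutator_mono (Subgroup.commutator_mono le_rfl inf_le_left) le_rfl)
      (by rw [hC1, Subgroup.commutator_bot_left])
    rw [Subgroup.commutator_comm P D, hcomm, Subgroup.commutator_eq_bot_iff_le_centralizer] at h2
    intro c hc
    refine ⟨hc.1, Subgroup.mem_centralizer_iff.2 ?_⟩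
    intro d hd
    exact (Subgroup.mem_centralizer_iff.1 (h2 hd) c hc).symm
  -- `C_D(R₀) ≤ Z(D)`
  have hDcop : (Nat.card D).Coprime p := by
    obtain ⟨n, hn⟩ := IsPGroup.iff_card.1 hDq
    rw [hn]
    exact Nat.Coprime.pow_left n ((Nat.coprime_primes hq h.hp).2 hqp)
  have hab : ∀ a ∈ D ⊓ Subgroup.centralizer (R₀ : Set G),
      ∀ b ∈ D ⊓ Subgroup.centralizer (R₀ : Set G), a * b = b * a := by
    intro a ha b hb
    obtain ⟨g, hg⟩ := hDcyc.exists_generator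
    obtain ⟨m, hm⟩ := Subgroup.mem_zpowers_iff.1 (hg ⟨a, ha⟩)
    obtain ⟨n, hn⟩ := Subgroup.mem_zpowers_iff.1 (hg ⟨b, hb⟩)
    have e : (⟨a, ha⟩ : ↥(D ⊓ Subgroup.centralizer (R₀ : Set G))) * ⟨b, hb⟩ =
        ⟨b, hb⟩ * ⟨a, ha⟩ := by
      rw [← hm, ← hn, ← zpow_add, ← zpow_add, add_comm]
    exact congrArg Subtype.val e
  have hCR : D ⊓ Subgroup.centralizer (R₀ : Set G) ≤ D ⊓ Subgroup.centralizer (D : Set G) :=
    le_inf inf_le_left (h.centralizer_le_center D hDV hRD hDcop hDr hDf hcl hab)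
  have hcopPD : (Nat.card P).Coprime (Nat.card D) := by
    obtain ⟨n, hn⟩ := IsPGroup.iff_card.1 hDq
    obtain ⟨m, hm⟩ := IsPGroup.iff_card.1 hP
    rw [hn, hm]
    exact Nat.Coprime.pow _ _ ((Nat.coprime_primes h.hp hq).2 (Ne.symm hqp))
  have habZ : ∀ a ∈ D, ∀ b ∈ D, a * b * a⁻¹ * b⁻¹ ∈ D ⊓ Subgroup.centralizer (D : Set G) := by
    intro a ha b hb
    have h2 : ⁅a, b⁆ ∈ ⁅D, D⁆ := Subgroup.commutator_mem_commutator ha hb
    rw [commutatorElement_def] at h2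
    exact ⟨hD'D h2, hD'C h2⟩
  have hfinal := le_of_frobenius_quot h.odd D P R₀ (D ⊓ Subgroup.centralizer (D : Set G)) h.prime
    inf_le_left hDZn hPZn hRZn habZ hPD hRD hRP hcopPD hDr hPfix hCP hCR
  intro a ha b hb
  exact (Subgroup.mem_centralizer_iff.1 (hfinal ha).2 b hb).symm

end Cfsg.Agent.Lib.helper60.BG36
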