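import Mathlib

/-!
Assembly lemmas F and G for Bender–Glauberman Theorem 3.6 (S1444), requested by helper3.
Only Mathlib is needed.
-/

namespace Cfsg.Agent.Lib.helper60.BG36

/-- Tool: a `|B : A|'`-element of `B` lies in the normal subgroup `A` of `B`. -/
theorem mem_of_coprime_relIndex {G : Type*} [Group G] (A B : Subgroup G)
    (hAB : A ≤ B) (hn : B ≤ Subgroup.normalizer (A : Set G)) (b : G) (hb : b ∈ B)
    (hcop : (orderOf b).Coprime (A.relIndex B)) : b ∈ A := by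
  have hnorm : (A.subgroupOf B).Normal :=
    (Subgroup.normal_subgroupOf_iff_le_normalizer hAB).2 hn
  have h1 : orderOf (QuotientGroup.mk' (A.subgroupOf B) ⟨b, hb⟩) ∣ orderOf b := by
    have h0 : orderOf (⟨b, hb⟩ : B) = orderOf b := Subgroup.orderOf_mk b hb
    rw [← h0]
    exact orderOf_map_dvd _ _
  have h2 : orderOf (QuotientGroup.mk' (A.subgroupOf B) ⟨b, hb⟩) ∣ A.relIndex B := by
    have h0 := orderOf_dvd_natCard (QuotientGroup.mk' (A.subgroupOf B) ⟨b, hb⟩)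
    rwa [← Subgroup.index_eq_card] at h0
  have h3 : orderOf (QuotientGroup.mk' (A.subgroupOf B) ⟨b, hb⟩) = 1 :=
    Nat.eq_one_of_dvd_coprimes hcop h1 h2
  rw [orderOf_eq_one_iff] at h3
  have h4 := (QuotientGroup.eq_one_iff _).1 h3
  exact Subgroup.mem_subgroupOf.1 h4

/-- A `p`-subgroup `B` with `|B : A ∩ B|` prime to `p` lies in `A`. -/
theorem le_of_coprime_relIndex_of_isPGroup {G : Type*} [Group G] [Finite G] {p : ℕ}
    [Fact p.Prime] (A B : Subgroup G) (hB : IsPGroup p B) (hcop : (A.relIndex B).Coprime p) :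
    B ≤ A := by
  obtain ⟨n, hn⟩ := IsPGroup.iff_card.1 hB
  have h1 : A.relIndex B ∣ p ^ n := hn ▸ Subgroup.relIndex_dvd_card A B
  have h2 : A.relIndex B = 1 := Nat.Coprime.eq_one_of_dvd (Nat.Coprime.pow_right n hcop) h1
  exact Subgroup.relIndex_eq_one.1 h2

/-- A subgroup all of whose `p'`-elements are trivial is a `p`-group. -/
theorem isPGroup_of_forall_coprime_eq_one {G : Type*} [Group G] [Finite G] {p : ℕ}
    [Fact p.Prime] (A : Subgroup G) (h : ∀ x ∈ A, (orderOf x).Coprime p → x = 1) :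
    IsPGroup p A := by
  have hp : p.Prime := Fact.out
  have hcard : Nat.card A ≠ 0 := Nat.card_pos.ne'
  have key : ∀ {d : ℕ}, Nat.Prime d → d ∣ Nat.card A → d = p := by
    intro d hd hdvd
    by_contra hne
    have : Fact d.Prime := ⟨hd⟩
    obtain ⟨x, hx⟩ := exists_prime_orderOf_dvd_card' d hdvd
    have hx' : orderOf (x : G) = d := by rw [Subgroup.orderOf_coe]; exact hx
    have h1 : (x : G) = 1 := by
      apply h x x.2
      rw [hx']
      exact (Nat.coprime_primes hd hp).2 hne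
    rw [h1, orderOf_one] at hx'
    exact hd.one_lt.ne hx'
  exact IsPGroup.of_card (Nat.eq_prime_pow_of_unique_prime_dvd hcard key)

theorem le_normalizer_inf_of_le {G : Type*} [Group G] (H A B : Subgroup G)
    (hA : H ≤ Subgroup.normalizer (A : Set G)) (hB : H ≤ Subgroup.normalizer (B : Set G)) :
    H ≤ Subgroup.normalizer ((A ⊓ B : Subgroup G) : Set G) := by
  intro h hh
  rw [Subgroup.mem_normalizer_iff]
  intro x
  rw [Subgroup.mem_inf, Subgroup.mem_inf, ← (Subgroup.mem_normalizer_iff.1 (hA hh)) x,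
    ← (Subgroup.mem_normalizer_iff.1 (hB hh)) x]

/-- PIECE G (p-group kernel step). -/
theorem coprime_relIndex_of_chain {G : Type*} [Group G] [Finite G] {p : ℕ} [Fact p.Prime]
    (H V N₀ L M : Subgroup G) (hVH : V ≤ H) (hVn : H ≤ Subgroup.normalizer (V : Set G))
    (hVp : IsPGroup p V)
    (hVmax : ∀ T : Subgroup G, T ≤ H → H ≤ Subgroup.normalizer (T : Set G) → IsPGroup p T →
      T ≤ V)
    (hCV : H ⊓ Subgroup.centralizer (V : Set G) ≤ V) (hN₀V : N₀ ≤ V)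
    (hB : ∀ b ∈ H, (orderOf b).Coprime p → (∀ v ∈ V, b * v * b⁻¹ * v⁻¹ ∈ N₀) →
      b ∈ Subgroup.centralizer (V : Set G))
    (h : N₀ ≤ L ∧ L ≤ M ∧ M ≤ H ∧ H ≤ Subgroup.normalizer (L : Set G) ∧
      H ≤ Subgroup.normalizer (M : Set G) ∧ (N₀.relIndex L).Coprime p ∧
      (∃ m : ℕ, L.relIndex M = p ^ m) ∧ (M.relIndex H).Coprime p) :
    (V.relIndex H).Coprime p := by
  obtain ⟨hN₀L, hLM, hMH, hLn, hMn, hcopL, ⟨m, hm⟩, hcopM⟩ := h
  have hp : p.Prime := Fact.out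
  -- Step 1: `V ⊓ L ≤ N₀`
  have hVL : V ⊓ L ≤ N₀ := by
    apply le_of_coprime_relIndex_of_isPGroup (p := p) N₀ (V ⊓ L) (hVp.to_le inf_le_left)
    have h1 : N₀.relIndex (V ⊓ L) ∣ N₀.relIndex L :=
      Dvd.intro _ (Subgroup.relIndex_mul_relIndex N₀ (V ⊓ L) L (le_inf hN₀V hN₀L) inf_le_right)
    exact Nat.Coprime.coprime_dvd_left h1 hcopL
  -- Step 2: `p'`-elements of `L` are trivial
  have hL1 : ∀ b ∈ L, (orderOf b).Coprime p → b = 1 := by
    intro b hbL hbcop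
    have hbH : b ∈ H := hMH (hLM hbL)
    have hbC : b ∈ Subgroup.centralizer (V : Set G) := by
      apply hB b hbH hbcop
      intro v hv
      apply hVL
      constructor
      · exact V.mul_mem ((Subgroup.mem_normalizer_iff.1 (hVn hbH) v).1 hv) (V.inv_mem hv)
      · have h1 : v * b⁻¹ * v⁻¹ ∈ L :=
          (Subgroup.mem_normalizer_iff.1 (hLn (hVH hv)) b⁻¹).1 (L.inv_mem hbL)
        have h2 : b * v * b⁻¹ * v⁻¹ = b * (v * b⁻¹ * v⁻¹) := by group
        rw [h2]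
        exact L.mul_mem hbL h1
    have hbV : b ∈ V := hCV ⟨hbH, hbC⟩
    obtain ⟨k, hk⟩ := hVp ⟨b, hbV⟩
    have hk' : b ^ p ^ k = 1 := by
      have := congrArg Subtype.val hk
      simpa using this
    have h1 : orderOf b ∣ p ^ k := orderOf_dvd_of_pow_eq_one hk'
    have h2 : orderOf b = 1 := Nat.Coprime.eq_one_of_dvd (Nat.Coprime.pow_right k hbcop) h1
    exact orderOf_eq_one_iff.1 h2
  -- Step 3: `M` is a `p`-group
  have hMp : IsPGroup p M := by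
    apply isPGroup_of_forall_coprime_eq_one
    intro x hxM hxcop
    apply hL1 x _ hxcop
    apply mem_of_coprime_relIndex L M hLM (hMH.trans hLn) x hxM
    rw [hm]
    exact Nat.Coprime.pow_right m hxcop
  have hMV : M ≤ V := hVmax M hMH hMn hMp
  have h1 : V.relIndex H ∣ M.relIndex H :=
    Dvd.intro_left _ (Subgroup.relIndex_mul_relIndex M V H hMV hVH)
  exact Nat.Coprime.coprime_dvd_left h1 hcopM

/-- PIECE F (subdirect product step). -/
theorem coprime_relIndex_of_two_chains {G : Type*} [Group G] [Finite G] {p : ℕ} [Fact p.Prime]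
    (H V N₁ N₂ L₁ M₁ L₂ M₂ : Subgroup G) (hVH : V ≤ H) (hVp : IsPGroup p V)
    (hVmax : ∀ T : Subgroup G, T ≤ H → H ≤ Subgroup.normalizer (T : Set G) → IsPGroup p T →
      T ≤ V)
    (hOp' : ∀ T : Subgroup G, T ≤ H → H ≤ Subgroup.normalizer (T : Set G) →
      (Nat.card T).Coprime p → T = ⊥)
    (hN₁ : H ≤ Subgroup.normalizer (N₁ : Set G)) (hN₂ : H ≤ Subgroup.normalizer (N₂ : Set G))
    (hN : N₁ ⊓ N₂ = ⊥)
    (h1 : N₁ ≤ L₁ ∧ L₁ ≤ M₁ ∧ M₁ ≤ H ∧ H ≤ Subgroup.normalizer (L₁ : Set G) ∧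
      H ≤ Subgroup.normalizer (M₁ : Set G) ∧ (N₁.relIndex L₁).Coprime p ∧
      (∃ m : ℕ, L₁.relIndex M₁ = p ^ m) ∧ (M₁.relIndex H).Coprime p)
    (h2 : N₂ ≤ L₂ ∧ L₂ ≤ M₂ ∧ M₂ ≤ H ∧ H ≤ Subgroup.normalizer (L₂ : Set G) ∧
      H ≤ Subgroup.normalizer (M₂ : Set G) ∧ (N₂.relIndex L₂).Coprime p ∧
      (∃ m : ℕ, L₂.relIndex M₂ = p ^ m) ∧ (M₂.relIndex H).Coprime p) :
    (V.relIndex H).Coprime p := by
  obtain ⟨hNL₁, hLM₁, hMH₁, hLn₁, hMn₁, hcopL₁, ⟨m₁, hm₁⟩, hcopM₁⟩ := h1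
  obtain ⟨hNL₂, hLM₂, hMH₂, hLn₂, hMn₂, hcopL₂, ⟨m₂, hm₂⟩, hcopM₂⟩ := h2
  have hp : p.Prime := Fact.out
  -- (a) `L₁ ⊓ L₂ = ⊥`
  have hL : L₁ ⊓ L₂ = ⊥ := by
    apply hOp' _ (inf_le_left.trans (hLM₁.trans hMH₁)) (le_normalizer_inf_of_le H L₁ L₂ hLn₁ hLn₂)
    rw [Nat.coprime_comm, Nat.Prime.coprime_iff_not_dvd hp]
    intro hdvd
    obtain ⟨x, hx⟩ := exists_prime_orderOf_dvd_card' p hdvd
    have hx' : orderOf (x : G) = p := by rw [Subgroup.orderOf_coe]; exact hx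
    have hx1 : (x : G) ∈ N₁ := by
      apply mem_of_coprime_relIndex N₁ L₁ hNL₁ ((hLM₁.trans hMH₁).trans hN₁) _ x.2.1
      rw [hx']; exact hcopL₁.symm
    have hx2 : (x : G) ∈ N₂ := by
      apply mem_of_coprime_relIndex N₂ L₂ hNL₂ ((hLM₂.trans hMH₂).trans hN₂) _ x.2.2
      rw [hx']; exact hcopL₂.symm
    have hx3 : (x : G) ∈ N₁ ⊓ N₂ := ⟨hx1, hx2⟩
    rw [hN, Subgroup.mem_bot] at hx3
    rw [hx3, orderOf_one] at hx'
    exact hp.one_lt.ne hx'
  -- (b) `M₁ ⊓ M₂` is a `p`-group, hence inside `V`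
  have hMp : IsPGroup p (M₁ ⊓ M₂ : Subgroup G) := by
    apply isPGroup_of_forall_coprime_eq_one
    intro x hx hxcop
    have hx1 : x ∈ L₁ := by
      apply mem_of_coprime_relIndex L₁ M₁ hLM₁ (hMH₁.trans hLn₁) x hx.1
      rw [hm₁]; exact Nat.Coprime.pow_right m₁ hxcop
    have hx2 : x ∈ L₂ := by
      apply mem_of_coprime_relIndex L₂ M₂ hLM₂ (hMH₂.trans hLn₂) x hx.2
      rw [hm₂]; exact Nat.Coprime.pow_right m₂ hxcop
    have hx3 : x ∈ L₁ ⊓ L₂ := ⟨hx1, hx2⟩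
    rw [hL, Subgroup.mem_bot] at hx3
    exact hx3
  have hMV : M₁ ⊓ M₂ ≤ V :=
    hVmax _ (inf_le_left.trans hMH₁) (le_normalizer_inf_of_le H M₁ M₂ hMn₁ hMn₂) hMp
  -- (c) a Sylow `p`-subgroup of `H` lies in `V`
  obtain ⟨P⟩ : Nonempty (Sylow p H) := inferInstance
  have hPV : (P : Subgroup H) ≤ V.subgroupOf H := by
    intro y hy
    rw [Subgroup.mem_subgroupOf]
    apply hMV
    obtain ⟨k, hk⟩ := P.2 ⟨y, hy⟩
    have hk' : (y : G) ^ p ^ k = 1 := by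
      have := congrArg Subtype.val (congrArg Subtype.val hk)
      simpa using this
    have hord : orderOf (y : G) ∣ p ^ k := orderOf_dvd_of_pow_eq_one hk'
    constructor
    · apply mem_of_coprime_relIndex M₁ H hMH₁ hMn₁ _ y.2
      exact Nat.Coprime.coprime_dvd_left hord (Nat.Coprime.pow_left k hcopM₁.symm)
    · apply mem_of_coprime_relIndex M₂ H hMH₂ hMn₂ _ y.2
      exact Nat.Coprime.coprime_dvd_left hord (Nat.Coprime.pow_left k hcopM₂.symm)
  have h3 : V.relIndex H ∣ (P : Subgroup H).index := Subgroup.index_dvd_of_le hPV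
  have h4 : ¬ p ∣ (P : Subgroup H).index := P.not_dvd_index
  rw [Nat.coprime_comm, Nat.Prime.coprime_iff_not_dvd hp]
  exact fun h5 => h4 (h5.trans h3)

end Cfsg.Agent.Lib.helper60.BG36
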