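import Mathlib
import Cfsg.Prelude.Def_OddOrderLocal
import Cfsg.Agent.Lib.helper8.BGTwelve
import Cfsg.Agent.S1350
import Cfsg.Agent.S1403
import Cfsg.Agent.S1404

/-!
# Sylow subgroups of `U` in the standard factorisation `M = K U M_σ` (statement S1358)

`sylow_U`: every Sylow subgroup of `U` is abelian of rank at most two.  The first clause of the
statement of S1420 (nilpotent `σ(M)'`-subgroups of `M` are abelian) enters as the explicit
hypothesis `NilAbHyp`.
-/

set_option autoImplicit false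
open Cfsg

namespace Cfsg.Agent.Lib.helper60.BGSylU

open Cfsg.Agent.Lib.helper8

variable {G : Type*} [Group G]

/-- The first clause of the statement of S1420, as a hypothesis. -/
def NilAbHyp (G : Type*) [Group G] : Prop :=
  ∀ M : Subgroup G, IsCoatom M → ∀ E : Subgroup G, IsComplIn E (sigmaCore M) M →
    ∀ N : Subgroup G, N ≤ M → Group.IsNilpotent N →
      (∀ p : ℕ, p.Prime → p ∣ Nat.card N → p ∉ sigma M) → IsMulCommutative N

/-- `M_σ` has a complement in `M` (Schur–Zassenhaus). -/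
theorem exists_compl_sigmaCore [Finite G] (hG : IsMinSimpleOddOrder G) (M : Subgroup G)
    (hM : IsCoatom M) : ∃ E : Subgroup G, IsComplIn E (sigmaCore M) M := by
  obtain ⟨hH1, -, -⟩ := Cfsg.Agent.S1350.result hG M hM
  have hcop : Nat.Coprime (Nat.card ↥(piCore (sigma M) ↥M)) (piCore (sigma M) ↥M).index := by
    apply Nat.Coprime.symm
    apply Nat.coprime_of_dvd
    intro q hq hqi hqc
    have hqc' : q ∣ Nat.card ↥(sigmaCore M) := by
      unfold sigmaCore
      rw [Subgroup.card_map_of_injective (Subgroup.subtype_injective _)]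
      exact hqc
    have hqσ : q ∈ sigma M := hH1.2.1 q hq hqc'
    apply hH1.2.2 q hq hqσ
    unfold sigmaCore
    rw [Cfsg.Agent.Lib.helper71.BGA.relIndex_map_subtype]
    exact hqi
  obtain ⟨H, hH⟩ := Subgroup.exists_right_complement'_of_coprime hcop
  refine ⟨H.map M.subtype, Subgroup.map_subtype_le _, hH1.1, ?_, ?_⟩
  · rw [eq_bot_iff]
    rintro x ⟨⟨h, hh, rfl⟩, hx2⟩
    have hx2' : (h : G) ∈ (piCore (sigma M) ↥M).map M.subtype := hx2
    obtain ⟨n, hn, hnh⟩ := hx2'
    have hnh' : n = h := Subtype.ext hnh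
    have hmem : h ∈ piCore (sigma M) ↥M ⊓ H := ⟨hnh' ▸ hn, hh⟩
    rw [hH.disjoint.eq_bot, Subgroup.mem_bot] at hmem
    rw [Subgroup.mem_bot, hmem]
    rfl
  · intro m hm
    obtain ⟨⟨h, n⟩, hx⟩ := hH.symm.2 ⟨m, hm⟩
    refine ⟨(h : ↥M), ⟨h, h.2, rfl⟩, (n : ↥M), ⟨n, n.2, rfl⟩, ?_⟩
    have := congrArg Subtype.val hx
    exact this.symm

/-- Statement S1358 modulo `NilAbHyp`. -/
theorem sylow_U [Finite G] (hG : IsMinSimpleOddOrder G) (h20 : NilAbHyp G) (M : Subgroup G)
    (hM : IsCoatom M) (K U : Subgroup G) (hKU : IsSigmaDecomposition M K U) :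
    ∀ (p : ℕ), p.Prime → ∀ P : Sylow p U,
      IsMulCommutative (P : Subgroup U) ∧ PRankLE p 2 (P : Subgroup U) := by
  intro p hpp P
  have : Fact p.Prime := ⟨hpp⟩
  have hU : BGUniqHyp G := fun K hK h1 h2 => Cfsg.Agent.S1403.result hG K hK h1 h2
  have hF : BGFusHyp G := by
    intro M hM p hp X hXp hX1 hXM g hg
    have : Fact p.Prime := ⟨hp.1⟩
    exact (Cfsg.Agent.S1404.result hG M hM p hp X hXp hX1 hXM).1 g hg
  obtain ⟨E, hE⟩ := exists_compl_sigmaCore hG M hM
  have hUM : U ≤ M := hKU.compl.1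
  have hUinf : U ⊓ (K ⊔ sigmaCore M) = ⊥ := hKU.compl.2.2.1
  obtain ⟨N, hNdef⟩ : ∃ N : Subgroup G, N = (P : Subgroup U).map U.subtype := ⟨_, rfl⟩
  have hNU : N ≤ U := by rw [hNdef]; exact Subgroup.map_subtype_le _
  have hNp : IsPGroup p N := by rw [hNdef]; exact P.isPGroup'.map _
  have hσ : p ∈ sigma M → N = ⊥ := by
    intro hp
    have h1 : N ≤ sigmaCore M := bg_pgroup_le_sigmaCore hG hU hF M hM hp N (hNU.trans hUM) hNp
    have h2 : N ≤ U ⊓ (K ⊔ sigmaCore M) := le_inf hNU (h1.trans le_sup_right)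
    rw [hUinf] at h2
    exact le_bot_iff.mp h2
  have hNnil : Group.IsNilpotent N := hNp.isNilpotent
  have hNcomm : IsMulCommutative N := by
    apply h20 M hM E hE N (hNU.trans hUM) hNnil
    intro q hq hqN hqσ
    have hqp : q = p := by
      obtain ⟨n, hn⟩ := IsPGroup.iff_card.mp hNp
      rw [hn] at hqN
      exact (Nat.prime_dvd_prime_iff_eq hq hpp).mp (hq.dvd_of_dvd_pow hqN)
    subst hqp
    have hb := hσ hqσ
    rw [hb, Subgroup.card_bot] at hqN
    exact hq.one_lt.ne' (Nat.dvd_one.mp hqN)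
  have e : ↥(P : Subgroup U) ≃* ↥N := by
    rw [hNdef]
    exact (P : Subgroup U).equivMapOfInjective U.subtype U.subtype_injective
  refine ⟨?_, ?_⟩
  · refine ⟨⟨fun a b => ?_⟩⟩
    apply e.injective
    rw [map_mul, map_mul]
    exact hNcomm.is_comm.comm _ _
  · by_contra hr
    have hrN : ¬ PRankLE p 2 ↥N := fun h =>
      hr ((Cfsg.Agent.Lib.helper26.prankLE_congr e).mpr h)
    have hα : p ∈ alpha M :=
      ⟨hpp, fun h => hrN (Cfsg.Agent.Lib.helper26.prankLE_mono (hNU.trans hUM) h)⟩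
    have hp := bg_alpha_sub_sigma hG hU M hM hα
    have hbot := hσ hp
    apply hrN
    intro A hA hAe
    have h1 : Nat.card A ≤ Nat.card ↥N := Subgroup.card_le_card_group A
    have h2 : Nat.card ↥N = 1 := by rw [hbot]; exact Subgroup.card_bot
    rw [h2] at h1
    exact h1.trans (Nat.one_le_pow _ _ hpp.pos)

end Cfsg.Agent.Lib.helper60.BGSylU
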