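import Mathlib
import Cfsg.Prelude.Def_OddOrderLocal
import Cfsg.Agent.Lib.lead.Hall
import Cfsg.Agent.Lib.helper13.Count
import Cfsg.Agent.Lib.helper97.BGSeven1
import Cfsg.Agent.Lib.helper60.BGSylU

/-!
# Centralizers of subgroups of `U` with fixed points on `M_σ` (statement S1361)

`cent_U`: in the standard factorisation `M = K U M_σ`, a nontrivial subgroup `X ≤ U` centralizing a
non-identity element of `M_σ` has `C_G(X) ≤ M`, and `M` is the only maximal subgroup containing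
`C_G(X)`.  The statements of S1417 and S1418 enter as the hypotheses `BG7FiveHyp`, `BG7SixHyp`
of `Cfsg.Agent.Lib.helper97`.
-/

set_option autoImplicit false
open Cfsg

namespace Cfsg.Agent.Lib.helper60.BGCentU

open Cfsg.Agent.Lib.helper8 Cfsg.Agent.Lib.helper97 Cfsg.Agent.Lib.helper60.BGSylU

variable {G : Type*} [Group G]

/-- Order of a group with a complemented subgroup. -/
theorem card_of_isComplIn {A B M : Subgroup G} (h : IsComplIn A B M) :
    Nat.card A * Nat.card B = Nat.card M := by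
  obtain ⟨hA, hB, hAB, hM⟩ := h
  rw [← Nat.card_prod]
  apply Nat.card_congr
  refine Equiv.ofBijective
    (fun x : A × B => (⟨(x.1 : G) * (x.2 : G), M.mul_mem (hA x.1.2) (hB x.2.2)⟩ : M)) ⟨?_, ?_⟩
  · rintro ⟨a, b⟩ ⟨a', b'⟩ h
    have h' : (a : G) * b = a' * b' := congrArg Subtype.val h
    have h1 : (a' : G)⁻¹ * a = b' * (b : G)⁻¹ := by
      rw [inv_mul_eq_iff_eq_mul, ← mul_assoc, ← h', mul_inv_cancel_right]
    have h2 : (a' : G)⁻¹ * a ∈ A ⊓ B :=
      ⟨A.mul_mem (A.inv_mem a'.2) a.2, h1 ▸ B.mul_mem b'.2 (B.inv_mem b.2)⟩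
    rw [hAB, Subgroup.mem_bot] at h2
    have ha : (a : G) = a' := by rw [inv_mul_eq_one] at h2; exact h2.symm
    have hb : (b : G) = b' := by rw [ha] at h'; exact mul_left_cancel h'
    exact Prod.ext (Subtype.ext ha) (Subtype.ext hb)
  · rintro ⟨m, hm⟩
    obtain ⟨a, ha, b, hb, rfl⟩ := hM m hm
    exact ⟨(⟨a, ha⟩, ⟨b, hb⟩), rfl⟩

/-- A `σ(M)'`-subgroup of `M` lies in a complement of `M_σ` in `M`. -/
theorem exists_compl_ge [Finite G] (hG : IsMinSimpleOddOrder G) (M : Subgroup G) (hM : IsCoatom M)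
    (X : Subgroup G) (hXM : X ≤ M) (hX : ∀ p : ℕ, p.Prime → p ∣ Nat.card X → p ∉ sigma M) :
    ∃ E : Subgroup G, IsComplIn E (sigmaCore M) M ∧ X ≤ E := by
  obtain ⟨hodd, hsimple, hna, hsolv⟩ := id hG
  have hsolvM : Group.IsSolvable ↥M := hsolv M hM.1
  obtain ⟨E₀, hE₀⟩ := exists_compl_sigmaCore hG M hM
  obtain ⟨hH1, -, -⟩ := Cfsg.Agent.S1350.result hG M hM
  have hcard : Nat.card E₀ * Nat.card (sigmaCore M) = Nat.card M := card_of_isComplIn hE₀
  have hE₀M : E₀ ≤ M := hE₀.1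
  have hσM : sigmaCore M ≤ M := hE₀.2.1
  have hrel1 : (sigmaCore M).relIndex M = Nat.card E₀ := by
    have h1 := Cfsg.Agent.Lib.helper13.relIndex_mul_card_of_le hσM
    rw [← hcard] at h1
    exact Nat.eq_of_mul_eq_mul_right Nat.card_pos h1
  have hrel2 : E₀.relIndex M = Nat.card (sigmaCore M) := by
    have h1 := Cfsg.Agent.Lib.helper13.relIndex_mul_card_of_le hE₀M
    rw [← hcard, mul_comm (Nat.card E₀)] at h1
    exact Nat.eq_of_mul_eq_mul_right Nat.card_pos h1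
  have hcE : Nat.card (E₀.subgroupOf M) = Nat.card E₀ :=
    Nat.card_congr (Subgroup.subgroupOfEquivOfLe hE₀M).toEquiv
  have hcX : Nat.card (X.subgroupOf M) = Nat.card X :=
    Nat.card_congr (Subgroup.subgroupOfEquivOfLe hXM).toEquiv
  have hHall : Cfsg.IsPiHall (sigma M)ᶜ (E₀.subgroupOf M) := by
    refine ⟨?_, ?_⟩
    · intro p hp hpd hpσ
      rw [hcE, ← hrel1] at hpd
      exact hH1.2.2 p hp hpσ hpd
    · intro p hp hpσ hpd
      apply hpσ
      apply hH1.2.1 p hp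
      rw [← hrel2]
      exact hpd
  have hXπ : Cfsg.IsPiSubgroup (sigma M)ᶜ (X.subgroupOf M) := by
    intro p hp hpd
    rw [hcX] at hpd
    exact hX p hp hpd
  obtain ⟨g, hg⟩ := Cfsg.Agent.Lib.lead.le_conj_isPiHall_of_isSolvable hHall hXπ
  have hgN := Cfsg.Agent.Lib.helper13.le_normalizer_sigmaCore M g.2
  rw [Subgroup.mem_normalizer_iff] at hgN
  refine ⟨E₀.map (MulAut.conj (g : G)).toMonoidHom, ⟨?_, hσM, ?_, ?_⟩, ?_⟩
  · rintro _ ⟨e, he, rfl⟩
    exact M.mul_mem (M.mul_mem g.2 (hE₀M he)) (M.inv_mem g.2)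
  · rw [eq_bot_iff]
    rintro x ⟨⟨e, he, rfl⟩, hx2⟩
    have hx2' : (g : G) * e * (g : G)⁻¹ ∈ sigmaCore M := hx2
    have heσ : e ∈ sigmaCore M := (hgN e).mpr hx2'
    have he1 : e ∈ E₀ ⊓ sigmaCore M := ⟨he, heσ⟩
    rw [hE₀.2.2.1, Subgroup.mem_bot] at he1
    rw [Subgroup.mem_bot]
    show (g : G) * e * (g : G)⁻¹ = 1
    rw [he1, mul_one, mul_inv_cancel]
  · intro m hm
    have hm' : (g : G)⁻¹ * m * (g : G) ∈ M := M.mul_mem (M.mul_mem (M.inv_mem g.2) hm) g.2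
    obtain ⟨a, ha, b, hb, hab⟩ := hE₀.2.2.2 _ hm'
    refine ⟨(g : G) * a * (g : G)⁻¹, ⟨a, ha, rfl⟩, (g : G) * b * (g : G)⁻¹, (hgN b).mp hb, ?_⟩
    have : m = (g : G) * (a * b) * (g : G)⁻¹ := by rw [← hab]; group
    rw [this]; group
  · intro x hx
    have hx' : (⟨x, hXM hx⟩ : ↥M) ∈ X.subgroupOf M := Subgroup.mem_subgroupOf.mpr hx
    obtain ⟨e, he, hee⟩ := hg hx'
    refine ⟨(e : G), Subgroup.mem_subgroupOf.mp he, ?_⟩
    have := congrArg Subtype.val hee
    exact this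

/-- The centralizer of a nontrivial subgroup of a proper subgroup is proper. -/
theorem centralizer_ne_top [Finite G] (hG : IsMinSimpleOddOrder G) {X M : Subgroup G}
    (hM : IsCoatom M) (hXM : X ≤ M) (hX1 : X ≠ ⊥) : Subgroup.centralizer (X : Set G) ≠ ⊤ := by
  obtain ⟨-, hsimple, -, -⟩ := id hG
  have := hsimple
  have hNtop : Subgroup.normalizer (X : Set G) ≠ ⊤ := by
    intro h
    have hXn : X.Normal := Subgroup.normalizer_eq_top_iff.mp h
    rcases hXn.eq_bot_or_eq_top with h1 | h1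
    · exact hX1 h1
    · exact hM.1 (top_le_iff.mp (h1 ▸ hXM))
  intro h
  apply hNtop
  rw [← top_le_iff, ← h]
  exact Subgroup.centralizer_le_normalizer _

/-- Primes of a subgroup of `U` with a fixed point on `M_σ` lie in `τ₂(M)`. -/
theorem mem_tau2_of_dvd [Finite G] (hG : IsMinSimpleOddOrder G) (M : Subgroup G) (hM : IsCoatom M)
    (K U : Subgroup G) (hKU : IsSigmaDecomposition M K U) (X : Subgroup G) (hXU : X ≤ U)
    (hXc : sigmaCore M ⊓ Subgroup.centralizer (X : Set G) ≠ ⊥) (p : ℕ) (hpp : p.Prime)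
    (hpX : p ∣ Nat.card X) : p ∈ tau2 M := by
  have : Fact p.Prime := ⟨hpp⟩
  obtain ⟨hodd, -, -, -⟩ := id hG
  have hU : BGUniqHyp G := fun K hK h1 h2 => Cfsg.Agent.S1403.result hG K hK h1 h2
  have hF : BGFusHyp G := by
    intro M hM p hp X hXp hX1 hXM g hg
    have : Fact p.Prime := ⟨hp.1⟩
    exact (Cfsg.Agent.S1404.result hG M hM p hp X hXp hX1 hXM).1 g hg
  have hUM : U ≤ M := hKU.compl.1
  have hUinf : U ⊓ (K ⊔ sigmaCore M) = ⊥ := hKU.compl.2.2.1
  have hXM : X ≤ M := hXU.trans hUM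
  obtain ⟨x, hx⟩ := exists_prime_orderOf_dvd_card' (G := ↥X) p hpX
  have hxG : orderOf (x : G) = p := by rw [Subgroup.orderOf_coe, hx]
  have hx1 : (x : G) ≠ 1 := by
    intro h
    rw [h, orderOf_one] at hxG
    exact hpp.one_lt.ne hxG
  have hpσ : p ∉ sigma M := by
    intro hp
    have hQp : IsPGroup p (Subgroup.zpowers (x : G)) :=
      IsPGroup.of_card (n := 1) (by rw [Nat.card_zpowers, hxG, pow_one])
    have hQX : Subgroup.zpowers (x : G) ≤ X := by rw [Subgroup.zpowers_le]; exact x.2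
    have h1 : Subgroup.zpowers (x : G) ≤ sigmaCore M :=
      bg_pgroup_le_sigmaCore hG hU hF M hM hp _ (hQX.trans hXM) hQp
    have h2 : Subgroup.zpowers (x : G) ≤ U ⊓ (K ⊔ sigmaCore M) :=
      le_inf (hQX.trans hXU) (h1.trans le_sup_right)
    rw [hUinf] at h2
    exact hx1 (Subgroup.mem_bot.mp (h2 (Subgroup.mem_zpowers _)))
  have hpκ : p ∉ kappa M := by
    intro hp
    obtain ⟨hKM, -, hKidx⟩ := hKU.hall
    apply hKidx p hpp hp
    have h1 : Nat.card U * Nat.card ↥(K ⊔ sigmaCore M) = Nat.card M :=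
      card_of_isComplIn hKU.compl
    have h2 := Cfsg.Agent.Lib.helper13.relIndex_mul_card_of_le hKM
    obtain ⟨t, ht⟩ : Nat.card K ∣ Nat.card ↥(K ⊔ sigmaCore M) := Subgroup.card_dvd_of_le le_sup_left
    have h3 : Nat.card U * t = K.relIndex M := by
      have h4 : Nat.card U * t * Nat.card K = K.relIndex M * Nat.card K := by
        rw [h2, ← h1, ht]; ring
      exact Nat.eq_of_mul_eq_mul_right Nat.card_pos h4
    rw [← h3]
    exact (hpX.trans (Subgroup.card_dvd_of_le hXU)).mul_right t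
  have hr2 : PRankLE p 2 M := by
    by_contra h
    exact hpσ (bg_alpha_sub_sigma hG hU M hM ⟨hpp, h⟩)
  refine ⟨hpp, hpσ, hr2, ?_⟩
  intro hr1
  apply hpκ
  have hpM : p ∣ Nat.card M := hpX.trans (Subgroup.card_dvd_of_le hXM)
  refine ⟨hpp, hpM, hpσ, ?_⟩
  intro P₀
  have hcyc : IsCyclic P₀ := bg_sylow_cyclic_of_prank_one hodd (le_refl M) p hr1 P₀
  refine ⟨hcyc, ?_⟩
  -- move `x` into `P₀`
  have hxp : IsPGroup p (Subgroup.zpowers (⟨(x : G), hXM x.2⟩ : ↥M)) := by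
    apply IsPGroup.of_card (n := 1)
    rw [Nat.card_zpowers, pow_one, ← hxG]
    exact (Subgroup.orderOf_coe (⟨(x : G), hXM x.2⟩ : ↥M)).symm
  obtain ⟨P₁, hP₁⟩ := hxp.exists_le_sylow
  obtain ⟨g, hg⟩ := MulAction.exists_smul_eq ↥M P₁ P₀
  have hxP₁ : (⟨(x : G), hXM x.2⟩ : ↥M) ∈ P₁ := hP₁ (Subgroup.mem_zpowers _)
  have hmem : g * ⟨(x : G), hXM x.2⟩ * g⁻¹ ∈ P₀ := by
    rw [← hg]
    apply (bg_mem_smul_sylow P₁ g _).mpr
    have : g⁻¹ * (g * ⟨(x : G), hXM x.2⟩ * g⁻¹) * g = ⟨(x : G), hXM x.2⟩ := by group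
    rw [this]; exact hxP₁
  obtain ⟨y, hy1⟩ := (Subgroup.ne_bot_iff_exists_ne_one).mp hXc
  obtain ⟨hyσ, hyc⟩ := Subgroup.mem_inf.mp y.2
  have hgN := Cfsg.Agent.Lib.helper13.le_normalizer_sigmaCore M g.2
  rw [Subgroup.mem_normalizer_iff] at hgN
  have hcomm : (x : G) * (y : G) = (y : G) * (x : G) :=
    Subgroup.mem_centralizer_iff.mp hyc (x : G) x.2
  refine ⟨g * ⟨(x : G), hXM x.2⟩ * g⁻¹, hmem, ?_, (g : G) * (y : G) * (g : G)⁻¹, (hgN _).mp hyσ, ?_, ?_⟩
  · intro h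
    apply hx1
    have h' : (⟨(x : G), hXM x.2⟩ : ↥M) = 1 := by
      have := congrArg (fun z => g⁻¹ * z * g) h
      simpa [mul_assoc] using this
    exact congrArg Subtype.val h'
  · intro h
    apply hy1
    have h' : (y : G) = 1 := by
      have := congrArg (fun z => (g : G)⁻¹ * z * (g : G)) h
      simpa [mul_assoc] using this
    exact Subtype.ext h'
  · show (g : G) * (x : G) * (g : G)⁻¹ * ((g : G) * (y : G) * (g : G)⁻¹) =
      (g : G) * (y : G) * (g : G)⁻¹ * ((g : G) * (x : G) * (g : G)⁻¹)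
    calc (g : G) * (x : G) * (g : G)⁻¹ * ((g : G) * (y : G) * (g : G)⁻¹)
        = (g : G) * ((x : G) * (y : G)) * (g : G)⁻¹ := by group
      _ = (g : G) * ((y : G) * (x : G)) * (g : G)⁻¹ := by rw [hcomm]
      _ = (g : G) * (y : G) * (g : G)⁻¹ * ((g : G) * (x : G) * (g : G)⁻¹) := by group

/-- **Theorem II(b)-type statement (S1361)**, modulo the statements of S1417 and S1418: in the
standard factorisation `M = K U M_σ`, a nontrivial `X ≤ U` with `C_{M_σ}(X) ≠ 1` has `C_G(X) ≤ M`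
and `M` is the only maximal subgroup containing `C_G(X)`. -/
theorem cent_U [Finite G] (hG : IsMinSimpleOddOrder G) (h17 : BG7FiveHyp G) (h18 : BG7SixHyp G)
    (M : Subgroup G) (hM : IsCoatom M) (K U : Subgroup G) (hKU : IsSigmaDecomposition M K U)
    (X : Subgroup G) (hXU : X ≤ U) (hX : X ≠ ⊥)
    (hXc : sigmaCore M ⊓ Subgroup.centralizer (X : Set G) ≠ ⊥) :
    Subgroup.centralizer (X : Set G) ≤ M ∧
      ∀ L : Subgroup G, IsCoatom L → Subgroup.centralizer (X : Set G) ≤ L → L = M := by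
  have hUM : U ≤ M := hKU.compl.1
  have hXM : X ≤ M := hXU.trans hUM
  have hτ : ∀ p : ℕ, p.Prime → p ∣ Nat.card X → p ∈ tau2 M :=
    fun p hp hpX => mem_tau2_of_dvd hG M hM K U hKU X hXU hXc p hp hpX
  obtain ⟨E, hE, hXE⟩ := exists_compl_ge hG M hM X hXM (fun p hp hpX => (hτ p hp hpX).2.1)
  have hcard1 : Nat.card X ≠ 1 := fun h => hX (Subgroup.eq_bot_of_card_eq X h)
  obtain ⟨p, hpp, hpX⟩ := Nat.exists_prime_and_dvd hcard1
  have : Fact p.Prime := ⟨hpp⟩
  have hp : p ∈ tau2 M := hτ p hpp hpX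
  obtain ⟨A, hA⟩ := bg7_exists_elemAb_compl M E hE p hp
  have hEM : E ≤ M := hE.1
  have hAM : A ≤ M := hA.1.trans hEM
  obtain ⟨⟨hEN, -⟩, ⟨hCA, hMN, -⟩, -⟩ := h18 M hM E hE p hp A hA
  have hCE : Subgroup.centralizer (A : Set G) ≤ E := hMN ▸ hCA
  obtain ⟨-, hSyl, -, -, huniq, -⟩ := h17 M hM p hp A ⟨hAM, hA.2.1, hA.2.2⟩
  have hAp : IsPGroup p A := IsPGroup.of_card hA.2.2
  -- `X` centralizes `A`
  have hXA : X ≤ Subgroup.centralizer (A : Set G) := by
    apply bg_le_of_pgroups_le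
    intro r _ Q hQX hQ
    by_cases hQ1 : Q = ⊥
    · rw [hQ1]; exact bot_le
    have hrX : r ∣ Nat.card X := by
      obtain ⟨n, hn⟩ := IsPGroup.iff_card.mp hQ
      have hn0 : n ≠ 0 := by
        rintro rfl
        rw [pow_zero] at hn
        exact hQ1 (Subgroup.eq_bot_of_card_eq Q hn)
      have h1 : r ∣ Nat.card Q := by rw [hn]; exact dvd_pow_self r hn0
      exact h1.trans (Subgroup.card_dvd_of_le hQX)
    have hr : r ∈ tau2 M := hτ r Fact.out hrX
    have hQE : Q ≤ E := hQX.trans hXE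
    by_cases hrp : r = p
    · -- `Q A` is a `p`-subgroup of `M`, inside an abelian Sylow `p`-subgroup of `M`
      have hQp : IsPGroup p Q := hrp ▸ hQ
      have hQA : IsPGroup p (Q ⊔ A : Subgroup G) :=
        hQp.to_sup_of_normal_right' hAp (hQE.trans hEN)
      have hQAM : Q ⊔ A ≤ M := sup_le (hQE.trans hEM) hAM
      have hQA' : IsPGroup p ((Q ⊔ A).subgroupOf M) := hQA.comap_subtype
      obtain ⟨P, hP⟩ := hQA'.exists_le_sylow
      have hcomm := (hSyl P).1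
      intro q hq
      rw [Subgroup.mem_centralizer_iff]
      intro a ha
      have hqP : (⟨q, hQAM (Subgroup.mem_sup_left hq)⟩ : ↥M) ∈ (P : Subgroup ↥M) :=
        hP (Subgroup.mem_subgroupOf.mpr (Subgroup.mem_sup_left hq))
      have haP : (⟨a, hQAM (Subgroup.mem_sup_right ha)⟩ : ↥M) ∈ (P : Subgroup ↥M) :=
        hP (Subgroup.mem_subgroupOf.mpr (Subgroup.mem_sup_right ha))
      have h1 := hcomm.is_comm.comm ⟨_, haP⟩ ⟨_, hqP⟩
      exact congrArg (fun z : ↥(P : Subgroup ↥M) => ((z : ↥M) : G)) h1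
    · -- a Sylow `r`-subgroup of `G` lies in `C_G(A) ≤ E`; conjugate `Q` into it inside `E`
      obtain ⟨B, hB⟩ := bg7_exists_elemAb_compl M E hE r hr
      obtain ⟨Q1, hQ1C⟩ :=
        bg7_exists_sylow_centralizing hG h17 h18 M hM E hE p r (Ne.symm hrp) hp hr A hA B hB
      have hQ1E : (Q1 : Subgroup G) ≤ E := hQ1C.trans hCE
      have hQ' : IsPGroup r (Q.subgroupOf E) := hQ.comap_subtype
      obtain ⟨P', hP'⟩ := hQ'.exists_le_sylow
      obtain ⟨e, he⟩ := MulAction.exists_smul_eq ↥E P' (Q1.subtype hQ1E)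
      intro q hq
      rw [Subgroup.mem_centralizer_iff]
      intro a ha
      have hqP' : (⟨q, hQE hq⟩ : ↥E) ∈ (P' : Subgroup ↥E) :=
        hP' (Subgroup.mem_subgroupOf.mpr hq)
      have hmem : e * ⟨q, hQE hq⟩ * e⁻¹ ∈ ((Q1.subtype hQ1E : Sylow r ↥E) : Subgroup ↥E) := by
        rw [← he]
        apply (bg_mem_smul_sylow P' e _).mpr
        have : e⁻¹ * (e * ⟨q, hQE hq⟩ * e⁻¹) * e = ⟨q, hQE hq⟩ := by group
        rw [this]; exact hqP'
      have hmem' : (e : G) * q * (e : G)⁻¹ ∈ (Q1 : Subgroup G) := by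
        rw [Sylow.coe_subtype] at hmem
        exact Subgroup.mem_subgroupOf.mp hmem
      have hc : (e : G) * q * (e : G)⁻¹ ∈ Subgroup.centralizer (A : Set G) := hQ1C hmem'
      have heN : (e : G) ∈ Subgroup.normalizer (A : Set G) := hEN e.2
      have hea : (e : G) * a * (e : G)⁻¹ ∈ A := (Subgroup.mem_normalizer_iff.mp heN a).mp ha
      have h1 := Subgroup.mem_centralizer_iff.mp hc _ hea
      -- h1 : e a e⁻¹ * (e q e⁻¹) = e q e⁻¹ * (e a e⁻¹)
      have h2 : (e : G) * (a * q) * (e : G)⁻¹ = (e : G) * (q * a) * (e : G)⁻¹ := by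
        calc (e : G) * (a * q) * (e : G)⁻¹
            = (e : G) * a * (e : G)⁻¹ * ((e : G) * q * (e : G)⁻¹) := by group
          _ = (e : G) * q * (e : G)⁻¹ * ((e : G) * a * (e : G)⁻¹) := h1
          _ = (e : G) * (q * a) * (e : G)⁻¹ := by group
      exact mul_left_cancel (mul_right_cancel h2)
  have hAX : A ≤ Subgroup.centralizer (X : Set G) := Subgroup.le_centralizer_iff.mp hXA
  have huniq' : ∀ L : Subgroup G, IsCoatom L → Subgroup.centralizer (X : Set G) ≤ L → L = M := by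
    intro L hL hCL
    by_contra hne
    apply hXc
    rw [eq_bot_iff, ← huniq L hL hne (hAX.trans hCL)]
    exact inf_le_inf_left _ hCL
  refine ⟨?_, huniq'⟩
  obtain ⟨L, hL, hCL⟩ :=
    (eq_top_or_exists_le_coatom (Subgroup.centralizer (X : Set G))).resolve_left
      (centralizer_ne_top hG hM hXM hX)
  exact (huniq' L hL hCL) ▸ hCL

end Cfsg.Agent.Lib.helper60.BGCentU
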