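import Mathlib
import Cfsg.Prelude.Def_OddOrderLocal
import Cfsg.Agent.Lib.helper8.BGTwelve
import Cfsg.Agent.Lib.helper13.Count
import Cfsg.Agent.Lib.helper30.NarrowIso
import Cfsg.Agent.S1350
import Cfsg.Agent.S1403
import Cfsg.Agent.S1404
import Cfsg.Agent.S1412
import Cfsg.Agent.S1414
import Cfsg.Agent.S1452
import Cfsg.Agent.S1453

/-!
# B-G Theorem 13.1 (statement S1423), modulo the statement of S1422

`bg_13_1`: for `p ∈ σ(M)`, `X ≤ M` of order `p`, with `p ∈ β(M)` or `X ≤ (M_σ)'`: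
`C_G(X)` lies in `M` and in no other maximal subgroup, and a Sylow `p`-subgroup of `M_σ`
lies in a unique maximal subgroup.  The statement of S1422 (nonabelian `p`-subgroups lie in a
unique maximal subgroup) enters as the explicit hypothesis `NonabUniqHyp`.
-/

set_option autoImplicit false
open Cfsg
open scoped commutatorElement

namespace Cfsg.Agent.Lib.helper60.BG131

open Cfsg.Agent.Lib.helper8

variable {G : Type*} [Group G]

/-- The statement of S1422, as a hypothesis. -/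
def NonabUniqHyp (G : Type*) [Group G] : Prop :=
  ∀ (p : ℕ) [Fact p.Prime] (P : Subgroup G), IsPGroup p P → ¬ IsMulCommutative P →
    InUniqueMaximal P

/-- Elements of a join of two elementwise commuting subgroups are products. -/
theorem mem_sup_comm {P₁ P₂ : Subgroup G} (hc : ∀ a ∈ P₁, ∀ b ∈ P₂, a * b = b * a) {s : G}
    (hs : s ∈ P₁ ⊔ P₂) : ∃ a ∈ P₁, ∃ z ∈ P₂, s = a * z := by
  rw [Subgroup.sup_eq_closure_mul] at hs
  induction hs using Subgroup.closure_induction with
  | mem x hx =>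
    obtain ⟨a, ha, z, hz, rfl⟩ := Set.mem_mul.mp hx
    exact ⟨a, ha, z, hz, rfl⟩
  | one => exact ⟨1, P₁.one_mem, 1, P₂.one_mem, (mul_one 1).symm⟩
  | mul x y _ _ hx hy =>
    obtain ⟨a, ha, z, hz, rfl⟩ := hx
    obtain ⟨a', ha', z', hz', rfl⟩ := hy
    refine ⟨a * a', P₁.mul_mem ha ha', z * z', P₂.mul_mem hz hz', ?_⟩
    have := hc a' ha' z hz
    calc a * z * (a' * z') = a * (z * a') * z' := by group
      _ = a * (a' * z) * z' := by rw [this]
      _ = a * a' * (z * z') := by group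
  | inv x _ hx =>
    obtain ⟨a, ha, z, hz, rfl⟩ := hx
    refine ⟨a⁻¹, P₁.inv_mem ha, z⁻¹, P₂.inv_mem hz, ?_⟩
    have := hc a⁻¹ (P₁.inv_mem ha) z⁻¹ (P₂.inv_mem hz)
    rw [mul_inv_rev, this]

/-- A central product of a nonabelian group of order `p³` with a cyclic group has class two. -/
theorem comm_le_centralizer_of_central_product (p : ℕ) [Fact p.Prime] {S P₁ P₂ : Subgroup G}
    (hsup : P₁ ⊔ P₂ = S) (hc : ∀ a ∈ P₁, ∀ b ∈ P₂, a * b = b * a)
    (hna : ¬ IsMulCommutative P₁) (hcard : Nat.card P₁ = p ^ 3) (hcyc : IsCyclic P₂) :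
    ⁅S, S⁆ ≤ Subgroup.centralizer (S : Set G) := by
  have hP₂comm : ∀ a ∈ P₂, ∀ b ∈ P₂, a * b = b * a := by
    intro a ha b hb
    have hmc : IsMulCommutative P₂ := IsCyclic.isMulCommutative
    exact congrArg Subtype.val (hmc.is_comm.comm (⟨a, ha⟩ : P₂) ⟨b, hb⟩)
  have hZ : ⁅P₁, P₁⁆ = P₁ ⊓ Subgroup.centralizer (P₁ : Set G) :=
    bg_comm_eq_center_of_card_cube p P₁ hcard hna
  subst hsup
  rw [Subgroup.commutator_le]
  intro a ha b hb
  obtain ⟨a₁, ha₁, z₁, hz₁, rfl⟩ := mem_sup_comm hc ha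
  obtain ⟨b₁, hb₁, z₂, hz₂, rfl⟩ := mem_sup_comm hc hb
  have c1 : Commute z₁ b₁ := (hc b₁ hb₁ z₁ hz₁).symm
  have c2 : Commute z₁ z₂ := hP₂comm z₁ hz₁ z₂ hz₂
  have c3 : Commute z₂ a₁ := (hc a₁ ha₁ z₂ hz₂).symm
  have e1 : z₁ * (b₁ * z₂) * z₁⁻¹ = b₁ * z₂ := by
    rw [(c1.mul_right c2).eq, mul_inv_cancel_right]
  have e2 : z₂ * a₁⁻¹ * z₂⁻¹ = a₁⁻¹ := by
    rw [(c3.inv_right).eq, mul_inv_cancel_right]
  have key : ⁅a₁ * z₁, b₁ * z₂⁆ = ⁅a₁, b₁⁆ := by
    calc ⁅a₁ * z₁, b₁ * z₂⁆ = a₁ * (z₁ * (b₁ * z₂) * z₁⁻¹) * a₁⁻¹ * (b₁ * z₂)⁻¹ := by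
          rw [commutatorElement_def]; group
      _ = a₁ * (b₁ * z₂) * a₁⁻¹ * (b₁ * z₂)⁻¹ := by rw [e1]
      _ = a₁ * b₁ * (z₂ * a₁⁻¹ * z₂⁻¹) * b₁⁻¹ := by group
      _ = a₁ * b₁ * a₁⁻¹ * b₁⁻¹ := by rw [e2]
      _ = ⁅a₁, b₁⁆ := by rw [commutatorElement_def]
  rw [key]
  have ht : ⁅a₁, b₁⁆ ∈ P₁ ⊓ Subgroup.centralizer (P₁ : Set G) := by
    rw [← hZ]; exact Subgroup.commutator_mem_commutator ha₁ hb₁
  obtain ⟨ht1, ht2⟩ := Subgroup.mem_inf.mp ht
  rw [Subgroup.mem_centralizer_iff]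
  intro h hh
  obtain ⟨d₁, hd₁, d₂, hd₂, rfl⟩ := mem_sup_comm hc hh
  have f1 : d₁ * ⁅a₁, b₁⁆ = ⁅a₁, b₁⁆ * d₁ := Subgroup.mem_centralizer_iff.mp ht2 d₁ hd₁
  have f2 : ⁅a₁, b₁⁆ * d₂ = d₂ * ⁅a₁, b₁⁆ := hc _ ht1 d₂ hd₂
  calc d₁ * d₂ * ⁅a₁, b₁⁆ = d₁ * (d₂ * ⁅a₁, b₁⁆) := by rw [mul_assoc]
    _ = d₁ * (⁅a₁, b₁⁆ * d₂) := by rw [f2]
    _ = d₁ * ⁅a₁, b₁⁆ * d₂ := by rw [mul_assoc]
    _ = ⁅a₁, b₁⁆ * d₁ * d₂ := by rw [f1]
    _ = ⁅a₁, b₁⁆ * (d₁ * d₂) := by rw [mul_assoc]

/-- Focal subgroup with a normal complement: `H' ∩ Q = Q'` when `H = N ⋊ Q`. -/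
theorem focal_of_complement {H : Type*} [Group H] (N Q : Subgroup H) [N.Normal]
    (hd : N ⊓ Q = ⊥) (hs : N ⊔ Q = ⊤) {x : H} (hx : x ∈ commutator H) (hxQ : x ∈ Q) :
    x ∈ ⁅Q, Q⁆ := by
  have h1 : (⊤ : Subgroup H).map (QuotientGroup.mk' N) = Q.map (QuotientGroup.mk' N) := by
    rw [← hs, Subgroup.map_sup]
    have : N.map (QuotientGroup.mk' N) = ⊥ := by
      rw [Subgroup.map_eq_bot_iff, QuotientGroup.ker_mk']
    rw [this, bot_sup_eq]
  have h2 : QuotientGroup.mk' N x ∈ (⁅Q, Q⁆).map (QuotientGroup.mk' N) := by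
    rw [Subgroup.map_commutator, ← h1, ← Subgroup.map_commutator]
    exact Subgroup.mem_map_of_mem _ (by rwa [commutator_def] at hx)
  obtain ⟨c, hc, hcx⟩ := h2
  have hQQ : ⁅Q, Q⁆ ≤ Q :=
    Subgroup.commutator_le.mpr (fun a ha b hb =>
      Q.mul_mem (Q.mul_mem (Q.mul_mem ha hb) (Q.inv_mem ha)) (Q.inv_mem hb))
  have h3 : c⁻¹ * x ∈ N := QuotientGroup.eq.mp hcx
  have h4 : c⁻¹ * x ∈ N ⊓ Q := ⟨h3, Q.mul_mem (Q.inv_mem (hQQ hc)) hxQ⟩
  rw [hd, Subgroup.mem_bot] at h4
  have : x = c := by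
    rw [inv_mul_eq_one] at h4; exact h4.symm
  rw [this]; exact hc

/-- The derived subgroup lies in every normal subgroup of prime index. -/
theorem commutator_le_of_index_prime {R : Type*} [Group R] {p : ℕ} [Fact p.Prime]
    (N : Subgroup R) [N.Normal] (hN : N.index = p) : commutator R ≤ N := by
  have hcard : Nat.card (R ⧸ N) = p := by rw [← Subgroup.index_eq_card]; exact hN
  have hcyc : IsCyclic (R ⧸ N) := isCyclic_of_prime_card hcard
  let _ : CommGroup (R ⧸ N) := IsCyclic.commGroup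
  have := Abelianization.commutator_subset_ker (QuotientGroup.mk' N)
  rwa [QuotientGroup.ker_mk'] at this

/-- Transport of a maximal elementary abelian subgroup along an isomorphism. -/
theorem elemAb_max_transport {R₀ R : Type*} [Group R₀] [Group R] (e : R₀ ≃* R) {p : ℕ}
    (E₀ : Subgroup R₀) (hE : IsElementaryAbelian p E₀)
    (hmax : ∀ B : Subgroup R₀, IsElementaryAbelian p B → E₀ ≤ B → B = E₀) :
    IsElementaryAbelian p (E₀.map e.toMonoidHom) ∧
      Nat.card (E₀.map e.toMonoidHom) = Nat.card E₀ ∧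
      ∀ B : Subgroup R, IsElementaryAbelian p B → E₀.map e.toMonoidHom ≤ B →
        B = E₀.map e.toMonoidHom := by
  rw [bg_elemAb_iff] at hE
  refine ⟨?_, Subgroup.card_map_of_injective e.injective, ?_⟩
  · rw [bg_elemAb_iff]
    refine ⟨?_, ?_⟩
    · rintro _ ⟨a, ha, rfl⟩ _ ⟨b, hb, rfl⟩
      show e a * e b = e b * e a
      rw [← map_mul, ← map_mul, hE.1 a ha b hb]
    · rintro _ ⟨a, ha, rfl⟩
      show e a ^ p = 1
      rw [← map_pow, hE.2 a ha, map_one]
  · intro B hB hle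
    rw [bg_elemAb_iff] at hB
    have hB' : IsElementaryAbelian p (B.comap e.toMonoidHom) := by
      rw [bg_elemAb_iff]
      refine ⟨?_, ?_⟩
      · intro a ha b hb
        apply e.injective
        rw [map_mul, map_mul]
        exact hB.1 _ ha _ hb
      · intro a ha
        apply e.injective
        rw [map_pow, map_one]
        exact hB.2 _ ha
    have hle' : E₀ ≤ B.comap e.toMonoidHom := by
      intro x hx
      exact hle ⟨x, hx, rfl⟩
    have := hmax _ hB' hle'
    rw [← this, Subgroup.map_comap_eq_self_of_surjective e.surjective]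

/-- For a non-ideal prime of rank at least three, every Sylow subgroup has a maximal elementary
abelian subgroup of order `p²`. -/
theorem exists_max_elemAb_of_not_ideal [Finite G] (p : ℕ) [Fact p.Prime]
    (hni : ¬ IsIdealPrime p G) (hrG : ¬ PRankLE p 2 G) (S : Sylow p G) :
    ∃ E : Subgroup ↥(S : Subgroup G), IsElementaryAbelian p E ∧ Nat.card E = p ^ 2 ∧
      ∀ B : Subgroup ↥(S : Subgroup G), IsElementaryAbelian p B → E ≤ B → B = E := by
  have hpp : p.Prime := Fact.out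
  have hex : ∃ (P₀ : Sylow p G) (A : Subgroup G), A ≤ (P₀ : Subgroup G) ∧
      IsElementaryAbelian p A ∧ Nat.card A = p ^ 2 ∧
      ∀ B : Subgroup G, B ≤ (P₀ : Subgroup G) → IsElementaryAbelian p B → ¬ A < B := by
    by_contra hcon
    apply hni
    refine ⟨hpp, hrG, ?_⟩
    intro P A hAP hAe hA2
    by_contra h2
    apply hcon
    refine ⟨P, A, hAP, hAe, hA2, ?_⟩
    intro B hBP hBe hAB
    exact h2 ⟨B, hBP, hBe, hAB⟩
  obtain ⟨P₀, A, hAP, hAe, hA2, hAmax⟩ := hex
  have hE₀e : IsElementaryAbelian p (A.subgroupOf (P₀ : Subgroup G)) :=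
    bg_elemAb_subgroupOf (P₀ : Subgroup G) hAe
  have hE₀c : Nat.card (A.subgroupOf (P₀ : Subgroup G)) = p ^ 2 := by
    rw [Nat.card_congr (Subgroup.subgroupOfEquivOfLe hAP).toEquiv, hA2]
  have hE₀max : ∀ B : Subgroup ↥(P₀ : Subgroup G), IsElementaryAbelian p B →
      A.subgroupOf (P₀ : Subgroup G) ≤ B → B = A.subgroupOf (P₀ : Subgroup G) := by
    intro B hBe hAB
    have h1 : IsElementaryAbelian p (B.map (P₀ : Subgroup G).subtype) := bg_elemAb_map B hBe
    have h2 : A ≤ B.map (P₀ : Subgroup G).subtype := by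
      intro a ha
      exact ⟨⟨a, hAP ha⟩, hAB (Subgroup.mem_subgroupOf.mpr ha), rfl⟩
    have h3 : A = B.map (P₀ : Subgroup G).subtype := by
      by_contra hne
      exact hAmax _ (Subgroup.map_subtype_le _) h1 (lt_of_le_of_ne h2 hne)
    rw [h3]
    ext x
    simp [Subgroup.mem_subgroupOf]
  obtain ⟨t1, t2, t3⟩ := elemAb_max_transport (Sylow.equiv P₀ S) _ hE₀e hE₀max
  exact ⟨_, t1, t2.trans hE₀c, t3⟩

/-- If a uniqueness subgroup `K ≤ M` centralizes `X ≠ 1`, `X ≤ M`, then `M` is the unique maximal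
subgroup containing `C_G(X)`. -/
theorem uniq_of_le_centralizer [Finite G] (hG : IsMinSimpleOddOrder G) {X K M : Subgroup G}
    (hM : IsCoatom M) (hXM : X ≤ M) (hX1 : X ≠ ⊥) (hKM : K ≤ M)
    (hKX : K ≤ Subgroup.centralizer (X : Set G)) (hK : InUniqueMaximal K) :
    Subgroup.centralizer (X : Set G) ≤ M ∧
      ∀ L : Subgroup G, IsCoatom L → Subgroup.centralizer (X : Set G) ≤ L → L = M := by
  obtain ⟨-, hsimple, -, -⟩ := id hG
  have := hsimple
  have hNtop : Subgroup.normalizer (X : Set G) ≠ ⊤ := by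
    intro h
    have hXn : X.Normal := Subgroup.normalizer_eq_top_iff.mp h
    rcases hXn.eq_bot_or_eq_top with h1 | h1
    · exact hX1 h1
    · exact hM.1 (top_le_iff.mp (h1 ▸ hXM))
  have hCtop : Subgroup.centralizer (X : Set G) ≠ ⊤ := by
    intro h
    apply hNtop
    rw [← top_le_iff, ← h]
    exact Subgroup.centralizer_le_normalizer _
  have huniq : ∀ L : Subgroup G, IsCoatom L → Subgroup.centralizer (X : Set G) ≤ L → L = M :=
    fun L hL hCL => hK.unique ⟨hL, hKX.trans hCL⟩ ⟨hM, hKM⟩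
  obtain ⟨L, hL, hCL⟩ :=
    (eq_top_or_exists_le_coatom (Subgroup.centralizer (X : Set G))).resolve_left hCtop
  have hLM : L = M := huniq L hL hCL
  exact ⟨hLM ▸ hCL, huniq⟩

/-- A subgroup of prime order is elementary abelian. -/
theorem elemAb_of_card_prime {p : ℕ} [Fact p.Prime] (X : Subgroup G) (hX : Nat.card X = p) :
    IsElementaryAbelian p X := by
  have hcyc : IsCyclic X := isCyclic_of_prime_card hX
  rw [bg_elemAb_iff]
  refine ⟨?_, ?_⟩
  · intro a ha b hb
    have hmc : IsMulCommutative X := IsCyclic.isMulCommutative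
    exact congrArg Subtype.val (hmc.is_comm.comm (⟨a, ha⟩ : X) ⟨b, hb⟩)
  · intro a ha
    have h1 : (⟨a, ha⟩ : X) ^ Nat.card X = 1 := pow_card_eq_one'
    rw [hX] at h1
    exact congrArg Subtype.val h1

/-- For an ideal prime, a Sylow `p`-subgroup of `G` inside a maximal subgroup is a uniqueness
subgroup. -/
theorem ideal_sylow_uniq [Finite G] (hG : IsMinSimpleOddOrder G) (M : Subgroup G) (hM : IsCoatom M)
    (p : ℕ) [Fact p.Prime] (hideal : IsIdealPrime p G) (S : Sylow p G)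
    (hSM : (S : Subgroup G) ≤ M) : InUniqueMaximal (S : Subgroup G) := by
  have hpp : p.Prime := Fact.out
  obtain ⟨-, hrG, -⟩ := hideal
  have hS3 : ¬ PRankLE p 2 ↥(S : Subgroup G) :=
    fun h => hrG (Cfsg.Agent.Lib.helper30.prankLE_of_sylow p 2 S h)
  have hStop : (S : Subgroup G) ≠ ⊤ := fun h => hM.1 (top_le_iff.mp (h ▸ hSM))
  apply Cfsg.Agent.S1403.result hG _ hStop
  · intro h
    apply hS3
    intro A hA hAe
    exact (h p hpp A hA hAe).trans (Nat.pow_le_pow_right hpp.pos (by norm_num))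
  · left
    intro h
    exact hS3 (h p hpp)

/-- Case `p ∈ β(M)` (ideal prime): `C_G(X)` contains a uniqueness subgroup of the Sylow
`p`-subgroup `S ≤ M` of `G`. -/
theorem caseA [Finite G] (hG : IsMinSimpleOddOrder G) (M : Subgroup G) (hM : IsCoatom M)
    (p : ℕ) [Fact p.Prime] (hideal : IsIdealPrime p G) (S : Sylow p G)
    (hSM : (S : Subgroup G) ≤ M) (X : Subgroup G) (hXS : X ≤ (S : Subgroup G))
    (hX : Nat.card X = p) :
    ∃ K : Subgroup G, K ≤ (S : Subgroup G) ∧ K ≤ Subgroup.centralizer (X : Set G) ∧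
      InUniqueMaximal K := by
  have hpp : p.Prime := Fact.out
  have hSU : InUniqueMaximal (S : Subgroup G) := ideal_sylow_uniq hG M hM p hideal S hSM
  obtain ⟨-, hrG, hid⟩ := hideal
  have hStop : (S : Subgroup G) ≠ ⊤ := fun h => hM.1 (top_le_iff.mp (h ▸ hSM))
  by_cases hcase : (S : Subgroup G) ≤ Subgroup.centralizer (X : Set G)
  · exact ⟨S, le_refl _, hcase, hSU⟩
  · -- a central subgroup of order `p`
    have hSp : IsPGroup p ↥(S : Subgroup G) := S.isPGroup'
    have hXbot : X ≠ ⊥ := by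
      intro h
      rw [h, Subgroup.card_bot] at hX
      exact hpp.one_lt.ne hX
    have hSnt : Nontrivial ↥(S : Subgroup G) := by
      rw [Subgroup.nontrivial_iff_ne_bot]
      intro h
      apply hXbot
      rw [← le_bot_iff, ← h]
      exact hXS
    have hZnt : Nontrivial ↥(Subgroup.center ↥(S : Subgroup G)) := hSp.center_nontrivial
    have hpZ : p ∣ Nat.card ↥(Subgroup.center ↥(S : Subgroup G)) := by
      have hZp : IsPGroup p ↥(Subgroup.center ↥(S : Subgroup G)) := hSp.to_subgroup _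
      obtain ⟨n, hn⟩ := IsPGroup.iff_card.mp hZp
      have hn0 : n ≠ 0 := by
        rintro rfl
        rw [pow_zero] at hn
        exact (Finite.one_lt_card (α := ↥(Subgroup.center ↥(S : Subgroup G)))).ne' hn
      rw [hn]
      exact dvd_pow_self p hn0
    obtain ⟨z, hz⟩ := exists_prime_orderOf_dvd_card' (G := ↥(Subgroup.center ↥(S : Subgroup G))) p hpZ
    have hzG : orderOf (((z : ↥(S : Subgroup G)) : G)) = p := by
      rw [Subgroup.orderOf_coe, Subgroup.orderOf_coe, hz]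
    have hzS : (((z : ↥(S : Subgroup G)) : G)) ∈ (S : Subgroup G) := (z : ↥(S : Subgroup G)).2
    have hzc : ∀ s ∈ (S : Subgroup G), s * (((z : ↥(S : Subgroup G)) : G)) =
        (((z : ↥(S : Subgroup G)) : G)) * s := by
      intro s hs
      have := Subgroup.mem_center_iff.mp z.2 ⟨s, hs⟩
      exact congrArg Subtype.val this
    obtain ⟨z₀, hz₀⟩ : ∃ z₀ : G, z₀ = (((z : ↥(S : Subgroup G)) : G)) := ⟨_, rfl⟩
    rw [← hz₀] at hzG hzS hzc
    have hZ₁card : Nat.card (Subgroup.zpowers z₀) = p := by rw [Nat.card_zpowers, hzG]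
    have hZ₁S : Subgroup.zpowers z₀ ≤ (S : Subgroup G) := by
      rw [Subgroup.zpowers_le]; exact hzS
    have hZ₁c : ∀ s ∈ (S : Subgroup G), ∀ y ∈ Subgroup.zpowers z₀, s * y = y * s := by
      intro s hs y hy
      obtain ⟨k, rfl⟩ := Subgroup.mem_zpowers_iff.mp hy
      have hc : Commute s z₀ := hzc s hs
      exact (hc.zpow_right k).eq
    have hXne : X ≠ Subgroup.zpowers z₀ := by
      intro h
      apply hcase
      intro s hs
      rw [Subgroup.mem_centralizer_iff]
      intro x hx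
      rw [h] at hx
      exact (hZ₁c s hs x hx).symm
    have hinf : X ⊓ Subgroup.zpowers z₀ = ⊥ := by
      by_contra hne
      have h1 : Nat.card ↥(X ⊓ Subgroup.zpowers z₀) ∣ p := by
        rw [← hX]; exact Subgroup.card_dvd_of_le inf_le_left
      rcases (Nat.dvd_prime hpp).mp h1 with h2 | h2
      · exact hne (Subgroup.card_eq_one.mp h2)
      · have e1 : X ⊓ Subgroup.zpowers z₀ = X :=
          Subgroup.eq_of_le_of_card_ge inf_le_left (by rw [h2, hX])
        have e2 : X ⊓ Subgroup.zpowers z₀ = Subgroup.zpowers z₀ :=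
          Subgroup.eq_of_le_of_card_ge inf_le_right (by rw [h2, hZ₁card])
        exact hXne (e1.symm.trans e2)
    have hXe : IsElementaryAbelian p X := elemAb_of_card_prime X hX
    have hZe : IsElementaryAbelian p (Subgroup.zpowers z₀) := elemAb_of_card_prime _ hZ₁card
    have hAe : IsElementaryAbelian p (X ⊔ Subgroup.zpowers z₀) :=
      bg_elemAb_sup X _ hXe hZe (fun x hx y hy => hZ₁c x (hXS hx) y hy)
    have hXn : X ≤ Subgroup.normalizer ((Subgroup.zpowers z₀ : Subgroup G) : Set G) := by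
      refine le_trans ?_ (Subgroup.centralizer_le_normalizer _)
      intro x hx
      rw [Subgroup.mem_centralizer_iff]
      intro y hy
      exact (hZ₁c x (hXS hx) y hy).symm
    have hA2 : Nat.card ↥(X ⊔ Subgroup.zpowers z₀) = p ^ 2 := by
      have := Cfsg.Agent.Lib.helper13.card_sup_mul_card_inf X (Subgroup.zpowers z₀) hXn
      rw [hinf, Subgroup.card_bot, mul_one, hX, hZ₁card] at this
      rw [this, sq]
    obtain ⟨B, hBS, hBe, hAB⟩ := hid S _ (sup_le hXS hZ₁S) hAe hA2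
    have hBcard : p ^ 2 < Nat.card B := by
      by_contra hle
      rw [not_lt, ← hA2] at hle
      exact hAB.ne (Subgroup.eq_of_le_of_card_ge hAB.le hle)
    have hBtop : B ≠ ⊤ := fun h => hStop (top_le_iff.mp (h ▸ hBS))
    have hBU : InUniqueMaximal B := by
      apply Cfsg.Agent.S1403.result hG B hBtop
      · exact bg_not_rankLE_of_elemAb hpp hBe
          (lt_of_le_of_lt (Nat.pow_le_pow_right hpp.pos (by norm_num)) hBcard)
      · left
        exact bg_not_rankLE_of_elemAb hpp hBe hBcard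
    refine ⟨B, hBS, ?_, hBU⟩
    intro b hb
    rw [Subgroup.mem_centralizer_iff]
    intro x hx
    have hxB : x ∈ B := hAB.le (Subgroup.mem_sup_left hx)
    exact ((bg_elemAb_iff B).mp hBe).1 x hxB b hb

/-- Case `p ∉ β(M)` and `X ≤ S'`: the Sylow subgroup `S` is nonabelian, and `C_G(X)` contains a
uniqueness subgroup of `S`. -/
theorem caseB [Finite G] (hG : IsMinSimpleOddOrder G) (h22 : NonabUniqHyp G) (M : Subgroup G)
    (hM : IsCoatom M) (p : ℕ) [Fact p.Prime] (hβ : p ∉ beta M) (S : Sylow p G)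
    (hSM : (S : Subgroup G) ≤ M) (X : Subgroup G) (hX : Nat.card X = p)
    (hXS : X ≤ ⁅(S : Subgroup G), (S : Subgroup G)⁆) :
    ¬ IsMulCommutative ↥(S : Subgroup G) ∧
      ∃ K : Subgroup G, K ≤ (S : Subgroup G) ∧ K ≤ Subgroup.centralizer (X : Set G) ∧
        InUniqueMaximal K := by
  have hpp : p.Prime := Fact.out
  obtain ⟨hodd, -, -, -⟩ := id hG
  have hXbot : X ≠ ⊥ := by
    intro h
    rw [h, Subgroup.card_bot] at hX
    exact hpp.one_lt.ne hX
  have hna : ¬ IsMulCommutative ↥(S : Subgroup G) := by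
    intro hc
    apply hXbot
    rw [← le_bot_iff]
    have : ⁅(S : Subgroup G), (S : Subgroup G)⁆ = ⊥ := by
      rw [Subgroup.commutator_eq_bot_iff_le_centralizer]
      intro a ha
      rw [Subgroup.mem_centralizer_iff]
      intro h hh
      exact congrArg Subtype.val (hc.is_comm.comm (⟨h, hh⟩ : ↥(S : Subgroup G)) ⟨a, ha⟩)
    rw [← this]
    exact hXS
  have hSU : InUniqueMaximal (S : Subgroup G) := h22 p S S.isPGroup' hna
  refine ⟨hna, ?_⟩
  have hStop : (S : Subgroup G) ≠ ⊤ := fun h => hM.1 (top_le_iff.mp (h ▸ hSM))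
  by_cases hr : PRankLE p 2 ↥(S : Subgroup G)
  · rcases Cfsg.Agent.S1412.result hG p S hr with hc | ⟨P₁, P₂, hsup, hc, hna₁, hcard, -, hcyc, -⟩
    · exact absurd hc hna
    · have hcl := comm_le_centralizer_of_central_product p hsup hc hna₁ hcard hcyc
      refine ⟨S, le_refl _, ?_, hSU⟩
      intro s hs
      rw [Subgroup.mem_centralizer_iff]
      intro x hx
      have hx' : x ∈ Subgroup.centralizer ((S : Subgroup G) : Set G) := hcl (hXS hx)
      exact (Subgroup.mem_centralizer_iff.mp hx' s hs).symm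
  · have hα : p ∈ alpha M := ⟨hpp, fun h => hr (Cfsg.Agent.Lib.helper26.prankLE_mono hSM h)⟩
    have hni : ¬ IsIdealPrime p G := fun h => hβ ⟨hα, h⟩
    have hrG : ¬ PRankLE p 2 G := fun h => hr (Cfsg.Agent.Lib.helper26.prankLE_subgroup _ h)
    obtain ⟨E, hEe, hE2, hEmax⟩ := exists_max_elemAb_of_not_ideal p hni hrG S
    have hp2 : p ≠ 2 := by
      intro h
      have h1 : p ∣ Nat.card G := hX ▸ Subgroup.card_subgroup_dvd_card X
      rw [h] at h1
      exact (Nat.not_even_iff_odd.mpr hodd) (even_iff_two_dvd.mpr h1)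
    have hSp : IsPGroup p ↥(S : Subgroup G) := S.isPGroup'
    obtain ⟨-, -, ⟨h3e, h3c⟩, h4, h5⟩ := Cfsg.Agent.S1453.result p hp2 hSp hr E hEe hE2 hEmax
    set W : Subgroup ↥(S : Subgroup G) :=
      Subgroup.closure {x : ↥(S : Subgroup G) |
        x ∈ Subgroup.upperCentralSeries ↥(S : Subgroup G) 2 ∧ x ^ p = 1} with hW
    have hWchar : W.Characteristic := by
      rw [Subgroup.characteristic_iff_map_le]
      intro φ
      rw [hW, MonoidHom.map_closure]
      apply Subgroup.closure_mono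
      rintro _ ⟨x, ⟨hx1, hx2⟩, rfl⟩
      refine ⟨?_, ?_⟩
      · have hc : (Subgroup.upperCentralSeries ↥(S : Subgroup G) 2).Characteristic := inferInstance
        have := (Subgroup.characteristic_iff_map_le.mp hc) φ
        exact this ⟨x, hx1, rfl⟩
      · show (φ x) ^ p = 1
        rw [← map_pow, hx2, map_one]
    have hWn : W.Normal := Subgroup.normal_of_characteristic W
    have hCn : (Subgroup.centralizer (W : Set ↥(S : Subgroup G))).Normal :=
      Subgroup.normal_of_characteristic _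
    have hcomm : commutator ↥(S : Subgroup G) ≤ Subgroup.centralizer (W : Set ↥(S : Subgroup G)) :=
      commutator_le_of_index_prime _ h5
    obtain ⟨A', hWA', -, hA'c, hA'r⟩ := Cfsg.Agent.S1452.result p hp2 hSp hr W h3e h3c
    have hWGS : W.map (S : Subgroup G).subtype ≤ (S : Subgroup G) := Subgroup.map_subtype_le _
    have hWGe : IsElementaryAbelian p (W.map (S : Subgroup G).subtype) := bg_elemAb_map W h3e
    have hWGc : Nat.card ↥(W.map (S : Subgroup G).subtype) = p ^ 2 := by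
      rw [Subgroup.card_map_of_injective (Subgroup.subtype_injective _), h3c]
    have hWGX : W.map (S : Subgroup G).subtype ≤ Subgroup.centralizer (X : Set G) := by
      rintro _ ⟨w, hw, rfl⟩
      rw [Subgroup.mem_centralizer_iff]
      intro x hx
      have hx1 : x ∈ (commutator ↥(S : Subgroup G)).map (S : Subgroup G).subtype := by
        rw [Subgroup.map_subtype_commutator]; exact hXS hx
      obtain ⟨x₀, hx₀, rfl⟩ := hx1
      have hx2 := hcomm hx₀
      have := Subgroup.mem_centralizer_iff.mp hx2 w hw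
      exact (congrArg Subtype.val this).symm
    have hWGtop : W.map (S : Subgroup G).subtype ≠ ⊤ :=
      fun h => hStop (top_le_iff.mp (h ▸ hWGS))
    have hA'G : A'.map (S : Subgroup G).subtype ≤
        Subgroup.centralizer ((W.map (S : Subgroup G).subtype : Subgroup G) : Set G) := by
      rintro _ ⟨a, ha, rfl⟩
      rw [Subgroup.mem_centralizer_iff]
      rintro _ ⟨w, hw, rfl⟩
      have ha' : a ∈ Subgroup.centralizer (A' : Set ↥(S : Subgroup G)) := by rw [hA'c]; exact ha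
      have := Subgroup.mem_centralizer_iff.mp ha' w (hWA' hw)
      exact congrArg Subtype.val this
    have hCr : ¬ PRankLE p 2
        ↥(Subgroup.centralizer ((W.map (S : Subgroup G).subtype : Subgroup G) : Set G)) := by
      intro h
      have h1 := Cfsg.Agent.Lib.helper26.prankLE_mono hA'G h
      exact hA'r ((Cfsg.Agent.Lib.helper26.prankLE_map_iff (S : Subgroup G).subtype
        (Subgroup.subtype_injective _) A').mp h1)
    have hWU : InUniqueMaximal (W.map (S : Subgroup G).subtype) := by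
      apply Cfsg.Agent.S1403.result hG _ hWGtop
      · apply bg_not_rankLE_of_elemAb hpp hWGe
        rw [hWGc]
        exact Nat.pow_lt_pow_right hpp.one_lt (by norm_num)
      · right
        intro h
        exact hCr (h p hpp)
    exact ⟨_, hWGS, hWGX, hWU⟩

/-- **B-G Theorem 13.1** (statement S1423), with the statement of S1422 as a hypothesis. -/
theorem bg_13_1 [Finite G] (hG : IsMinSimpleOddOrder G) (h22 : NonabUniqHyp G)
    (M : Subgroup G) (hM : IsCoatom M) (p : ℕ) [Fact p.Prime] (hp : p ∈ sigma M)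
    (X : Subgroup G) (hXM : X ≤ M) (hX : Nat.card X = p)
    (P : Sylow p ↥(sigmaCore M)) (h : p ∈ beta M ∨ X ≤ ⁅sigmaCore M, sigmaCore M⁆) :
    (Subgroup.centralizer (X : Set G) ≤ M ∧
        ∀ L : Subgroup G, IsCoatom L → Subgroup.centralizer (X : Set G) ≤ L → L = M) ∧
      InUniqueMaximal ((P : Subgroup ↥(sigmaCore M)).map (sigmaCore M).subtype) ∧
      (P : Subgroup ↥(sigmaCore M)).map (sigmaCore M).subtype ≤ M := by
  have hpp : p.Prime := Fact.out
  have hU : BGUniqHyp G := fun K hK h1 h2 => Cfsg.Agent.S1403.result hG K hK h1 h2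
  have hF : BGFusHyp G := by
    intro M hM p hp X hXp hX1 hXM g hg
    have : Fact p.Prime := ⟨hp.1⟩
    exact (Cfsg.Agent.S1404.result hG M hM p hp X hXp hX1 hXM).1 g hg
  obtain ⟨hH1, hH2, -⟩ := Cfsg.Agent.S1350.result hG M hM
  have hMsM : sigmaCore M ≤ M := hH1.1
  have hidx : ¬ p ∣ (sigmaCore M).index := hH2.2 p hpp hp
  -- Sylow subgroups of `M_σ` are Sylow in `G`
  have hQidx : ∀ Q : Sylow p ↥(sigmaCore M),
      ¬ p ∣ ((Q : Subgroup ↥(sigmaCore M)).map (sigmaCore M).subtype).index := by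
    intro Q
    rw [Subgroup.index_map_subtype]
    intro hd
    rcases (Nat.Prime.dvd_mul hpp).mp hd with hd | hd
    · exact Q.not_dvd_index hd
    · exact hidx hd
  have hXp : IsPGroup p X := IsPGroup.of_card (n := 1) (by rw [hX, pow_one])
  have hXbot : X ≠ ⊥ := by
    intro h
    rw [h, Subgroup.card_bot] at hX
    exact hpp.one_lt.ne hX
  have hXMs : X ≤ sigmaCore M := bg_pgroup_le_sigmaCore hG hU hF M hM hp X hXM hXp
  have hXp' : IsPGroup p ↥(X.subgroupOf (sigmaCore M)) := by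
    have e := (Subgroup.subgroupOfEquivOfLe hXMs)
    exact hXp.of_equiv e.symm
  obtain ⟨P₁, hP₁⟩ := hXp'.exists_le_sylow
  let S : Sylow p G := (P₁.isPGroup'.map (sigmaCore M).subtype).toSylow (hQidx P₁)
  have hS : (S : Subgroup G) = (P₁ : Subgroup ↥(sigmaCore M)).map (sigmaCore M).subtype :=
    IsPGroup.toSylow_coe _ _
  let T : Sylow p G := (P.isPGroup'.map (sigmaCore M).subtype).toSylow (hQidx P)
  have hT : (T : Subgroup G) = (P : Subgroup ↥(sigmaCore M)).map (sigmaCore M).subtype :=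
    IsPGroup.toSylow_coe _ _
  have hSM : (S : Subgroup G) ≤ M := by
    rw [hS]; exact (Subgroup.map_subtype_le _).trans hMsM
  have hTM : (T : Subgroup G) ≤ M := by
    rw [hT]; exact (Subgroup.map_subtype_le _).trans hMsM
  have hXS : X ≤ (S : Subgroup G) := by
    rw [hS, ← Subgroup.map_subgroupOf_eq_of_le hXMs]
    exact Subgroup.map_mono hP₁
  rw [← hT]
  by_cases hβ : p ∈ beta M
  · obtain ⟨K, hKS, hKX, hKU⟩ := caseA hG M hM p hβ.2 S hSM X hXS hX
    exact ⟨uniq_of_le_centralizer hG hM hXM hXbot (hKS.trans hSM) hKX hKU,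
      ideal_sylow_uniq hG M hM p hβ.2 T hTM, hTM⟩
  · have hXc : X ≤ ⁅sigmaCore M, sigmaCore M⁆ := h.resolve_left hβ
    obtain ⟨-, hnpc, -⟩ := (Cfsg.Agent.S1414.result hG M hM).2.2.2.2 p hpp hp.2.1 hβ
    obtain ⟨N, hNn, hNcop, k, hNk⟩ := bgNpc_of_hasNormalPComplement hnpc
    have hcompl : N.IsComplement' (P₁ : Subgroup ↥(sigmaCore M)) := by
      have hcardX : Nat.card ↥(sigmaCore M) = Nat.card N * p ^ k := by
        rw [← hNk, Subgroup.card_mul_index]
      have h1 : (Nat.card N).factorization p = 0 :=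
        Nat.factorization_eq_zero_of_not_dvd
          ((Nat.Prime.coprime_iff_not_dvd hpp).mp hNcop.symm)
      have h2 : (p ^ k).factorization p = k := by
        rw [Nat.factorization_pow, Finsupp.smul_apply, hpp.factorization_self, smul_eq_mul,
          mul_one]
      have hfac : (Nat.card ↥(sigmaCore M)).factorization p = k := by
        rw [hcardX, Nat.factorization_mul Nat.card_pos.ne' (pow_pos hpp.pos k).ne',
          Finsupp.add_apply, h1, h2, zero_add]
      have hcardP : Nat.card P₁ = p ^ k := by rw [P₁.card_eq_multiplicity, hfac]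
      apply Subgroup.isComplement'_of_coprime
      · rw [hcardP, ← hcardX]
      · rw [hcardP]
        exact Nat.Coprime.pow_right k hNcop
    have hXSS : X ≤ ⁅(S : Subgroup G), (S : Subgroup G)⁆ := by
      intro x hx
      have hx1 : x ∈ (commutator ↥(sigmaCore M)).map (sigmaCore M).subtype := by
        rw [Subgroup.map_subtype_commutator]; exact hXc hx
      obtain ⟨x₀, hx₀, rfl⟩ := hx1
      have hx₀P : x₀ ∈ (P₁ : Subgroup ↥(sigmaCore M)) :=
        hP₁ (Subgroup.mem_subgroupOf.mpr hx)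
      have := hNn
      have hfoc := focal_of_complement N (P₁ : Subgroup ↥(sigmaCore M))
        hcompl.disjoint.eq_bot hcompl.sup_eq_top hx₀ hx₀P
      rw [hS, ← Subgroup.map_commutator]
      exact Subgroup.mem_map_of_mem _ hfoc
    obtain ⟨hna, K, hKS, hKX, hKU⟩ := caseB hG h22 M hM p hβ S hSM X hX hXSS
    refine ⟨uniq_of_le_centralizer hG hM hXM hXbot (hKS.trans hSM) hKX hKU, ?_, hTM⟩
    apply h22 p T T.isPGroup'
    intro hc
    apply hna
    refine ⟨⟨fun a b => ?_⟩⟩
    apply (Sylow.equiv S T).injective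
    rw [map_mul, map_mul]
    exact hc.is_comm.comm _ _

end Cfsg.Agent.Lib.helper60.BG131
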