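import Mathlib
import Cfsg.Prelude.Def_OddOrderLocal
import Cfsg.Agent.Lib.helper97.BGSeven4
import Cfsg.Agent.Lib.helper97.BGSeven2
import Cfsg.Agent.Lib.helper60.BGCentU
import Cfsg.Agent.Lib.helper71.BGTenB
import Cfsg.Agent.Lib.helper26.PRank
import Cfsg.Agent.S1415
import Cfsg.Agent.S1404
import Cfsg.Agent.S1410
import Cfsg.Agent.S1461

/-!
# Abelian Sylow `τ₂`-subgroups are normal in the complement (B-G Theorem 12.8(a))

`tau2_sylow_normal`: for `p ∈ τ₂(M)`, `E` a complement of `M_σ` in `M`, `A ≤ E` elementary abelian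
of order `p ^ 2` and `S ≥ A` an abelian Sylow `p`-subgroup of `G`, one has `S ≤ E` and `S ⊴ E`.
The statements of S1417 and S1418 enter as the hypotheses `BG7FiveHyp`, `BG7SixHyp`.
-/

set_option autoImplicit false
open Cfsg

namespace Cfsg.Agent.Lib.helper60.BGTau2Ab

open Cfsg.Agent.Lib.helper8 Cfsg.Agent.Lib.helper97 Cfsg.Agent.Lib.helper60.BGCentU
open scoped commutatorElement

variable {G : Type*} [Group G]

theorem map_conj_eq_of_mem_normalizer {H : Subgroup G} {n : G}
    (hn : n ∈ Subgroup.normalizer (H : Set G)) : H.map (MulAut.conj n).toMonoidHom = H := by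
  ext x
  constructor
  · rintro ⟨h, hh, rfl⟩
    exact (Subgroup.mem_normalizer_iff.mp hn h).mp hh
  · intro hx
    refine ⟨n⁻¹ * x * n, ?_, ?_⟩
    · apply (Subgroup.mem_normalizer_iff.mp hn (n⁻¹ * x * n)).mpr
      have : n * (n⁻¹ * x * n) * n⁻¹ = x := by group
      rw [this]; exact hx
    · show n * (n⁻¹ * x * n) * n⁻¹ = x
      group

theorem mem_normalizer_of_conj_mem {H : Subgroup G} {n : G}
    (h1 : ∀ x ∈ H, n * x * n⁻¹ ∈ H) (h2 : ∀ x ∈ H, n⁻¹ * x * n ∈ H) :
    n ∈ Subgroup.normalizer (H : Set G) := by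
  rw [Subgroup.mem_normalizer_iff]
  intro x
  refine ⟨h1 x, fun hx => ?_⟩
  have := h2 _ hx
  have e : n⁻¹ * (n * x * n⁻¹) * n = x := by group
  rwa [e] at this

theorem mem_normalizer_of_map_conj_eq {H : Subgroup G} {n : G}
    (h : H.map (MulAut.conj n).toMonoidHom = H) : n ∈ Subgroup.normalizer (H : Set G) := by
  apply mem_normalizer_of_conj_mem
  · intro x hx
    rw [← h]
    exact ⟨x, hx, rfl⟩
  · intro x hx
    rw [← h] at hx
    obtain ⟨d, hd, hdx⟩ := hx
    have hdx' : n * d * n⁻¹ = x := hdx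
    rw [← hdx']
    have e : n⁻¹ * (n * d * n⁻¹) * n = d := by group
    rw [e]
    exact hd

/-- The derived subgroup of `N` centralizes every cyclic subgroup normalized by `N`. -/
theorem commutator_le_centralizer_of_cyclic {N T : Subgroup G} (hT : IsCyclic T)
    (hN : N ≤ Subgroup.normalizer (T : Set G)) : ⁅N, N⁆ ≤ Subgroup.centralizer (T : Set G) := by
  obtain ⟨⟨t, ht⟩, hgen⟩ := hT.exists_generator
  have key : ∀ c ∈ N, ∃ i : ℤ, c * t * c⁻¹ = t ^ i := by
    intro c hc
    have h1 : c * t * c⁻¹ ∈ T := (Subgroup.mem_normalizer_iff.mp (hN hc) t).mp ht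
    obtain ⟨i, hi⟩ := Subgroup.mem_zpowers_iff.mp (hgen ⟨_, h1⟩)
    refine ⟨i, ?_⟩
    have := congrArg Subtype.val hi
    simpa using this.symm
  have key2 : ∀ c ∈ N, ∀ d ∈ N, c * (d * t * d⁻¹) * c⁻¹ = d * (c * t * c⁻¹) * d⁻¹ := by
    intro c hc d hd
    obtain ⟨i, hi⟩ := key c hc
    obtain ⟨j, hj⟩ := key d hd
    rw [hi, hj, ← conj_zpow, ← conj_zpow, hi, hj, ← zpow_mul, ← zpow_mul, mul_comm]
  rw [Subgroup.commutator_le]
  intro a ha b hb
  have E1 := key2 a⁻¹ (N.inv_mem ha) b⁻¹ (N.inv_mem hb)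
  have hcomm : ⁅a, b⁆ * t = t * ⁅a, b⁆ := by
    rw [commutatorElement_def]
    calc a * b * a⁻¹ * b⁻¹ * t
        = a * b * (a⁻¹ * (b⁻¹ * t * b⁻¹⁻¹) * a⁻¹⁻¹) * a⁻¹ * b⁻¹ := by group
      _ = a * b * (b⁻¹ * (a⁻¹ * t * a⁻¹⁻¹) * b⁻¹⁻¹) * a⁻¹ * b⁻¹ := by rw [E1]
      _ = t * (a * b * a⁻¹ * b⁻¹) := by group
  rw [Subgroup.mem_centralizer_iff]
  intro x hx
  obtain ⟨k, hk⟩ := Subgroup.mem_zpowers_iff.mp (hgen ⟨x, hx⟩)
  have hxk : x = t ^ k := by
    have := congrArg Subtype.val hk
    simpa using this.symm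
  have hc : Commute t ⁅a, b⁆ := hcomm.symm
  rw [hxk]
  exact (hc.zpow_left k).eq

/-- A `p`-group acting on an abelian `r`-group (`r ≠ p`) and centralizing its elements of order
dividing `r` centralizes it. -/
theorem centralizes_of_centralizes_omega [Finite G] {p r : ℕ} [Fact p.Prime] [Fact r.Prime]
    (hpr : p ≠ r) {S T : Subgroup G} (hS : IsPGroup p S) (hT : IsPGroup r T)
    (hTc : ∀ a ∈ T, ∀ b ∈ T, a * b = b * a) (hST : S ≤ Subgroup.normalizer (T : Set G))
    (hΩ : ∀ t ∈ T, t ^ r = 1 → ∀ s ∈ S, s * t = t * s) :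
    S ≤ Subgroup.centralizer (T : Set G) := by
  have main : ∀ k : ℕ, ∀ t ∈ T, t ^ (r ^ k) = 1 → ∀ s ∈ S, s * t = t * s := by
    intro k
    induction k with
    | zero =>
      intro t _ ht s _
      rw [pow_zero, pow_one] at ht
      rw [ht, mul_one, one_mul]
    | succ k ih =>
      intro t ht htk s hs
      have hsn := Subgroup.mem_normalizer_iff.mp (hST hs)
      have hst : s * t * s⁻¹ ∈ T := (hsn t).mp ht
      set z := t⁻¹ * (s * t * s⁻¹) with hz
      have hzT : z ∈ T := T.mul_mem (T.inv_mem ht) hst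
      have htr : (t ^ r) ^ (r ^ k) = 1 := by rw [← pow_mul, ← pow_succ']; exact htk
      have h1 : s * t ^ r = t ^ r * s := ih (t ^ r) (T.pow_mem ht r) htr s hs
      have h2 : (s * t * s⁻¹) ^ r = t ^ r := by
        rw [conj_pow, h1, mul_inv_cancel_right]
      have hzr : z ^ r = 1 := by
        have hcm : Commute t⁻¹ (s * t * s⁻¹) := hTc _ (T.inv_mem ht) _ hst
        rw [hz, hcm.mul_pow, h2, inv_pow, inv_mul_cancel]
      have hzs : ∀ s' ∈ S, s' * z = z * s' := hΩ z hzT hzr
      have hconj : s * t * s⁻¹ = t * z := by rw [hz, mul_inv_cancel_left]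
      have hpow : ∀ j : ℕ, s ^ j * t * (s ^ j)⁻¹ = t * z ^ j := by
        intro j
        induction j with
        | zero => simp
        | succ j ihj =>
          have hzsj : s * z ^ j * s⁻¹ = z ^ j := by
            have hc : Commute s z := hzs s hs
            rw [(hc.pow_right j).eq, mul_inv_cancel_right]
          calc s ^ (j + 1) * t * (s ^ (j + 1))⁻¹
              = s * (s ^ j * t * (s ^ j)⁻¹) * s⁻¹ := by rw [pow_succ']; group
            _ = s * (t * z ^ j) * s⁻¹ := by rw [ihj]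
            _ = (s * t * s⁻¹) * (s * z ^ j * s⁻¹) := by group
            _ = t * z * z ^ j := by rw [hconj, hzsj]
            _ = t * z ^ (j + 1) := by rw [pow_succ', mul_assoc]
      obtain ⟨m, hm⟩ := hS ⟨s, hs⟩
      have hsm : s ^ (p ^ m) = 1 := by
        have := congrArg Subtype.val hm
        simpa using this
      have hzm : z ^ (p ^ m) = 1 := by
        have h3 := hpow (p ^ m)
        rw [hsm, one_mul, inv_one, mul_one] at h3
        exact (mul_eq_left.mp h3.symm)
      have hz1 : z = 1 := by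
        have hd1 : orderOf z ∣ p ^ m := orderOf_dvd_of_pow_eq_one hzm
        have hd2 : orderOf z ∣ r := orderOf_dvd_of_pow_eq_one hzr
        have hcop : Nat.Coprime (p ^ m) r :=
          Nat.Coprime.pow_left m ((Nat.coprime_primes Fact.out Fact.out).mpr hpr)
        have : orderOf z = 1 := Nat.eq_one_of_dvd_coprimes hcop hd1 hd2
        exact orderOf_eq_one_iff.mp this
      rw [hz1, mul_one] at hconj
      calc s * t = s * t * s⁻¹ * s := by group
        _ = t * s := by rw [hconj]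
  intro s hs
  rw [Subgroup.mem_centralizer_iff]
  intro t ht
  obtain ⟨k, hk⟩ := hT ⟨t, ht⟩
  have htk : t ^ (r ^ k) = 1 := by
    have := congrArg Subtype.val hk
    simpa using this
  exact (main k t ht htk s hs).symm

/-- A `p`-subgroup normalizing a Sylow `p`-subgroup lies in it. -/
theorem le_sylow_of_le_normalizer {p : ℕ} [Fact p.Prime] (P : Sylow p G) {Q : Subgroup G}
    (hQ : IsPGroup p Q) (hQN : Q ≤ Subgroup.normalizer ((P : Subgroup G) : Set G)) :
    Q ≤ (P : Subgroup G) := by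
  have h1 : IsPGroup p (Q ⊔ (P : Subgroup G) : Subgroup G) :=
    hQ.to_sup_of_normal_right' P.isPGroup' hQN
  have h2 := P.is_maximal' h1 le_sup_right
  exact h2 ▸ le_sup_left

/-- In a nilpotent subgroup `D`, the Sylow `r`-subgroup contains every `r`-subgroup of `D` and is
normalized by the normalizer of `D`. -/
theorem exists_normal_sylow_of_nilpotent [Finite G] (D : Subgroup G) (hD : Group.IsNilpotent D)
    (r : ℕ) [Fact r.Prime] :
    ∃ T : Subgroup G, T ≤ D ∧ IsPGroup r T ∧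
      (∀ Q : Subgroup G, Q ≤ D → IsPGroup r Q → Q ≤ T) ∧
      Subgroup.normalizer (D : Set G) ≤ Subgroup.normalizer (T : Set G) := by
  obtain ⟨P⟩ : Nonempty (Sylow r D) := inferInstance
  have hPn : (P : Subgroup D).Normal := inferInstance
  have huniq : ∀ Q : Subgroup G, Q ≤ D → IsPGroup r Q → Q ≤ (P : Subgroup D).map D.subtype := by
    intro Q hQD hQ
    have hQ' : IsPGroup r (Q.subgroupOf D) := hQ.comap_subtype
    obtain ⟨P', hP'⟩ := hQ'.exists_le_sylow
    have : Unique (Sylow r D) := Sylow.unique_of_normal P hPn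
    have hPP : P' = P := Subsingleton.elim _ _
    intro x hx
    exact ⟨⟨x, hQD hx⟩, hPP ▸ hP' (Subgroup.mem_subgroupOf.mpr hx), rfl⟩
  refine ⟨(P : Subgroup D).map D.subtype, Subgroup.map_subtype_le _, P.isPGroup'.map _, huniq, ?_⟩
  have key : ∀ m ∈ Subgroup.normalizer (D : Set G), ∀ x ∈ (P : Subgroup D).map D.subtype,
      m * x * m⁻¹ ∈ (P : Subgroup D).map D.subtype := by
    intro m hm x hx
    have h1 : ((P : Subgroup D).map D.subtype).map (MulAut.conj m).toMonoidHom ≤
        (P : Subgroup D).map D.subtype := by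
      apply huniq
      · rintro _ ⟨y, hy, rfl⟩
        exact (Subgroup.mem_normalizer_iff.mp hm y).mp (Subgroup.map_subtype_le _ hy)
      · exact (P.isPGroup'.map _).map _
    exact h1 ⟨x, hx, rfl⟩
  intro n hn
  apply mem_normalizer_of_conj_mem (key n hn)
  intro x hx
  have := key n⁻¹ (Subgroup.inv_mem _ hn) x hx
  simpa using this

/-- `S ≤ N_G(S)'` for a Sylow subgroup `S` (second half of S1411, without a complement; the
argument is the one of `Cfsg.Agent.Lib.helper8.bg_sylow_comm_statement`). -/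
theorem sylow_le_commutator_normalizer [Finite G] (hG : IsMinSimpleOddOrder G) (p : ℕ)
    [Fact p.Prime] (P : Sylow p G) :
    (P : Subgroup G) ≤ ⁅Subgroup.normalizer ((P : Subgroup G) : Set G),
      Subgroup.normalizer ((P : Subgroup G) : Set G)⁆ := by
  have hF : BGFusHyp G := by
    intro M hM p hp X hXp hX1 hXM g hg
    have : Fact p.Prime := ⟨hp.1⟩
    exact (Cfsg.Agent.S1404.result hG M hM p hp X hXp hX1 hXM).1 g hg
  have hL : BGPLenHyp G := by
    intro p hp H hH
    have : Fact p.Prime := ⟨hp⟩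
    exact Cfsg.Agent.S1410.result hG p H hH
  have hpp : p.Prime := Fact.out
  obtain ⟨-, -, -, hsolv⟩ := id hG
  by_cases hP : (P : Subgroup G) = ⊥
  · rw [hP]; exact bot_le
  obtain ⟨M, hM, hNM, hσ⟩ := bg_sylow_setup hG p P hP
  have hPM : (P : Subgroup G) ≤ M := Subgroup.le_normalizer.trans hNM
  have hsolvM : Group.IsSolvable M := hsolv M hM.1
  set S : Sylow p M := P.subtype hPM with hS
  have hmemS : ∀ x : M, x ∈ (S : Subgroup M) ↔ (x : G) ∈ (P : Subgroup G) := by
    intro x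
    rw [hS, Sylow.coe_subtype]
    exact Subgroup.mem_subgroupOf
  have hSP : (S : Subgroup M).map M.subtype = (P : Subgroup G) := by
    rw [hS, Sylow.coe_subtype, Subgroup.map_subgroupOf_eq_of_le hPM]
  have hSc : (S : Subgroup M) ≤ commutator M :=
    bg_sylow_le_commutator hG hF M hM hσ _ S.isPGroup'
  have h461 := (Cfsg.Agent.S1461.result (G := M) p (hL p hpp M hM.1) S).1 hSc
  have h1 : (Subgroup.normalizer ((S : Subgroup M) : Set M)).map M.subtype ≤
      Subgroup.normalizer ((P : Subgroup G) : Set G) := by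
    rintro _ ⟨g, hg, rfl⟩
    have hg' : g ∈ Subgroup.normalizer ((S : Subgroup M) : Set M) := hg
    rw [Subgroup.mem_normalizer_iff] at hg'
    show (g : G) ∈ Subgroup.normalizer ((P : Subgroup G) : Set G)
    rw [Subgroup.mem_normalizer_iff]
    intro z
    constructor
    · intro hz
      have h2 := (hg' ⟨z, hPM hz⟩).mp ((hmemS _).mpr hz)
      exact (hmemS _).mp h2
    · intro hz
      have hzM : z ∈ M := by
        have h3 : z = (g : G)⁻¹ * ((g : G) * z * (g : G)⁻¹) * (g : G) := by group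
        rw [h3]
        exact M.mul_mem (M.mul_mem (M.inv_mem g.2) (hPM hz)) g.2
      have h2 := (hg' ⟨z, hzM⟩).mpr ((hmemS _).mpr hz)
      exact (hmemS _).mp h2
  refine hSP.ge.trans ((Subgroup.map_mono h461).trans ?_)
  rw [Subgroup.map_commutator]
  exact Subgroup.commutator_mono h1 h1

/-- Primes dividing the order of a complement of `M_σ` are outside `σ(M)`. -/
theorem not_mem_sigma_of_dvd_card_compl [Finite G] (hG : IsMinSimpleOddOrder G) (M : Subgroup G)
    (hM : IsCoatom M) (E : Subgroup G) (hE : IsComplIn E (sigmaCore M) M) (r : ℕ) (hr : r.Prime)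
    (hrd : r ∣ Nat.card E) : r ∉ sigma M := by
  obtain ⟨hH1, -, -⟩ := Cfsg.Agent.S1350.result hG M hM
  have hcard : Nat.card E * Nat.card (sigmaCore M) = Nat.card M := card_of_isComplIn hE
  have hσM : sigmaCore M ≤ M := hE.2.1
  have hrel1 : (sigmaCore M).relIndex M = Nat.card E := by
    have h1 := Cfsg.Agent.Lib.helper13.relIndex_mul_card_of_le hσM
    rw [← hcard] at h1
    exact Nat.eq_of_mul_eq_mul_right Nat.card_pos h1
  intro hσ
  exact hH1.2.2 r hr hσ (hrel1 ▸ hrd)

/-- A prime dividing `|E|` for which `M` has rank at least `2` lies in `τ₂(M)`. -/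
theorem mem_tau2_of_dvd_card_compl [Finite G] (hG : IsMinSimpleOddOrder G) (M : Subgroup G)
    (hM : IsCoatom M) (E : Subgroup G) (hE : IsComplIn E (sigmaCore M) M) (r : ℕ) (hr : r.Prime)
    (hrd : r ∣ Nat.card E) (h1 : ¬ PRankLE r 1 M) : r ∈ tau2 M := by
  have hU : BGUniqHyp G := fun K hK h1 h2 => Cfsg.Agent.S1403.result hG K hK h1 h2
  have hσ := not_mem_sigma_of_dvd_card_compl hG M hM E hE r hr hrd
  refine ⟨hr, hσ, ?_, h1⟩
  by_contra h
  exact hσ (bg_alpha_sub_sigma hG hU M hM ⟨hr, h⟩)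

/-- A nontrivial `r`-group has order divisible by `r`. -/
theorem dvd_card_of_pgroup_ne_bot [Finite G] {r : ℕ} [Fact r.Prime] {Q : Subgroup G}
    (hQ : IsPGroup r Q) (hQ1 : Q ≠ ⊥) : r ∣ Nat.card Q := by
  obtain ⟨n, hn⟩ := IsPGroup.iff_card.mp hQ
  have hn0 : n ≠ 0 := by
    rintro rfl
    rw [pow_zero] at hn
    exact hQ1 (Subgroup.eq_bot_of_card_eq Q hn)
  rw [hn]; exact dvd_pow_self r hn0

/-- For distinct `p, r ∈ τ₂(M)`, every `r`-subgroup of `E` centralizes the elementary abelian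
subgroup `A ≤ E` of order `p ^ 2`. -/
theorem pgroup_centralizes_tau2 [Finite G] (hG : IsMinSimpleOddOrder G) (h17 : BG7FiveHyp G)
    (h18 : BG7SixHyp G) (M : Subgroup G) (hM : IsCoatom M) (E : Subgroup G)
    (hE : IsComplIn E (sigmaCore M) M) (p r : ℕ) [Fact p.Prime] [Fact r.Prime] (hrp : r ≠ p)
    (hp : p ∈ tau2 M) (hr : r ∈ tau2 M) (A : Subgroup G)
    (hA : A ≤ E ∧ IsElementaryAbelian p A ∧ Nat.card A = p ^ 2) (Q : Subgroup G) (hQE : Q ≤ E)
    (hQ : IsPGroup r Q) : Q ≤ Subgroup.centralizer (A : Set G) := by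
  obtain ⟨⟨hEN, -⟩, ⟨hCA, hMN, -⟩, -⟩ := h18 M hM E hE p hp A hA
  have hCE : Subgroup.centralizer (A : Set G) ≤ E := hMN ▸ hCA
  obtain ⟨B, hB⟩ := bg7_exists_elemAb_compl M E hE r hr
  obtain ⟨Q1, hQ1C⟩ :=
    bg7_exists_sylow_centralizing hG h17 h18 M hM E hE p r (Ne.symm hrp) hp hr A hA B hB
  have hQ1E : (Q1 : Subgroup G) ≤ E := hQ1C.trans hCE
  have hQ' : IsPGroup r (Q.subgroupOf E) := hQ.comap_subtype
  obtain ⟨P', hP'⟩ := hQ'.exists_le_sylow
  obtain ⟨e, he⟩ := MulAction.exists_smul_eq ↥E P' (Q1.subtype hQ1E)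
  intro q hq
  rw [Subgroup.mem_centralizer_iff]
  intro a ha
  have hqP' : (⟨q, hQE hq⟩ : ↥E) ∈ (P' : Subgroup ↥E) :=
    hP' (Subgroup.mem_subgroupOf.mpr hq)
  have hmem : e * ⟨q, hQE hq⟩ * e⁻¹ ∈ ((Q1.subtype hQ1E : Sylow r ↥E) : Subgroup ↥E) := by
    rw [← he]
    apply (bg_mem_smul_sylow P' e _).mpr
    have : e⁻¹ * (e * ⟨q, hQE hq⟩ * e⁻¹) * e = ⟨q, hQE hq⟩ := by group
    rw [this]; exact hqP'
  have hmem' : (e : G) * q * (e : G)⁻¹ ∈ (Q1 : Subgroup G) := by
    rw [Sylow.coe_subtype] at hmem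
    exact Subgroup.mem_subgroupOf.mp hmem
  have hc : (e : G) * q * (e : G)⁻¹ ∈ Subgroup.centralizer (A : Set G) := hQ1C hmem'
  have heN : (e : G) ∈ Subgroup.normalizer (A : Set G) := hEN e.2
  have hea : (e : G) * a * (e : G)⁻¹ ∈ A := (Subgroup.mem_normalizer_iff.mp heN a).mp ha
  have h1 := Subgroup.mem_centralizer_iff.mp hc _ hea
  have h2 : (e : G) * (a * q) * (e : G)⁻¹ = (e : G) * (q * a) * (e : G)⁻¹ := by
    calc (e : G) * (a * q) * (e : G)⁻¹
        = (e : G) * a * (e : G)⁻¹ * ((e : G) * q * (e : G)⁻¹) := by group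
      _ = (e : G) * q * (e : G)⁻¹ * ((e : G) * a * (e : G)⁻¹) := h1
      _ = (e : G) * (q * a) * (e : G)⁻¹ := by group
  exact mul_left_cancel (mul_right_cancel h2)

/-- For `r ∈ τ₂(M)`, every `r`-subgroup of `M` is abelian. -/
theorem pgroup_comm_of_tau2 [Finite G] (h17 : BG7FiveHyp G) (M : Subgroup G) (hM : IsCoatom M)
    (E : Subgroup G) (hE : IsComplIn E (sigmaCore M) M) (r : ℕ) [Fact r.Prime] (hr : r ∈ tau2 M)
    (Q : Subgroup G) (hQM : Q ≤ M) (hQ : IsPGroup r Q) : ∀ a ∈ Q, ∀ b ∈ Q, a * b = b * a := by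
  obtain ⟨B, hB⟩ := bg7_exists_elemAb_compl M E hE r hr
  obtain ⟨-, hSyl, -⟩ := h17 M hM r hr B ⟨hB.1.trans hE.1, hB.2.1, hB.2.2⟩
  have hQ' : IsPGroup r (Q.subgroupOf M) := hQ.comap_subtype
  obtain ⟨P, hP⟩ := hQ'.exists_le_sylow
  have hcomm := (hSyl P).1
  intro a ha b hb
  have haP : (⟨a, hQM ha⟩ : ↥M) ∈ (P : Subgroup ↥M) := hP (Subgroup.mem_subgroupOf.mpr ha)
  have hbP : (⟨b, hQM hb⟩ : ↥M) ∈ (P : Subgroup ↥M) := hP (Subgroup.mem_subgroupOf.mpr hb)
  have h1 := hcomm.is_comm.comm ⟨_, haP⟩ ⟨_, hbP⟩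
  exact congrArg (fun z : ↥(P : Subgroup ↥M) => ((z : ↥M) : G)) h1

/-- **B-G Theorem 12.8(a)**: for `p ∈ τ₂(M)`, an abelian Sylow `p`-subgroup `S` of `G` containing
the elementary abelian subgroup `A ≤ E` of order `p ^ 2` lies in `E` and is normal in `N_G(A)`,
in particular in `E`. -/
theorem tau2_sylow_normal_strong [Finite G] (hG : IsMinSimpleOddOrder G) (h17 : BG7FiveHyp G)
    (h18 : BG7SixHyp G) (M : Subgroup G) (hM : IsCoatom M) (E : Subgroup G)
    (hE : IsComplIn E (sigmaCore M) M) (p : ℕ) [Fact p.Prime] (hp : p ∈ tau2 M) (A : Subgroup G)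
    (hA : A ≤ E ∧ IsElementaryAbelian p A ∧ Nat.card A = p ^ 2) (S : Sylow p G)
    (hAS : A ≤ (S : Subgroup G)) (hSab : IsMulCommutative (S : Subgroup G)) :
    (S : Subgroup G) ≤ E ∧
      Subgroup.normalizer (A : Set G) ≤ Subgroup.normalizer ((S : Subgroup G) : Set G) := by
  obtain ⟨hodd, -, -, -⟩ := id hG
  have hpp : p.Prime := Fact.out
  have hEM : E ≤ M := hE.1
  have hAM : A ≤ M := hA.1.trans hEM
  obtain ⟨⟨hEN, hall⟩, ⟨hCA, hMN, -⟩, -⟩ := h18 M hM E hE p hp A hA
  have hCE : Subgroup.centralizer (A : Set G) ≤ E := hMN ▸ hCA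
  have hSC : (S : Subgroup G) ≤ Subgroup.centralizer (A : Set G) := by
    intro s hs
    rw [Subgroup.mem_centralizer_iff]
    intro a ha
    exact congrArg Subtype.val (hSab.is_comm.comm ⟨a, hAS ha⟩ ⟨s, hs⟩)
  have hSE : (S : Subgroup G) ≤ E := hSC.trans hCE
  have hSM : (S : Subgroup G) ≤ M := hSE.trans hEM
  refine ⟨hSE, ?_⟩
  -- `A = Ω₁(S)`
  obtain ⟨-, hSyl, -⟩ := h17 M hM p hp A ⟨hAM, hA.2.1, hA.2.2⟩
  have hmap : ((S.subtype hSM : Sylow p M) : Subgroup M).map M.subtype = (S : Subgroup G) := by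
    rw [Sylow.coe_subtype, Subgroup.map_subgroupOf_eq_of_le hSM]
  have hΩ : ∀ x ∈ (S : Subgroup G), x ^ p = 1 ↔ x ∈ A := by
    have h1 := ((hSyl (S.subtype hSM)).2 (hmap.symm ▸ hAS)).1
    rw [hmap] at h1
    exact h1
  -- `N_G(S) ≤ N_G(A)`
  have hNSA : Subgroup.normalizer ((S : Subgroup G) : Set G) ≤ Subgroup.normalizer (A : Set G) := by
    have key : ∀ n ∈ Subgroup.normalizer ((S : Subgroup G) : Set G), ∀ a ∈ A, n * a * n⁻¹ ∈ A := by
      intro n hn a ha
      have h1 : n * a * n⁻¹ ∈ (S : Subgroup G) :=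
        (Subgroup.mem_normalizer_iff.mp hn a).mp (hAS ha)
      apply (hΩ _ h1).mp
      rw [conj_pow, (hΩ a (hAS ha)).mpr ha, mul_one, mul_inv_cancel]
    intro n hn
    apply mem_normalizer_of_conj_mem (key n hn)
    intro a ha
    have := key n⁻¹ (Subgroup.inv_mem _ hn) a ha
    simpa using this
  set N := Subgroup.normalizer (A : Set G) with hN
  set C := Subgroup.centralizer (A : Set G) with hC
  have hSN' : (S : Subgroup G) ≤ ⁅N, N⁆ :=
    (sylow_le_commutator_normalizer hG p S).trans (Subgroup.commutator_mono hNSA hNSA)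
  have hCN : C ≤ N := Subgroup.centralizer_le_normalizer _
  have hSN : (S : Subgroup G) ≤ N := hSC.trans hCN
  -- `N` normalizes `C` and `D = [C, C]`
  have hconjC : ∀ n ∈ N, ∀ c ∈ C, n * c * n⁻¹ ∈ C := fun n hn c hc =>
    bg7_conj_mem_centralizer hn hc
  have hNC : N ≤ Subgroup.normalizer (C : Set G) := by
    intro n hn
    apply mem_normalizer_of_conj_mem (hconjC n hn)
    intro c hc
    have := hconjC n⁻¹ (N.inv_mem hn) c hc
    simpa using this
  set D := ⁅C, C⁆ with hD
  have hND : N ≤ Subgroup.normalizer (D : Set G) := by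
    intro n hn
    apply mem_normalizer_of_map_conj_eq
    rw [hD, Subgroup.map_commutator, map_conj_eq_of_mem_normalizer (hNC hn)]
  have hDC : D ≤ C := Subgroup.commutator_le_self C
  have hDE' : D ≤ ⁅E, E⁆ := Subgroup.commutator_mono hCE hCE
  have hDnil : Group.IsNilpotent D := by
    have h1 : Group.IsNilpotent ↥⁅E, E⁆ := (Cfsg.Agent.S1415.result hG M hM E hE).1
    have h2 : Group.IsNilpotent ↥(D.subgroupOf ⁅E, E⁆) := inferInstance
    exact (Group.isNilpotent_congr (Subgroup.subgroupOfEquivOfLe hDE')).mp h2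
  -- `D` normalizes `S`
  have hDS : D ≤ Subgroup.normalizer ((S : Subgroup G) : Set G) := by
    apply bg_le_of_pgroups_le
    intro r _ Q hQD hQ
    obtain ⟨T, hTD, hT, hTall, hTN⟩ := exists_normal_sylow_of_nilpotent D hDnil r
    have hQT : Q ≤ T := hTall Q hQD hQ
    have hNT : N ≤ Subgroup.normalizer (T : Set G) := hND.trans hTN
    have hTE : T ≤ E := hTD.trans (hDC.trans hCE)
    by_cases hrp : r = p
    · subst hrp
      have hTS : T ≤ (S : Subgroup G) := by
        have h1 : IsPGroup r (T ⊔ (S : Subgroup G) : Subgroup G) :=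
          hT.to_sup_of_normal_left' S.isPGroup' (hSN.trans hNT)
        have h2 := S.is_maximal' h1 le_sup_right
        exact h2 ▸ le_sup_left
      exact hQT.trans (hTS.trans Subgroup.le_normalizer)
    · have hSTc : (S : Subgroup G) ≤ Subgroup.centralizer (T : Set G) := by
        by_cases hT1 : T = ⊥
        · rw [hT1]
          intro s _
          rw [Subgroup.mem_centralizer_iff]
          intro t ht
          rw [Subgroup.mem_bot.mp ht, mul_one, one_mul]
        have hrd : r ∣ Nat.card T := dvd_card_of_pgroup_ne_bot hT hT1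
        have hrE : r ∣ Nat.card E := hrd.trans (Subgroup.card_dvd_of_le hTE)
        have hrprime : r.Prime := Fact.out
        by_cases hr1 : PRankLE r 1 M
        · -- `T` is cyclic and `N`-invariant
          have hr2 : r ≠ 2 := by
            rintro rfl
            have h2 : 2 ∣ Nat.card G := hrd.trans (Subgroup.card_subgroup_dvd_card T)
            exact (Nat.not_even_iff_odd.mpr hodd) (even_iff_two_dvd.mpr h2)
          have hTr : PRankLE r 1 T :=
            Cfsg.Agent.Lib.helper26.prankLE_mono (hTE.trans hEM) hr1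
          have hTcyc : IsCyclic T :=
            Cfsg.Agent.Lib.helper71.BGA.isCyclic_of_prankLE_one r hr2 hT hTr
          exact hSN'.trans (commutator_le_centralizer_of_cyclic hTcyc hNT)
        · -- `r ∈ τ₂(M)`
          have hr : r ∈ tau2 M := mem_tau2_of_dvd_card_compl hG M hM E hE r hrprime hrE hr1
          obtain ⟨B, hB⟩ := bg7_exists_elemAb_compl M E hE r hr
          obtain ⟨⟨-, hallr⟩, -, -⟩ := h18 M hM E hE r hr B hB
          have hSB : (S : Subgroup G) ≤ Subgroup.centralizer (B : Set G) :=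
            pgroup_centralizes_tau2 hG h17 h18 M hM E hE r p (Ne.symm hrp) hr hp B hB
              (S : Subgroup G) hSE S.isPGroup'
          apply centralizes_of_centralizes_omega (Ne.symm hrp) S.isPGroup' hT
            (pgroup_comm_of_tau2 h17 M hM E hE r hr T (hTE.trans hEM) hT) (hSN.trans hNT)
          intro t ht htr s hs
          by_cases ht1 : t = 1
          · rw [ht1, mul_one, one_mul]
          have hto : orderOf t = r := orderOf_eq_prime htr ht1
          have hzc : Nat.card (Subgroup.zpowers t) = r := by rw [Nat.card_zpowers, hto]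
          have hzE : Subgroup.zpowers t ≤ E := by
            rw [Subgroup.zpowers_le]; exact hTE ht
          have htB : t ∈ B := hallr _ hzE hzc (Subgroup.mem_zpowers t)
          exact (Subgroup.mem_centralizer_iff.mp (hSB hs) t htB).symm
      exact hQT.trans ((Subgroup.le_centralizer_iff.mp hSTc).trans
        (Subgroup.centralizer_le_normalizer _))
  -- `C` normalizes `S`
  have hconjS : ∀ c ∈ C, ∀ s ∈ (S : Subgroup G), c * s * c⁻¹ ∈ (S : Subgroup G) := by
    intro c hc s hs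
    have hQ : IsPGroup p ((S : Subgroup G).map (MulAut.conj c).toMonoidHom) := S.isPGroup'.map _
    have hQN : (S : Subgroup G).map (MulAut.conj c).toMonoidHom ≤
        Subgroup.normalizer ((S : Subgroup G) : Set G) := by
      rintro _ ⟨x, hx, rfl⟩
      have h1 : c * x * c⁻¹ = ⁅c, x⁆ * x := by rw [commutatorElement_def]; group
      show c * x * c⁻¹ ∈ _
      rw [h1]
      exact Subgroup.mul_mem _ (hDS (Subgroup.commutator_mem_commutator hc (hSC hx)))
        (Subgroup.le_normalizer hx)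
    exact le_sylow_of_le_normalizer S hQ hQN ⟨s, hs, rfl⟩
  have hCS : C ≤ Subgroup.normalizer ((S : Subgroup G) : Set G) := by
    intro c hc
    apply mem_normalizer_of_conj_mem (hconjS c hc)
    intro s hs
    have := hconjS c⁻¹ (C.inv_mem hc) s hs
    simpa using this
  -- `N` normalizes `S`
  have hconjS' : ∀ n ∈ N, ∀ s ∈ (S : Subgroup G), n * s * n⁻¹ ∈ (S : Subgroup G) := by
    intro n hn s hs
    have hQ : IsPGroup p ((S : Subgroup G).map (MulAut.conj n).toMonoidHom) := S.isPGroup'.map _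
    have hQN : (S : Subgroup G).map (MulAut.conj n).toMonoidHom ≤
        Subgroup.normalizer ((S : Subgroup G) : Set G) := by
      rintro _ ⟨x, hx, rfl⟩
      exact hCS (hconjC n hn x (hSC hx))
    exact le_sylow_of_le_normalizer S hQ hQN ⟨s, hs, rfl⟩
  intro e hen
  apply mem_normalizer_of_conj_mem (hconjS' e hen)
  intro s hs
  have := hconjS' e⁻¹ (N.inv_mem hen) s hs
  simpa using this

/-- **B-G Theorem 12.8(a)**, in the form used for the complement: `S ≤ E` and `S ⊴ E`. -/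
theorem tau2_sylow_normal [Finite G] (hG : IsMinSimpleOddOrder G) (h17 : BG7FiveHyp G)
    (h18 : BG7SixHyp G) (M : Subgroup G) (hM : IsCoatom M) (E : Subgroup G)
    (hE : IsComplIn E (sigmaCore M) M) (p : ℕ) [Fact p.Prime] (hp : p ∈ tau2 M) (A : Subgroup G)
    (hA : A ≤ E ∧ IsElementaryAbelian p A ∧ Nat.card A = p ^ 2) (S : Sylow p G)
    (hAS : A ≤ (S : Subgroup G)) (hSab : IsMulCommutative (S : Subgroup G)) :
    (S : Subgroup G) ≤ E ∧ E ≤ Subgroup.normalizer ((S : Subgroup G) : Set G) := by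
  obtain ⟨h1, h2⟩ := tau2_sylow_normal_strong hG h17 h18 M hM E hE p hp A hA S hAS hSab
  exact ⟨h1, (h18 M hM E hE p hp A hA).1.1.trans h2⟩

end Cfsg.Agent.Lib.helper60.BGTau2Ab
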