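import Mathlib
import Cfsg.Agent.Lib.helper8.BGT3Defs
import Cfsg.Agent.Lib.helper90.BGKL
import Cfsg.Agent.Lib.helper12.BGThmT
import Cfsg.Agent.S1414

/-!
# S1430 (O-c), piece K1 of `tools/S1430_OC_SPEC.md` (helper60)

`t3_half : HHalf G` -- the half lemma: in the `τ₃` context (`R ≤ E` of order `r ∈ τ₃(M)`, `H` a
maximal subgroup over `N_G(R)`): `M_α ≠ 1`, `α(M) ⊆ β(M)`, `M = M_α (M ∩ H)`, and the
`t`-subgroups of `M_α ∩ C(R)` and of `M_α ∩ C(P)` (`P ≤ M` of order `p ∈ τ₁(M)`) are cyclic.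
-/

set_option autoImplicit false
open Cfsg
open Cfsg.Agent.Lib.helper8.BGT3

namespace Cfsg.Agent.Lib.helper60.BGT3

variable {G : Type*} [Group G]

/-- PIECE K1. -/
theorem t3_half [Finite G] (hG : IsMinSimpleOddOrder G) (hN : HNorm G) (hH : HH G) :
    HHalf G := by
  classical
  intro M E R r hctx H hHc hNRH
  have hctx' := hctx
  obtain ⟨hM, hE, hr3, hRE, hRcard⟩ := hctx
  obtain ⟨hEN, hRE'⟩ := hN M E R r hctx'
  obtain ⟨hHnc, -⟩ := hH M E R r hctx' H hHc hNRH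
  have hU := Cfsg.Agent.Lib.helper13.bgx_uniq hG
  have hr : r.Prime := hr3.1
  have hrσ : r ∉ sigma M := hr3.2.1
  have hFr : Fact r.Prime := ⟨hr⟩
  have hEM : E ≤ M := hE.1
  have hRM : R ≤ M := hRE.trans hEM
  have hHM : H ≠ M := by
    intro h
    apply hHnc 1
    rw [h]
    ext x
    simp
  have hMsM : sigmaCore M ≤ M := Cfsg.Agent.Lib.helper29.piCoreOf_le (sigma M) M
  have hMsprime : ∀ s : ℕ, s.Prime → s ∣ Nat.card (sigmaCore M) → s ∈ sigma M :=
    Cfsg.Agent.Lib.helper29.prime_mem_of_dvd_card_piCoreOf (sigma M) M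
  have hMαM : alphaCore M ≤ M := Cfsg.Agent.Lib.helper29.piCoreOf_le (alpha M) M
  have hMαprime : ∀ s : ℕ, s.Prime → s ∣ Nat.card (alphaCore M) → s ∈ alpha M :=
    Cfsg.Agent.Lib.helper29.prime_mem_of_dvd_card_piCoreOf (alpha M) M
  have hMnα : M ≤ Subgroup.normalizer ((alphaCore M : Subgroup G) : Set G) :=
    Cfsg.Agent.Lib.helper29.le_normalizer_piCoreOf (alpha M) M
  have h1405 := Cfsg.Agent.S1405.result hG M hM
  have hMασ : alphaCore M ≤ sigmaCore M := h1405.2.2.1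
  have hnil := h1405.2.2.2.2
  have hασ : ∀ s, s ∈ alpha M → s ∈ sigma M := fun s hs =>
    Cfsg.Agent.Lib.helper8.bg_alpha_sub_sigma hG hU M hM hs
  have hrα : r ∉ alpha M := fun h => hrσ (hασ r h)
  have hRM' : R ≤ ⁅M, M⁆ := hRE'.trans (Subgroup.commutator_mono hEM hEM)
  have h1426 := Cfsg.Agent.S1426.result hG M hM E hE
  have hMsM' : sigmaCore M ≤ ⁅M, M⁆ := by
    calc sigmaCore M = ⁅sigmaCore M, E⁆ := h1426.2.1.symm
      _ ≤ ⁅M, M⁆ := Subgroup.commutator_mono hMsM hEM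
  have hRnα : R ≤ Subgroup.normalizer ((alphaCore M : Subgroup G) : Set G) := hRM.trans hMnα
  have hcopRα : (Nat.card R).Coprime (Nat.card (alphaCore M)) := by
    rw [hRcard, Nat.Prime.coprime_iff_not_dvd hr]
    exact fun h => hrα (hMαprime r hr h)
  have hsolvα : Group.IsSolvable (alphaCore M) :=
    hG.2.2.2 _ (ne_top_of_le_ne_top hM.1 hMαM)
  -- factorization `M_σ = M_α C_{M_σ}(R)`
  have hfac : ∀ x ∈ sigmaCore M, ∃ b ∈ alphaCore M,
      ∃ d ∈ sigmaCore M ⊓ Subgroup.centralizer (R : Set G), x = b * d := by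
    intro x hx
    have hg : ∀ a ∈ R, a * x * a⁻¹ * x⁻¹ ∈ alphaCore M := by
      intro a ha
      apply Cfsg.Agent.Lib.helper54.Good.comm_mem_alphaCore M hnil (hRM' ha) (hMsM' hx)
      have h1 : orderOf a ∣ r := hRcard ▸ Subgroup.orderOf_dvd_natCard _ ha
      have h2 : orderOf x ∣ Nat.card (sigmaCore M) := Subgroup.orderOf_dvd_natCard _ hx
      refine Nat.Coprime.coprime_dvd_left h1 (Nat.Coprime.coprime_dvd_right h2 ?_)
      rw [Nat.Prime.coprime_iff_not_dvd hr]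
      exact fun h => hrσ (hMsprime r hr h)
    obtain ⟨c, hc, hcx⟩ := Cfsg.Agent.Lib.helper1.coset_fixed R (alphaCore M) hRnα hcopRα
      (Or.inr hsolvα) x hg
    have hcMs : c ∈ sigmaCore M := by
      have h3 : c = (c * x⁻¹) * x := by group
      rw [h3]
      exact Subgroup.mul_mem _ (hMασ hcx) hx
    exact ⟨(c * x⁻¹)⁻¹, Subgroup.inv_mem _ hcx, c, ⟨hcMs, hc⟩, by group⟩
  have hCRH : Subgroup.centralizer (R : Set G) ≤ H :=
    (Subgroup.centralizer_le_normalizer _).trans hNRH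
  have hEH : E ≤ H := hEN.trans hNRH
  -- (3) `M = M_α (M ∩ H)`
  have h3 : ∀ m ∈ M, ∃ a ∈ alphaCore M, ∃ d ∈ M ⊓ H, m = a * d := by
    intro m hm
    obtain ⟨e, he, x, hx, rfl⟩ := hE.2.2.2 m hm
    obtain ⟨b, hb, d, hd, rfl⟩ := hfac x hx
    refine ⟨e * b * e⁻¹, ?_, e * d,
      ⟨M.mul_mem (hEM he) (hMsM hd.1), H.mul_mem (hEH he) (hCRH hd.2)⟩, by group⟩
    exact ((Subgroup.mem_normalizer_iff.mp (hMnα (hEM he))) b).mp hb
  -- (1) `M_α ≠ 1`
  have h1 : alphaCore M ≠ ⊥ := by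
    intro hbot
    apply hHM
    have hMH : M ≤ H := by
      intro m hm
      obtain ⟨a, ha, d, hd, rfl⟩ := h3 m hm
      rw [hbot, Subgroup.mem_bot] at ha
      rw [ha, one_mul]
      exact hd.2
    by_contra hne
    exact hHc.1 (hM.2 H (lt_of_le_of_ne hMH (fun h => hne h.symm)))
  -- (4) the `t`-subgroups of `M_α ∩ C(R)` are cyclic
  have hnuR : ¬ InUniqueMaximal (M ⊓ Subgroup.centralizer (R : Set G)) := by
    intro hu
    exact hHM (hu.unique ⟨hHc, inf_le_right.trans hCRH⟩ ⟨hM, inf_le_left⟩)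
  have h4 : ∀ (t : ℕ) (T : Subgroup G), t.Prime → IsPGroup t T →
      T ≤ alphaCore M ⊓ Subgroup.centralizer (R : Set G) → IsCyclic T := by
    intro t T ht hT hTle
    have : Fact t.Prime := ⟨ht⟩
    have hc := Cfsg.Agent.Lib.helper25.BG1428.isCyclic_inf_centralizer hG hM hT
      (hTle.trans inf_le_left) hRM
      (by
        intro s hs hsd
        rw [hRcard] at hsd
        have hsr : s = r := (Nat.prime_dvd_prime_iff_eq hs hr).mp hsd
        rw [hsr]
        exact hrα) hnuR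
    have heq : T ⊓ Subgroup.centralizer (R : Set G) = T :=
      inf_eq_left.mpr (hTle.trans inf_le_right)
    rw [heq] at hc
    exact hc
  -- (5) the `t`-subgroups of `M_α ∩ C(P)` are cyclic
  have h5 : ∀ (p : ℕ) (P : Subgroup G), p ∈ tau1 M → P ≤ M → Nat.card P = p →
      ∀ (t : ℕ) (T : Subgroup G), t.Prime → IsPGroup t T →
        T ≤ alphaCore M ⊓ Subgroup.centralizer (P : Set G) → IsCyclic T := by
    intro p P hp hPM hP t T ht hT hTle
    have : Fact t.Prime := ⟨ht⟩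
    have hpp : p.Prime := hp.1
    have hpσ : p ∉ sigma M := hp.2.1
    have : Fact p.Prime := ⟨hpp⟩
    have hpα : p ∉ alpha M := fun h => hpσ (hασ p h)
    have hP1 : P ≠ ⊥ := by
      intro h
      have h1 := hpp.one_lt
      rw [← hP, h, Subgroup.card_bot] at h1
      exact lt_irrefl _ h1
    have hc := Cfsg.Agent.Lib.helper25.BG1428.isCyclic_inf_centralizer hG hM hT
      (hTle.trans inf_le_left) hPM
      (by
        intro s hs hsd
        rw [hP] at hsd
        have hsp : s = p := (Nat.prime_dvd_prime_iff_eq hs hpp).mp hsd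
        rw [hsp]
        exact hpα)
      (by
        intro hu
        have hNM : Subgroup.normalizer (P : Set G) ≤ M :=
          Cfsg.Agent.Lib.helper76.k_normalizer_le hG hM hPM hP1 hu
        have h9 := Cfsg.Agent.S1409.result hG M hM p hpσ P hP hNM
        exact h9.1.2 hp.2.2.2.2)
    have heq : T ⊓ Subgroup.centralizer (P : Set G) = T :=
      inf_eq_left.mpr (hTle.trans inf_le_right)
    rw [heq] at hc
    exact hc
  -- (2) `α(M) ⊆ β(M)`
  have h2 : ∀ t ∈ alpha M, t ∈ beta M := by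
    intro t htα
    by_contra htβ
    have ht : t.Prime := htα.1
    have : Fact t.Prime := ⟨ht⟩
    have htσ : t ∈ sigma M := hασ t htα
    have hrt : r ≠ t := fun h => hrσ (h ▸ htσ)
    have htM : t ∣ Nat.card M := htσ.2.1
    have h1414 := Cfsg.Agent.S1414.result hG M hM
    have hnpc := (h1414.2.2.2.2 t ht htM htβ).1
    obtain ⟨K, hKn, hKmem⟩ := Cfsg.Agent.Lib.helper12.BGT.npc_mem hnpc
    obtain ⟨Pt, hPt⟩ := Cfsg.Agent.Lib.helper1.exists_invariant_sylow (p := t) R (alphaCore M)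
      hRnα hcopRα (Or.inr hsolvα)
    obtain ⟨T, hTdef⟩ : ∃ T : Subgroup G,
      T = (Pt : Subgroup (alphaCore M)).map (alphaCore M).subtype := ⟨_, rfl⟩
    rw [← hTdef] at hPt
    have hTα : T ≤ alphaCore M := hTdef ▸ Subgroup.map_subtype_le _
    have hTp : IsPGroup t T := hTdef ▸ Pt.isPGroup'.map _
    have hTR : T ≤ Subgroup.centralizer (R : Set G) := by
      intro y hy
      rw [Subgroup.mem_centralizer_iff]
      intro x hx
      have hxM' : x ∈ ⁅M, M⁆ := hRM' hx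
      have hyM' : y ∈ ⁅M, M⁆ := hMsM' (hMασ (hTα hy))
      have hx'K : (⟨x, hxM'⟩ : ↥⁅M, M⁆) ∈ K := by
        rw [hKmem, Subgroup.orderOf_mk]
        have h1 : orderOf x ∣ r := hRcard ▸ Subgroup.orderOf_dvd_natCard _ hx
        exact Nat.Coprime.coprime_dvd_left h1 ((Nat.coprime_primes hr ht).mpr hrt)
      have hcK : (⟨x, hxM'⟩ : ↥⁅M, M⁆) * ⟨y, hyM'⟩ * (⟨x, hxM'⟩ : ↥⁅M, M⁆)⁻¹ *
          (⟨y, hyM'⟩ : ↥⁅M, M⁆)⁻¹ ∈ K := by
        have h := hKn.conj_mem _ (K.inv_mem hx'K) ⟨y, hyM'⟩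
        have h' := K.mul_mem hx'K h
        have e : (⟨x, hxM'⟩ : ↥⁅M, M⁆) * ⟨y, hyM'⟩ * (⟨x, hxM'⟩ : ↥⁅M, M⁆)⁻¹ *
            (⟨y, hyM'⟩ : ↥⁅M, M⁆)⁻¹ =
            ⟨x, hxM'⟩ * (⟨y, hyM'⟩ * (⟨x, hxM'⟩ : ↥⁅M, M⁆)⁻¹ * (⟨y, hyM'⟩ : ↥⁅M, M⁆)⁻¹) := by
          group
        rw [e]
        exact h'
      have hcT : x * y * x⁻¹ * y⁻¹ ∈ T := by
        have h1 : x * y * x⁻¹ ∈ T := (Subgroup.mem_normalizer_iff.mp (hPt hx) y).mp hy
        exact T.mul_mem h1 (T.inv_mem hy)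
      have hc1 : x * y * x⁻¹ * y⁻¹ = 1 := by
        obtain ⟨k, hk⟩ := hTp ⟨_, hcT⟩
        have hk' : (x * y * x⁻¹ * y⁻¹) ^ t ^ k = 1 := by
          simpa using congrArg Subtype.val hk
        have hcop : (orderOf (x * y * x⁻¹ * y⁻¹)).Coprime t := by
          have h := (hKmem _).mp hcK
          rw [← Subgroup.orderOf_coe] at h
          simpa using h
        have hd : orderOf (x * y * x⁻¹ * y⁻¹) ∣ t ^ k := orderOf_dvd_of_pow_eq_one hk'
        have h1 : orderOf (x * y * x⁻¹ * y⁻¹) = 1 :=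
          Nat.Coprime.eq_one_of_dvd (hcop.pow_right k) hd
        exact orderOf_eq_one_iff.mp h1
      have : x * y = (x * y * x⁻¹ * y⁻¹) * (y * x) := by group
      rw [this, hc1, one_mul]
    have hcycT : IsCyclic ↥T := h4 t T ht hTp (le_inf hTα hTR)
    have hHall := h1405.1
    have hidx : ¬ t ∣ (piCore (alpha M) ↥M).index := by
      have h := hHall.2.2 t ht htα
      rwa [show alphaCore M = (piCore (alpha M) ↥M).map M.subtype from rfl,
        Cfsg.Agent.Lib.helper71.BGA.relIndex_map_subtype] at h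
    have hr2 : ¬ PRankLE t 2 ↥T := by
      obtain ⟨B, hBM, hBe, hBcard⟩ :=
        (Cfsg.Agent.Lib.helper28.not_pRankLE_subgroup_iff t 2 M).mp htα.2
      have hBp : IsPGroup t B := by
        intro b
        refine ⟨1, ?_⟩
        rw [pow_one]
        exact Subtype.ext (by simpa using hBe.2 b b.2)
      have hBMα : B ≤ alphaCore M :=
        Cfsg.Agent.Lib.helper71.BGA.le_map_of_isPGroup (piCore (alpha M) ↥M) hidx hBM hBp
      rw [hTdef]
      exact Cfsg.Agent.Lib.helper71.BGA.not_prankLE_sylow_map Pt hBMα hBe hBcard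
    apply hr2
    intro A _ hA
    have : IsCyclic ↥A := Subgroup.isCyclic A
    obtain ⟨g, hg⟩ := IsCyclic.exists_generator (α := ↥A)
    have hgo : orderOf g = Nat.card ↥A := orderOf_eq_card_of_forall_mem_zpowers hg
    have hgt : g ^ t = 1 := Subtype.ext (by simpa using hA g.1 g.2)
    have h1 : orderOf g ∣ t := orderOf_dvd_of_pow_eq_one hgt
    rw [← hgo]
    exact (Nat.le_of_dvd ht.pos h1).trans (Nat.le_self_pow (by norm_num) t)
  exact ⟨h1, h2, h3, h4, h5⟩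

end Cfsg.Agent.Lib.helper60.BGT3
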