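import Mathlib
import Cfsg.Agent.Lib.helper71.BGRegNA
import Cfsg.Agent.Lib.helper55.NormalElemAb
import Cfsg.Agent.Lib.helper30.RankTwoC
import Cfsg.Agent.Lib.helper3.ElemAb
import Cfsg.Agent.Lib.helper3.PGroupNormal
import Cfsg.Agent.Lib.helper13.BG11a
import Cfsg.Agent.Lib.helper65.Fitting
import Cfsg.Agent.Lib.helper60.BGCentU
import Cfsg.Agent.Lib.helper97.BGSeven1
import Cfsg.Agent.S1409
import Cfsg.Agent.S1417
import Cfsg.Agent.S1418

/-!
# S1430, open item (NA): piece N2 of `tools/S1430_NA_SPEC.md` (helper60)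

`na_H`: in the (NA) configuration (`r ∈ τ₂(M)` with nonabelian Sylow `r`-subgroups, `P ≤ E` of
order `p ∈ τ₁(M)` with `C_{M_σ}(P) ≠ 1` centralizing `R = A ∩ C_G(M_σ)`), a maximal subgroup
`H ≥ N_G(P)` has cyclic `r`-subgroups, `r ∉ σ(H)` and `p ∈ σ(H)`.
-/

set_option autoImplicit false
open Cfsg

namespace Cfsg.Agent.Lib.helper60.BGNA

variable {G : Type*} [Group G]

/-- A non-cyclic `r`-group `T` (`r` odd) containing an elementary abelian subgroup `R` of order
`r` has an elementary abelian subgroup of order `r ^ 2` centralizing `R`. -/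
theorem exists_elemAb_sq_cent [Finite G] (r : ℕ) [Fact r.Prime] (hr2 : r ≠ 2) (T R : Subgroup G)
    (hT : IsPGroup r T) (hTc : ¬ IsCyclic ↥T) (hRT : R ≤ T) (hR : Nat.card R = r)
    (hRe : IsElementaryAbelian r R) :
    ∃ B : Subgroup G, B ≤ T ∧ IsElementaryAbelian r B ∧ Nat.card B = r ^ 2 ∧
      B ≤ Subgroup.centralizer (R : Set G) := by
  have hrp : r.Prime := Fact.out
  have hTp : IsPGroup r ↥T := hT
  have hnt : Nontrivial ↥T := by
    by_contra h
    rw [not_nontrivial_iff_subsingleton] at h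
    exact hTc isCyclic_of_subsingleton
  obtain ⟨z, -, hzc, hz1, hzp⟩ :=
    Cfsg.Agent.Lib.helper3.exists_central_of_normal_ne_bot hTp (⊤ : Subgroup ↥T) top_ne_bot
  have hzT : ∀ t ∈ T, t * (z : G) = (z : G) * t := by
    intro t ht
    have := Subgroup.mem_center_iff.mp hzc ⟨t, ht⟩
    exact congrArg Subtype.val this
  have hz1' : (z : G) ≠ 1 := fun h => hz1 (Subtype.ext h)
  have hzp' : (z : G) ^ r = 1 := by
    have := congrArg Subtype.val hzp
    simpa using this
  by_cases hzR : (z : G) ∈ R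
  · have hRz : R = Subgroup.zpowers (z : G) := by
      symm
      apply Subgroup.eq_of_le_of_card_ge (Subgroup.zpowers_le.mpr hzR)
      rw [hR, Nat.card_zpowers, orderOf_eq_prime hzp' hz1']
    obtain ⟨B₀, -, hB₀e, hB₀c⟩ := Cfsg.Agent.Lib.helper55.exists_normal_elemAb_sq hr2 hTp hTc
    refine ⟨B₀.map T.subtype, Subgroup.map_subtype_le _, ?_, ?_, ?_⟩
    · refine ⟨⟨⟨fun a b => ?_⟩⟩, ?_⟩
      · obtain ⟨a', ha', hae⟩ := a.2
        obtain ⟨b', hb', hbe⟩ := b.2
        have h := hB₀e.1.is_comm.comm (⟨a', ha'⟩ : B₀) ⟨b', hb'⟩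
        have h' : a' * b' = b' * a' := congrArg Subtype.val h
        have h'' : (a' : G) * (b' : G) = (b' : G) * (a' : G) := congrArg Subtype.val h'
        apply Subtype.ext
        show (a : G) * (b : G) = (b : G) * (a : G)
        rw [← hae, ← hbe]
        exact h''
      · rintro _ ⟨a', ha', rfl⟩
        have h2 := congrArg Subtype.val (hB₀e.2 a' ha')
        simpa using h2
    · rw [Subgroup.card_map_of_injective T.subtype_injective, hB₀c]
    · rintro _ ⟨b, -, rfl⟩
      rw [hRz, Subgroup.mem_centralizer_iff]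
      intro y hy
      obtain ⟨k, rfl⟩ := Subgroup.mem_zpowers_iff.mp hy
      have hc : Commute (z : G) (b : G) := (hzT b b.2).symm
      exact (hc.zpow_left k).eq
  · refine ⟨R ⊔ Subgroup.zpowers (z : G), sup_le hRT (Subgroup.zpowers_le.mpr z.2), ?_, ?_, ?_⟩
    · exact Cfsg.Agent.Lib.helper3.isElementaryAbelian_sup_zpowers r R hRe (z : G) hzp'
        (fun e he => (hzT e (hRT he)).symm)
    · rw [Cfsg.Agent.Lib.helper3.card_sup_zpowers R (z : G) hzR hzp'
        (fun e he => (hzT e (hRT he)).symm), hR, sq]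
    · apply sup_le
      · intro a ha
        rw [Subgroup.mem_centralizer_iff]
        intro b hb
        exact congrArg Subtype.val (hRe.1.is_comm.comm ⟨b, hb⟩ ⟨a, ha⟩)
      · rw [Subgroup.zpowers_le, Subgroup.mem_centralizer_iff]
        intro b hb
        exact hzT b (hRT hb)

/-- PIECE N2 (the maximal subgroup `H ≥ N_G(P)`). -/
theorem na_H [Finite G] (hG : IsMinSimpleOddOrder G) (M : Subgroup G) (hM : IsCoatom M)
    (E : Subgroup G) (hE : IsComplIn E (sigmaCore M) M) (r : ℕ) [Fact r.Prime] (hr : r ∈ tau2 M)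
    (hS : ∀ S : Sylow r G, ¬ IsMulCommutative (S : Subgroup G))
    (A : Subgroup G) (hAE : A ≤ E) (hAe : IsElementaryAbelian r A) (hA2 : Nat.card A = r ^ 2)
    (p : ℕ) (hp : p ∈ tau1 M) (P : Subgroup G) (hPE : P ≤ E) (hP : Nat.card P = p)
    (hY : sigmaCore M ⊓ Subgroup.centralizer (P : Set G) ≠ ⊥)
    (hRP : A ⊓ Subgroup.centralizer (sigmaCore M : Set G) ≤ Subgroup.centralizer (P : Set G))
    (hR : Nat.card ↥(A ⊓ Subgroup.centralizer (sigmaCore M : Set G)) = r)
    (hCR : Subgroup.centralizer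
      ((A ⊓ Subgroup.centralizer (sigmaCore M : Set G) : Subgroup G) : Set G) ≤ M)
    (hpr : p ∣ r - 1)
    (H : Subgroup G) (hH : IsCoatom H) (hNP : Subgroup.normalizer (P : Set G) ≤ H) :
    (∀ T : Subgroup G, T ≤ H → IsPGroup r T → IsCyclic T) ∧ r ∉ sigma H ∧ p ∈ sigma H := by
  classical
  have hrp : r.Prime := Fact.out
  have hpp : p.Prime := hp.1
  have : Fact p.Prime := ⟨hpp⟩
  obtain ⟨hodd, -, -, -⟩ := id hG
  have hr2 : r ≠ 2 := by
    rintro rfl
    have h1 : 2 ∣ Nat.card A := by rw [hA2]; exact dvd_pow_self 2 (by norm_num)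
    have h2 : 2 ∣ Nat.card G := h1.trans (Subgroup.card_subgroup_dvd_card A)
    exact (Nat.not_even_iff_odd.mpr hodd) (even_iff_two_dvd.mpr h2)
  have hHM : H ≠ M := by
    intro h
    rw [h] at hNP
    obtain ⟨⟨-, h1⟩, -, -⟩ := Cfsg.Agent.S1409.result hG M hM p hp.2.1 P hP hNP
    exact h1 hp.2.2.2.2
  obtain ⟨R, hRdef⟩ : ∃ R : Subgroup G,
      R = A ⊓ Subgroup.centralizer (sigmaCore M : Set G) := ⟨_, rfl⟩
  rw [← hRdef] at hRP hR hCR
  have hRA : R ≤ A := by rw [hRdef]; exact inf_le_left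
  have hRe : IsElementaryAbelian r R := by
    refine ⟨⟨⟨fun a b => ?_⟩⟩, fun a ha => hAe.2 a (hRA ha)⟩
    have h : (a : G) * (b : G) = (b : G) * (a : G) :=
      congrArg Subtype.val (hAe.1.is_comm.comm ⟨a, hRA a.2⟩ ⟨b, hRA b.2⟩)
    exact Subtype.ext h
  have hEM : E ≤ M := hE.1
  have hPM : P ≤ M := hPE.trans hEM
  have hPH : P ≤ H := Subgroup.le_normalizer.trans hNP
  have hCPH : Subgroup.centralizer (P : Set G) ≤ H :=
    (Subgroup.centralizer_le_normalizer _).trans hNP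
  have hRH : R ≤ H := hRP.trans hCPH
  -- (a) `r`-subgroups of `H` are cyclic
  have ha : ∀ T : Subgroup G, T ≤ H → IsPGroup r T → IsCyclic T := by
    intro T hTH hT
    by_contra hTc
    have hT' : IsPGroup r (T.subgroupOf H) :=
      hT.comap_of_injective H.subtype H.subtype_injective
    obtain ⟨Q0, hQ0⟩ := hT'.exists_le_sylow
    have hR' : IsPGroup r (R.subgroupOf H) :=
      (IsPGroup.of_card (n := 1) (by rw [hR, pow_one])).comap_of_injective H.subtype
        H.subtype_injective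
    obtain ⟨Q1, hQ1⟩ := hR'.exists_le_sylow
    obtain ⟨g, hg⟩ := MulAction.exists_smul_eq ↥H Q0 Q1
    have hT0H : (Q1 : Subgroup ↥H).map H.subtype ≤ H := Subgroup.map_subtype_le _
    have hT0p : IsPGroup r ((Q1 : Subgroup ↥H).map H.subtype) := Q1.isPGroup'.map _
    have hRT0 : R ≤ (Q1 : Subgroup ↥H).map H.subtype := by
      intro x hx
      exact ⟨⟨x, hRH hx⟩, hQ1 (Subgroup.mem_subgroupOf.mpr hx), rfl⟩
    have hT0c : ¬ IsCyclic ↥((Q1 : Subgroup ↥H).map H.subtype) := by
      intro hc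
      apply hTc
      have h1 : IsCyclic ↥(Q1 : Subgroup ↥H) :=
        isCyclic_of_injective
          ((Q1 : Subgroup ↥H).equivMapOfInjective H.subtype H.subtype_injective).toMonoidHom
          (MulEquiv.injective _)
      have h2 : IsCyclic ↥((g • Q0 : Sylow r ↥H) : Subgroup ↥H) := by rw [hg]; exact h1
      have h3 : IsCyclic ↥(Q0 : Subgroup ↥H) :=
        isCyclic_of_injective (Q0.equivSMul g).toMonoidHom (MulEquiv.injective _)
      have h4 : IsCyclic ↥(T.subgroupOf H) := Subgroup.isCyclic_of_le hQ0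
      exact isCyclic_of_injective (Subgroup.subgroupOfEquivOfLe hTH).symm.toMonoidHom
        (MulEquiv.injective _)
    obtain ⟨B, hBT, hBe, hBc, hBR⟩ := exists_elemAb_sq_cent r hr2 _ R hT0p hT0c hRT0 hR hRe
    have hBM : B ≤ M := hBR.trans hCR
    have hBH : B ≤ H := hBT.trans hT0H
    obtain ⟨-, -, -, -, h5, -⟩ := Cfsg.Agent.S1417.result hG M hM r hr B ⟨hBM, hBe, hBc⟩
    have hbot := h5 H hH hHM hBH
    apply hY
    rw [eq_bot_iff, ← hbot]
    exact inf_le_inf_left _ hCPH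
  -- (b) `r ∉ σ(H)`
  have hb : r ∉ sigma H := by
    intro hrσ
    obtain ⟨Q⟩ : Nonempty (Sylow r ↥H) := inferInstance
    have hidx := Cfsg.Agent.Lib.helper13.sigma_sylow_index H hrσ Q
    have hQp : IsPGroup r ((Q : Subgroup ↥H).map H.subtype) := Q.isPGroup'.map _
    have hc : IsCyclic ↥((Q : Subgroup ↥H).map H.subtype) :=
      ha _ (Subgroup.map_subtype_le _) hQp
    apply hS (hQp.toSylow hidx)
    rw [IsPGroup.toSylow_coe]
    obtain ⟨g, hg⟩ := hc.exists_generator
    refine ⟨⟨fun a b => ?_⟩⟩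
    obtain ⟨k, rfl⟩ := Subgroup.mem_zpowers_iff.mp (hg a)
    obtain ⟨l, rfl⟩ := Subgroup.mem_zpowers_iff.mp (hg b)
    rw [← zpow_add, ← zpow_add, add_comm]
  refine ⟨ha, hb, ?_⟩
  -- (c) `p ∈ σ(H)`
  by_contra hpσ
  obtain ⟨⟨h2, h1⟩, -, -⟩ := Cfsg.Agent.S1409.result hG H hH p hpσ P hP hNP
  have hpτ : p ∈ tau2 H := ⟨hpp, hpσ, h2, h1⟩
  have hple : p ≤ r - 1 := Nat.le_of_dvd (by have := hrp.two_le; omega) hpr
  have hpr_ne : p ≠ r := by have := hrp.two_le; omega
  have hRnP : R ≤ Subgroup.normalizer (P : Set G) :=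
    hRP.trans (Subgroup.centralizer_le_normalizer _)
  have hcard : Nat.card (R ⊔ P : Subgroup G) ∣ Nat.card R * Nat.card P :=
    Cfsg.Agent.Lib.helper65.card_sup_dvd_mul hRnP
  have hX : ∀ q : ℕ, q.Prime → q ∣ Nat.card (R ⊔ P : Subgroup G) → q ∉ sigma H := by
    intro q hq hqd
    rw [hR, hP] at hcard
    rcases (Nat.Prime.dvd_mul hq).mp (hqd.trans hcard) with h | h
    · rw [(Nat.prime_dvd_prime_iff_eq hq hrp).mp h]; exact hb
    · rw [(Nat.prime_dvd_prime_iff_eq hq hpp).mp h]; exact hpσ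
  obtain ⟨EH, hEH, hle⟩ := Cfsg.Agent.Lib.helper60.BGCentU.exists_compl_ge hG H hH (R ⊔ P)
    (sup_le hRH hPH) hX
  obtain ⟨B, hBE, hBe, hBc⟩ := Cfsg.Agent.Lib.helper97.bg7_exists_elemAb_compl H EH hEH p hpτ
  obtain ⟨⟨hEB, hall⟩, -, -⟩ := Cfsg.Agent.S1418.result hG H hH EH hEH p hpτ B ⟨hBE, hBe, hBc⟩
  have hPB : P ≤ B := hall P (le_sup_right.trans hle) hP
  have hRB : R ≤ Subgroup.normalizer (B : Set G) := (le_sup_left.trans hle).trans hEB
  have hBab : ∀ a ∈ B, ∀ b ∈ B, a * b = b * a := fun a ha b hb =>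
    congrArg Subtype.val (hBe.1.is_comm.comm ⟨a, ha⟩ ⟨b, hb⟩)
  have hBnP : B ≤ Subgroup.normalizer (P : Set G) := by
    refine le_trans ?_ (Subgroup.centralizer_le_normalizer _)
    intro b hb
    rw [Subgroup.mem_centralizer_iff]
    intro x hx
    exact hBab x (hPB hx) b hb
  have hidx : P.relIndex B ∣ p := by
    have h1 : Nat.card (P.subgroupOf B) * (P.subgroupOf B).index = Nat.card B :=
      Subgroup.card_mul_index _
    rw [Nat.card_congr (Subgroup.subgroupOfEquivOfLe hPB).toEquiv, hP, hBc, sq] at h1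
    have h2 : (P.subgroupOf B).index = p := Nat.eq_of_mul_eq_mul_left hpp.pos h1
    show (P.subgroupOf B).index ∣ p
    rw [h2]
  have hcop : r.Coprime (p - 1) := by
    rw [Nat.Prime.coprime_iff_not_dvd hrp]
    intro h
    have := Nat.le_of_dvd (by have := hpp.two_le; omega) h
    omega
  have hBR : B ≤ Subgroup.centralizer (R : Set G) := by
    intro b hb
    rw [Subgroup.mem_centralizer_iff]
    intro x hx
    have hxr : x ^ r = 1 := hAe.2 x (hRA hx)
    have key := Cfsg.Agent.Lib.helper30.section_trivial_of_card_dvd_prime p r hcop B P hPB hBnP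
      hidx x (hRB hx) (hRnP hx) hxr
    obtain ⟨c, hc⟩ : ∃ c : G, c = x * b * x⁻¹ * b⁻¹ := ⟨_, rfl⟩
    have hcP : c ∈ P := hc ▸ key b hb
    have hxc : x * c = c * x := by
      have := Subgroup.mem_centralizer_iff.mp (hRP hx) c hcP
      exact this.symm
    have hxb : x * b * x⁻¹ = c * b := by rw [hc]; group
    have hpow : ∀ k : ℕ, x ^ k * b * (x ^ k)⁻¹ = c ^ k * b := by
      intro k
      induction k with
      | zero => simp
      | succ k ih =>
        have e1 : x ^ (k + 1) * b * (x ^ (k + 1))⁻¹ = x * (x ^ k * b * (x ^ k)⁻¹) * x⁻¹ := by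
          rw [pow_succ']; group
        have e2 : x * (c ^ k * b) * x⁻¹ = (x * c ^ k * x⁻¹) * (x * b * x⁻¹) := by group
        have e3 : x * c ^ k * x⁻¹ = c ^ k := by
          have h : Commute x (c ^ k) := (show Commute x c from hxc).pow_right k
          rw [h.eq, mul_inv_cancel_right]
        rw [e1, ih, e2, e3, hxb, pow_succ, mul_assoc]
    have hcr : c ^ r = 1 := by
      have h := hpow r
      rw [hxr, one_mul, inv_one, mul_one] at h
      have h' : c ^ r * b = 1 * b := by rw [one_mul]; exact h.symm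
      exact mul_right_cancel h'
    have hcp : c ^ p = 1 := by
      have h := pow_card_eq_one' (G := ↥P) (x := (⟨c, hcP⟩ : ↥P))
      rw [hP] at h
      exact congrArg Subtype.val h
    have hc1 : c = 1 := by
      have h1 : orderOf c ∣ r := orderOf_dvd_of_pow_eq_one hcr
      have h2 : orderOf c ∣ p := orderOf_dvd_of_pow_eq_one hcp
      have h3 : orderOf c ∣ Nat.gcd r p := Nat.dvd_gcd h1 h2
      rw [(Nat.coprime_primes hrp hpp).mpr (Ne.symm hpr_ne)] at h3
      exact orderOf_eq_one_iff.mp (Nat.dvd_one.mp h3)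
    rw [hc1, one_mul] at hxb
    have := congrArg (fun t => t * x) hxb
    simpa [mul_assoc] using this
  have hBM : B ≤ M := hBR.trans hCR
  have hc : Nat.card (B.subgroupOf M) = p ^ 2 := by
    rw [Nat.card_congr (Subgroup.subgroupOfEquivOfLe hBM).toEquiv, hBc]
  have hfin := hp.2.2.2.2 (B.subgroupOf M)
    ⟨⟨fun a b => by
      have h := congrArg Subtype.val (hBe.1.is_comm.comm ⟨a.1.1, a.2⟩ ⟨b.1.1, b.2⟩)
      exact Subtype.ext (Subtype.ext (by simpa using h))⟩⟩
    (fun a ha => by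
      have h := hBe.2 a.1 ha
      exact Subtype.ext (by simpa using h))
  rw [hc, pow_one] at hfin
  nlinarith [hpp.two_le]

end Cfsg.Agent.Lib.helper60.BGNA
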