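import Mathlib
import Cfsg.Prelude.Def_OddOrderLocal
import Cfsg.Agent.Lib.helper60.BGTau2Ab
import Cfsg.Agent.S1408
import Cfsg.Agent.S1416
import Cfsg.Agent.S1417
import Cfsg.Agent.S1419

/-!
# The elements of `U` with fixed points on `M_σ` generate an abelian group (statement S1359)

In the standard factorisation `M = K U M_σ`, the elements of `U` centralizing a non-identity
element of `M_σ` are `τ₂(M)`-elements.  If some `p ∈ τ₂(M)` has nonabelian Sylow subgroups in `G`
they all lie in `A ∩ C_G(M_σ)` (S1419); otherwise the Sylow `q`-subgroups of a complement `E ≥ U`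
are abelian and normal in `E` for all `q ∈ τ₂(M)` (`tau2_sylow_normal`), hence commute pairwise.
-/

set_option autoImplicit false
open Cfsg

namespace Cfsg.Agent.Lib.helper60.BGHatU

open Cfsg.Agent.Lib.helper8 Cfsg.Agent.Lib.helper97 Cfsg.Agent.Lib.helper60.BGCentU
open Cfsg.Agent.Lib.helper60.BGTau2Ab

variable {G : Type*} [Group G]

/-- An abelian Sylow subgroup over a given `p`-subgroup, once some Sylow `p`-subgroup is abelian. -/
theorem exists_comm_sylow_ge [Finite G] (p : ℕ) [Fact p.Prime] (S₀ : Sylow p G)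
    (h : IsMulCommutative (S₀ : Subgroup G)) (A : Subgroup G) (hA : IsPGroup p A) :
    ∃ S : Sylow p G, A ≤ (S : Subgroup G) ∧ IsMulCommutative (S : Subgroup G) := by
  obtain ⟨S, hS⟩ := hA.exists_le_sylow
  obtain ⟨g, hg⟩ := MulAction.exists_smul_eq G S₀ S
  refine ⟨S, hS, ⟨⟨fun a b => ?_⟩⟩⟩
  have ha : g⁻¹ * (a : G) * g ∈ (S₀ : Subgroup G) := by
    apply (bg_mem_smul_sylow S₀ g _).mp
    rw [hg]; exact a.2
  have hb : g⁻¹ * (b : G) * g ∈ (S₀ : Subgroup G) := by
    apply (bg_mem_smul_sylow S₀ g _).mp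
    rw [hg]; exact b.2
  have h1 := congrArg Subtype.val (h.is_comm.comm ⟨_, ha⟩ ⟨_, hb⟩)
  apply Subtype.ext
  have h2 : g⁻¹ * ((a : G) * b) * g = g⁻¹ * ((b : G) * a) * g := by
    calc g⁻¹ * ((a : G) * b) * g = g⁻¹ * a * g * (g⁻¹ * b * g) := by group
      _ = g⁻¹ * b * g * (g⁻¹ * a * g) := h1
      _ = g⁻¹ * ((b : G) * a) * g := by group
  exact mul_left_cancel (mul_right_cancel h2)

/-- If all `τ₂(M)`-primes have abelian Sylow subgroups in `G`, then `τ₂(M)`-subgroups of prime
power order of a complement `E` commute elementwise. -/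
theorem tau2_pgroups_commute [Finite G] (hG : IsMinSimpleOddOrder G) (h17 : BG7FiveHyp G)
    (h18 : BG7SixHyp G) (M : Subgroup G) (hM : IsCoatom M) (E : Subgroup G)
    (hE : IsComplIn E (sigmaCore M) M)
    (hab : ∀ (q : ℕ) [Fact q.Prime], q ∈ tau2 M →
      ∃ S : Sylow q G, IsMulCommutative (S : Subgroup G))
    (r r' : ℕ) [Fact r.Prime] [Fact r'.Prime] (hr : r ∈ tau2 M) (hr' : r' ∈ tau2 M)
    (Q Q' : Subgroup G) (hQE : Q ≤ E) (hQ'E : Q' ≤ E) (hQ : IsPGroup r Q)
    (hQ' : IsPGroup r' Q') : Q ≤ Subgroup.centralizer (Q' : Set G) := by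
  obtain ⟨B, hB⟩ := bg7_exists_elemAb_compl M E hE r hr
  obtain ⟨S₀, hS₀⟩ := hab r hr
  obtain ⟨S, hBS, hSab⟩ := exists_comm_sylow_ge r S₀ hS₀ B (IsPGroup.of_card hB.2.2)
  obtain ⟨hSE, hES⟩ := tau2_sylow_normal hG h17 h18 M hM E hE r hr B hB S hBS hSab
  have hQS : Q ≤ (S : Subgroup G) := le_sylow_of_le_normalizer S hQ (hQE.trans hES)
  by_cases hrr : r = r'
  · subst hrr
    have hQ'S : Q' ≤ (S : Subgroup G) := le_sylow_of_le_normalizer S hQ' (hQ'E.trans hES)
    intro a ha
    rw [Subgroup.mem_centralizer_iff]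
    intro b hb
    exact congrArg Subtype.val (hSab.is_comm.comm ⟨b, hQ'S hb⟩ ⟨a, hQS ha⟩)
  · obtain ⟨B', hB'⟩ := bg7_exists_elemAb_compl M E hE r' hr'
    obtain ⟨S₀', hS₀'⟩ := hab r' hr'
    obtain ⟨S', hBS', hSab'⟩ := exists_comm_sylow_ge r' S₀' hS₀' B' (IsPGroup.of_card hB'.2.2)
    obtain ⟨hSE', hES'⟩ := tau2_sylow_normal hG h17 h18 M hM E hE r' hr' B' hB' S' hBS' hSab'
    have hQ'S' : Q' ≤ (S' : Subgroup G) := le_sylow_of_le_normalizer S' hQ' (hQ'E.trans hES')
    have hdisj : Disjoint (S : Subgroup G) (S' : Subgroup G) :=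
      IsPGroup.disjoint_of_ne r r' hrr _ _ S.isPGroup' S'.isPGroup'
    intro a ha
    rw [Subgroup.mem_centralizer_iff]
    intro b hb
    have haS := hQS ha
    have hbS' := hQ'S' hb
    have haE := hQE ha
    have hbE := hQ'E hb
    have h1 : a * b * a⁻¹ * b⁻¹ ∈ (S : Subgroup G) := by
      have h0 : b * a⁻¹ * b⁻¹ ∈ (S : Subgroup G) :=
        (Subgroup.mem_normalizer_iff.mp (hES hbE) a⁻¹).mp ((S : Subgroup G).inv_mem haS)
      have h := (S : Subgroup G).mul_mem haS h0
      have e : a * (b * a⁻¹ * b⁻¹) = a * b * a⁻¹ * b⁻¹ := by group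
      rwa [e] at h
    have h2 : a * b * a⁻¹ * b⁻¹ ∈ (S' : Subgroup G) := by
      have h0 : a * b * a⁻¹ ∈ (S' : Subgroup G) :=
        (Subgroup.mem_normalizer_iff.mp (hES' haE) b).mp hbS'
      exact (S' : Subgroup G).mul_mem h0 ((S' : Subgroup G).inv_mem hbS')
    have h3 : a * b * a⁻¹ * b⁻¹ = 1 := Subgroup.disjoint_def.mp hdisj h1 h2
    have h4 : a * b = b * a := by
      have := congrArg (fun z => z * b * a) h3
      simpa [mul_assoc] using this
    exact h4.symm

/-- Primes dividing `|U|` are outside `σ(M)`. -/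
theorem not_mem_sigma_of_dvd_card_U [Finite G] (hG : IsMinSimpleOddOrder G) (M : Subgroup G)
    (hM : IsCoatom M) (K U : Subgroup G) (hKU : IsSigmaDecomposition M K U) (p : ℕ)
    (hpp : p.Prime) (hpU : p ∣ Nat.card U) : p ∉ sigma M := by
  have : Fact p.Prime := ⟨hpp⟩
  have hU : BGUniqHyp G := fun K hK h1 h2 => Cfsg.Agent.S1403.result hG K hK h1 h2
  have hF : BGFusHyp G := by
    intro M hM p hp X hXp hX1 hXM g hg
    have : Fact p.Prime := ⟨hp.1⟩
    exact (Cfsg.Agent.S1404.result hG M hM p hp X hXp hX1 hXM).1 g hg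
  have hUM : U ≤ M := hKU.compl.1
  have hUinf : U ⊓ (K ⊔ sigmaCore M) = ⊥ := hKU.compl.2.2.1
  obtain ⟨x, hx⟩ := exists_prime_orderOf_dvd_card' (G := ↥U) p hpU
  have hxG : orderOf (x : G) = p := by rw [Subgroup.orderOf_coe, hx]
  have hx1 : (x : G) ≠ 1 := by
    intro h
    rw [h, orderOf_one] at hxG
    exact hpp.one_lt.ne hxG
  intro hp
  have hQp : IsPGroup p (Subgroup.zpowers (x : G)) :=
    IsPGroup.of_card (n := 1) (by rw [Nat.card_zpowers, hxG, pow_one])
  have hQU : Subgroup.zpowers (x : G) ≤ U := by rw [Subgroup.zpowers_le]; exact x.2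
  have h1 : Subgroup.zpowers (x : G) ≤ sigmaCore M :=
    bg_pgroup_le_sigmaCore hG hU hF M hM hp _ (hQU.trans hUM) hQp
  have h2 : Subgroup.zpowers (x : G) ≤ U ⊓ (K ⊔ sigmaCore M) :=
    le_inf hQU (h1.trans le_sup_right)
  rw [hUinf] at h2
  exact hx1 (Subgroup.mem_bot.mp (h2 (Subgroup.mem_zpowers _)))

/-- **Statement S1359**: the subgroup generated by the elements of `U` centralizing a
non-identity element of `M_σ` is abelian. -/
theorem sigmaHat_closure_comm [Finite G] (hG : IsMinSimpleOddOrder G) (M : Subgroup G)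
    (hM : IsCoatom M) (K U : Subgroup G) (hKU : IsSigmaDecomposition M K U) :
    IsMulCommutative (Subgroup.closure ((U : Set G) ∩ sigmaHat M)) := by
  have h16 : BGTwelveFourHyp G := fun M hM p _ A hA => Cfsg.Agent.S1416.result hG M hM p A hA
  have h17 : BG7FiveHyp G := fun M hM p _ hp A hA => Cfsg.Agent.S1417.result hG M hM p hp A hA
  have h18 : BG7SixHyp G := bg7_six_of hG h16 h17
  have hUM : U ≤ M := hKU.compl.1
  obtain ⟨E, hE, hUE⟩ := exists_compl_ge hG M hM U hUM
    (fun p hp hpU => not_mem_sigma_of_dvd_card_U hG M hM K U hKU p hp hpU)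
  have hEM : E ≤ M := hE.1
  -- non-identity elements of `U ∩ M̂_σ` are nonregular `τ₂(M)`-elements
  have hT : ∀ u ∈ (U : Set G) ∩ sigmaHat M, u ≠ 1 →
      (sigmaCore M ⊓ Subgroup.centralizer ((Subgroup.zpowers u : Subgroup G) : Set G) ≠ ⊥) ∧
        ∀ q : ℕ, q.Prime → q ∣ orderOf u → q ∈ tau2 M := by
    rintro u ⟨huU, -, y, hy, hy1, hcomm⟩ hu1
    have hXU : Subgroup.zpowers u ≤ U := by rw [Subgroup.zpowers_le]; exact huU
    have hXc : sigmaCore M ⊓
        Subgroup.centralizer ((Subgroup.zpowers u : Subgroup G) : Set G) ≠ ⊥ := by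
      intro h
      apply hy1
      have h1 : Subgroup.zpowers u ≤ Subgroup.centralizer ({y} : Set G) := by
        rw [Subgroup.zpowers_le, Subgroup.mem_centralizer_iff]
        intro z hz
        rw [Set.mem_singleton_iff.mp hz]
        exact hcomm.symm
      have hyc : y ∈ Subgroup.centralizer ((Subgroup.zpowers u : Subgroup G) : Set G) := by
        rw [Subgroup.mem_centralizer_iff]
        intro z hz
        exact (Subgroup.mem_centralizer_iff.mp (h1 hz) y (Set.mem_singleton y)).symm
      have hmem : y ∈ sigmaCore M ⊓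
          Subgroup.centralizer ((Subgroup.zpowers u : Subgroup G) : Set G) := ⟨hy, hyc⟩
      rw [h] at hmem
      exact Subgroup.mem_bot.mp hmem
    refine ⟨hXc, fun q hq hqd => ?_⟩
    exact mem_tau2_of_dvd hG M hM K U hKU (Subgroup.zpowers u) hXU hXc q hq
      (by rw [Nat.card_zpowers]; exact hqd)
  apply Subgroup.isMulCommutative_closure
  by_cases hNA : ∃ q : ℕ, q.Prime ∧ q ∈ tau2 M ∧
      ∀ S : Sylow q G, ¬ IsMulCommutative (S : Subgroup G)
  · -- nonabelian case: everything lies in `A ∩ C_G(M_σ)`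
    obtain ⟨q, hqp, hq, hS⟩ := hNA
    have : Fact q.Prime := ⟨hqp⟩
    obtain ⟨A, hA⟩ := bg7_exists_elemAb_compl M E hE q hq
    obtain ⟨hτ, -, hreg⟩ := Cfsg.Agent.S1419.result hG M hM E hE q hq hS A hA
    obtain ⟨⟨hEN, hall⟩, -, h4⟩ := h18 M hM E hE q hq A hA
    have hAM : A ≤ M := hA.1.trans hEM
    have hAp : IsPGroup q A := IsPGroup.of_card hA.2.2
    have hsub : ∀ u ∈ (U : Set G) ∩ sigmaHat M, u ∈ A := by
      intro u hu
      by_cases hu1 : u = 1
      · rw [hu1]; exact A.one_mem
      obtain ⟨hXc, hprimes⟩ := hT u hu hu1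
      have huE : u ∈ E := hUE hu.1
      have hprimes' : ∀ d : ℕ, d.Prime → d ∣ orderOf u → d = q := by
        intro d hd hdd
        have h := hprimes d hd hdd
        rw [hτ] at h
        exact h
      have ho0 : orderOf u ≠ 0 := (orderOf_pos u).ne'
      have ho1 : orderOf u ≠ 1 := fun h => hu1 (orderOf_eq_one_iff.mp h)
      have hqo : q ∣ orderOf u := by
        obtain ⟨d, hd, hdd⟩ := Nat.exists_prime_and_dvd ho1
        have hdq := hprimes' d hd hdd
        rw [hdq] at hdd
        exact hdd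
      have hq2 : ¬ q ^ 2 ∣ orderOf u := by
        intro hdvd
        have hvw : (u ^ (orderOf u / q ^ 2)) ^ q = u ^ (orderOf u / q) := by
          rw [← pow_mul]
          congr 1
          obtain ⟨c, hc⟩ := hdvd
          rw [hc, Nat.mul_div_cancel_left c (pow_pos hqp.pos 2)]
          have e : q ^ 2 * c = q * (c * q) := by ring
          rw [e, Nat.mul_div_cancel_left _ hqp.pos]
        have hwo : orderOf (u ^ (orderOf u / q)) = q := orderOf_pow_orderOf_div ho0 hqo
        have hwE : u ^ (orderOf u / q) ∈ E := E.pow_mem huE _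
        have hzc : Nat.card (Subgroup.zpowers (u ^ (orderOf u / q))) = q := by
          rw [Nat.card_zpowers, hwo]
        have hzE : Subgroup.zpowers (u ^ (orderOf u / q)) ≤ E := by
          rw [Subgroup.zpowers_le]; exact hwE
        have hwA : Subgroup.zpowers (u ^ (orderOf u / q)) ≤ A := hall _ hzE hzc
        have hup : IsPGroup q (Subgroup.zpowers u) := by
          have h := Nat.eq_prime_pow_of_unique_prime_dvd ho0 (fun {d} hd hdd => hprimes' d hd hdd)
          exact IsPGroup.of_card (by rw [Nat.card_zpowers]; exact h)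
        have hsup : IsPGroup q (Subgroup.zpowers u ⊔ A : Subgroup G) :=
          hup.to_sup_of_normal_right' hAp ((Subgroup.zpowers_le.mpr huE).trans hEN)
        obtain ⟨S, hS'⟩ := hsup.exists_le_sylow
        have huS : u ∈ (S : Subgroup G) := hS' (Subgroup.mem_sup_left (Subgroup.mem_zpowers u))
        have hAS : A ≤ (S : Subgroup G) := le_sup_right.trans hS'
        have hvS : u ^ (orderOf u / q ^ 2) ∈ (S : Subgroup G) := (S : Subgroup G).pow_mem huS _
        have hAmax := (Cfsg.Agent.S1408.result hG M hM q hq.2.1 hq.2.2.1 hq.2.2.2).2 A hAM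
          hA.2.1 hA.2.2
        have hcent := bg7_pow_central hG q S (hS S) A hAS hA.2.1 hA.2.2 hAmax
          (u ^ (orderOf u / q ^ 2)) hvS
          (by rw [hvw]; exact hwA (Subgroup.mem_zpowers _))
        rw [hvw] at hcent
        have hSle : (S : Subgroup G) ≤ Subgroup.centralizer
            ((Subgroup.zpowers (u ^ (orderOf u / q)) : Subgroup G) : Set G) := by
          intro x hx
          rw [Subgroup.mem_centralizer_iff]
          intro z hz
          obtain ⟨k, rfl⟩ := Subgroup.mem_zpowers_iff.mp hz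
          have hc : Commute (u ^ (orderOf u / q)) x := hcent x hx
          exact (hc.zpow_left k).eq
        have hwc : sigmaCore M ⊓ Subgroup.centralizer
            ((Subgroup.zpowers (u ^ (orderOf u / q)) : Subgroup G) : Set G) ≠ ⊥ := by
          intro h
          apply hXc
          rw [eq_bot_iff, ← h]
          apply inf_le_inf_left
          apply Subgroup.centralizer_le
          have h5 : Subgroup.zpowers (u ^ (orderOf u / q)) ≤ Subgroup.zpowers u := by
            rw [Subgroup.zpowers_le]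
            exact Subgroup.pow_mem _ (Subgroup.mem_zpowers u) _
          exact h5
        have hCM := (h4 _ hwA hzc hwc).1
        have hSM : (S : Subgroup G) ≤ M := hSle.trans hCM
        exact hS S (bg7_sylow_comm_of_le h17 M hM q hq A ⟨hAM, hA.2.1, hA.2.2⟩ S hSM)
      have hoq : orderOf u = q := by
        obtain ⟨c, hc⟩ := hqo
        have hc1 : c = 1 := by
          by_contra hne
          obtain ⟨d, hd, hdd⟩ := Nat.exists_prime_and_dvd hne
          have hdq : d = q := hprimes' d hd (hc ▸ Dvd.dvd.mul_left hdd q)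
          apply hq2
          rw [hc, pow_two]
          exact Nat.mul_dvd_mul_left q (hdq ▸ hdd)
        rw [hc, hc1, mul_one]
      have hzc : Nat.card (Subgroup.zpowers u) = q := by rw [Nat.card_zpowers, hoq]
      have hzE : Subgroup.zpowers u ≤ E := by rw [Subgroup.zpowers_le]; exact huE
      exact hall _ hzE hzc (Subgroup.mem_zpowers u)
    intro x hx y hy
    exact congrArg Subtype.val (hA.2.1.1.is_comm.comm ⟨x, hsub x hx⟩ ⟨y, hsub y hy⟩)
  · -- abelian case: the Sylow `τ₂`-subgroups of `E` are normal and abelian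
    have hab : ∀ (q : ℕ) [Fact q.Prime], q ∈ tau2 M →
        ∃ S : Sylow q G, IsMulCommutative (S : Subgroup G) := by
      intro q _ hq
      by_contra h
      exact hNA ⟨q, Fact.out, hq, fun S hS => h ⟨S, hS⟩⟩
    intro x hx y hy
    have hxE : x ∈ E := hUE hx.1
    have hyE : y ∈ E := hUE hy.1
    have key : Subgroup.zpowers x ≤
        Subgroup.centralizer ((Subgroup.zpowers y : Subgroup G) : Set G) := by
      apply bg_le_of_pgroups_le
      intro r _ Q hQx hQ
      by_cases hQ1 : Q = ⊥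
      · rw [hQ1]; exact bot_le
      have hx1 : x ≠ 1 := by
        rintro rfl
        apply hQ1
        rw [Subgroup.zpowers_one_eq_bot] at hQx
        exact le_bot_iff.mp hQx
      have hrd : r ∣ Nat.card (Subgroup.zpowers x) :=
        (dvd_card_of_pgroup_ne_bot hQ hQ1).trans (Subgroup.card_dvd_of_le hQx)
      rw [Nat.card_zpowers] at hrd
      have hr : r ∈ tau2 M := (hT x hx hx1).2 r Fact.out hrd
      rw [Subgroup.le_centralizer_iff]
      apply bg_le_of_pgroups_le
      intro r' _ Q' hQ'y hQ'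
      by_cases hQ'1 : Q' = ⊥
      · rw [hQ'1]; exact bot_le
      have hy1 : y ≠ 1 := by
        rintro rfl
        apply hQ'1
        rw [Subgroup.zpowers_one_eq_bot] at hQ'y
        exact le_bot_iff.mp hQ'y
      have hrd' : r' ∣ Nat.card (Subgroup.zpowers y) :=
        (dvd_card_of_pgroup_ne_bot hQ' hQ'1).trans (Subgroup.card_dvd_of_le hQ'y)
      rw [Nat.card_zpowers] at hrd'
      have hr' : r' ∈ tau2 M := (hT y hy hy1).2 r' Fact.out hrd'
      exact tau2_pgroups_commute hG h17 h18 M hM E hE hab r' r hr' hr Q' Q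
        (hQ'y.trans (Subgroup.zpowers_le.mpr hyE)) (hQx.trans (Subgroup.zpowers_le.mpr hxE))
        hQ' hQ
    exact (Subgroup.mem_centralizer_iff.mp (key (Subgroup.mem_zpowers x)) y
      (Subgroup.mem_zpowers y)).symm

end Cfsg.Agent.Lib.helper60.BGHatU
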