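import Mathlib
import Cfsg.Prelude.Def_OddOrderLocal
import Cfsg.Agent.Lib.helper60.BGHatU
import Cfsg.Agent.Lib.helper54.BG1360Glue
import Cfsg.Agent.Lib.helper71.BGTenB
import Cfsg.Agent.Lib.helper65.Fitting
import Cfsg.Agent.Lib.lead.Hall

/-!
# `A(M) ∖ M_σ` is a TI-subset (statement S1362)

Let `M = K U M_σ` be the standard factorisation of a maximal subgroup of a minimal simple group of
odd order, and `a ∈ A(M) ∖ M_σ`, i.e. `a ∈ U M_σ ∖ M_σ` centralizes some `y ∈ M_σ^#`.  Some prime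
`q ∉ σ(M)` divides the order of `a`; `b := a ^ (o(a)/q)` has order `q`, so `⟨b⟩` is conjugate in
`M` to a subgroup of the Hall subgroup `U`, and by `BGCentU.cent_U` (statement S1361) `M` is the
only maximal subgroup containing `C_G(b)`.  The same holds for every conjugate of `a` in
`A(M) ∖ M_σ`, which forces the conjugating element into `M`; and `M` normalizes `A(M) ∖ M_σ`.
-/

set_option autoImplicit false
open Cfsg

namespace Cfsg.Agent.Lib.helper60.BGTI

open Cfsg.Agent.Lib.helper8 Cfsg.Agent.Lib.helper97 Cfsg.Agent.Lib.helper60.BGCentU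
open Cfsg.Agent.Lib.helper60.BGTau2Ab Cfsg.Agent.Lib.helper60.BGHatU

variable {G : Type*} [Group G]

/-- `M` normalizes `U M_σ`. -/
theorem le_normalizer_U_sup (M K U : Subgroup G) (hKU : IsSigmaDecomposition M K U) :
    M ≤ Subgroup.normalizer ((U ⊔ sigmaCore M : Subgroup G) : Set G) := by
  have hMσ := Cfsg.Agent.Lib.helper13.le_normalizer_sigmaCore M
  have hK : K ≤ Subgroup.normalizer ((U ⊔ sigmaCore M : Subgroup G) : Set G) := by
    intro k hk
    apply mem_normalizer_of_map_conj_eq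
    rw [Subgroup.map_sup, map_conj_eq_of_mem_normalizer (hKU.normal hk),
      map_conj_eq_of_mem_normalizer (hMσ (hKU.hall.1 hk))]
  have hσ : sigmaCore M ≤ Subgroup.normalizer ((U ⊔ sigmaCore M : Subgroup G) : Set G) :=
    le_sup_right.trans Subgroup.le_normalizer
  have hU : U ≤ Subgroup.normalizer ((U ⊔ sigmaCore M : Subgroup G) : Set G) :=
    le_sup_left.trans Subgroup.le_normalizer
  intro m hm
  obtain ⟨u, hu, x, hx, rfl⟩ := hKU.compl.2.2.2 m hm
  exact Subgroup.mul_mem _ (hU hu) ((sup_le hK hσ) hx)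

/-- `M` maps `A(M) ∖ M_σ` into itself by conjugation. -/
theorem conj_mem_sigmaA_diff (M K U : Subgroup G) (hKU : IsSigmaDecomposition M K U) (m : G)
    (hm : m ∈ M) (a : G) (ha : a ∈ sigmaA M U \ (sigmaCore M : Set G)) :
    m * a * m⁻¹ ∈ sigmaA M U \ (sigmaCore M : Set G) := by
  obtain ⟨⟨⟨haM, y, hy, hy1, hay⟩, haU⟩, haσ⟩ := ha
  have hMσ := Cfsg.Agent.Lib.helper13.le_normalizer_sigmaCore M
  have hmN := Subgroup.mem_normalizer_iff.mp (hMσ hm)
  have hmN2 := Subgroup.mem_normalizer_iff.mp (le_normalizer_U_sup M K U hKU hm)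
  refine ⟨⟨⟨M.mul_mem (M.mul_mem hm haM) (M.inv_mem hm), m * y * m⁻¹, (hmN y).mp hy, ?_, ?_⟩,
    (hmN2 a).mp haU⟩, ?_⟩
  · intro h
    apply hy1
    have := congrArg (fun t => m⁻¹ * t * m) h
    simpa [mul_assoc] using this
  · calc m * a * m⁻¹ * (m * y * m⁻¹) = m * (a * y) * m⁻¹ := by group
      _ = m * (y * a) * m⁻¹ := by rw [hay]
      _ = m * y * m⁻¹ * (m * a * m⁻¹) := by group
  · intro h
    exact haσ ((hmN a).mpr h)

/-- An element of `M` outside `M_σ` has order divisible by a prime outside `σ(M)`. -/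
theorem exists_prime_not_sigma [Finite G] (hG : IsMinSimpleOddOrder G) (M : Subgroup G)
    (hM : IsCoatom M) (a : G) (haM : a ∈ M) (haσ : a ∉ sigmaCore M) :
    ∃ q : ℕ, q.Prime ∧ q ∣ orderOf a ∧ q ∉ sigma M := by
  have hU : BGUniqHyp G := fun K hK h1 h2 => Cfsg.Agent.S1403.result hG K hK h1 h2
  have hF : BGFusHyp G := by
    intro M hM p hp X hXp hX1 hXM g hg
    have : Fact p.Prime := ⟨hp.1⟩
    exact (Cfsg.Agent.S1404.result hG M hM p hp X hXp hX1 hXM).1 g hg
  by_contra hno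
  push Not at hno
  apply haσ
  have hle : Subgroup.zpowers a ≤ sigmaCore M := by
    apply bg_le_of_pgroups_le
    intro r _ Q hQa hQ
    by_cases hQ1 : Q = ⊥
    · rw [hQ1]; exact bot_le
    have hrd : r ∣ Nat.card (Subgroup.zpowers a) :=
      (dvd_card_of_pgroup_ne_bot hQ hQ1).trans (Subgroup.card_dvd_of_le hQa)
    rw [Nat.card_zpowers] at hrd
    exact bg_pgroup_le_sigmaCore hG hU hF M hM (hno r Fact.out hrd) Q
      (hQa.trans (by rw [Subgroup.zpowers_le]; exact haM)) hQ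
  exact hle (Subgroup.mem_zpowers a)

/-- Conjugation and centralizers of single elements. -/
theorem conj_mem_centralizer_singleton (g c z : G)
    (hz : z ∈ Subgroup.centralizer ({c} : Set G)) :
    g * z * g⁻¹ ∈ Subgroup.centralizer ({g * c * g⁻¹} : Set G) := by
  rw [Subgroup.mem_centralizer_iff] at hz ⊢
  intro w hw
  rw [Set.mem_singleton_iff.mp hw]
  have h := hz c rfl
  calc g * c * g⁻¹ * (g * z * g⁻¹) = g * (c * z) * g⁻¹ := by group
    _ = g * (z * c) * g⁻¹ := by rw [h]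
    _ = g * z * g⁻¹ * (g * c * g⁻¹) := by group

/-- "`M` is the only maximal subgroup containing `C_G(c)`" is invariant under conjugation by
elements of `M`. -/
theorem uniq_conj {M : Subgroup G} (hM : IsCoatom M) (c g : G) (hg : g ∈ M)
    (h : Subgroup.centralizer ({c} : Set G) ≤ M ∧
      ∀ L : Subgroup G, IsCoatom L → Subgroup.centralizer ({c} : Set G) ≤ L → L = M) :
    Subgroup.centralizer ({g * c * g⁻¹} : Set G) ≤ M ∧
      ∀ L : Subgroup G, IsCoatom L → Subgroup.centralizer ({g * c * g⁻¹} : Set G) ≤ L →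
        L = M := by
  have hback : ∀ z ∈ Subgroup.centralizer ({g * c * g⁻¹} : Set G),
      g⁻¹ * z * g ∈ Subgroup.centralizer ({c} : Set G) := by
    intro z hz
    have h1 := conj_mem_centralizer_singleton g⁻¹ (g * c * g⁻¹) z hz
    have e : g⁻¹ * (g * c * g⁻¹) * g⁻¹⁻¹ = c := by group
    rw [e, inv_inv] at h1
    exact h1
  refine ⟨?_, ?_⟩
  · intro z hz
    have h1 := h.1 (hback z hz)
    have h2 := M.mul_mem (M.mul_mem hg h1) (M.inv_mem hg)
    have e : g * (g⁻¹ * z * g) * g⁻¹ = z := by group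
    rwa [e] at h2
  · intro L hL hLc
    have hL' : IsCoatom (L.map (MulAut.conj g⁻¹).toMonoidHom) :=
      Cfsg.Agent.Lib.helper71.BGA.isCoatom_map_conj hL g⁻¹
    have hle : Subgroup.centralizer ({c} : Set G) ≤ L.map (MulAut.conj g⁻¹).toMonoidHom := by
      intro w hw
      refine ⟨g * w * g⁻¹, hLc (conj_mem_centralizer_singleton g c w hw), ?_⟩
      show g⁻¹ * (g * w * g⁻¹) * g⁻¹⁻¹ = w
      group
    have hLM := h.2 _ hL' hle
    have hsub : L ≤ M := by
      intro x hx
      have h1 : g⁻¹ * x * g⁻¹⁻¹ ∈ L.map (MulAut.conj g⁻¹).toMonoidHom := ⟨x, hx, rfl⟩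
      rw [hLM] at h1
      have h2 := M.mul_mem (M.mul_mem hg h1) (M.inv_mem hg)
      have e : g * (g⁻¹ * x * g⁻¹⁻¹) * g⁻¹ = x := by group
      rwa [e] at h2
    exact ((hL.le_iff_eq hM.1).mp hsub).symm

/-- For `a ∈ A(M)` and a prime `q ∉ σ(M)` dividing the order of `a`, `M` is the only maximal
subgroup containing the centralizer of `a ^ (o(a)/q)`. -/
theorem uniq_of_sigmaA [Finite G] (hG : IsMinSimpleOddOrder G) (M : Subgroup G)
    (hM : IsCoatom M) (K U : Subgroup G) (hKU : IsSigmaDecomposition M K U) (a : G)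
    (ha : a ∈ sigmaA M U) (q : ℕ) (hq : q.Prime) (hqd : q ∣ orderOf a) (hqσ : q ∉ sigma M) :
    Subgroup.centralizer ({a ^ (orderOf a / q)} : Set G) ≤ M ∧
      ∀ L : Subgroup G, IsCoatom L →
        Subgroup.centralizer ({a ^ (orderOf a / q)} : Set G) ≤ L → L = M := by
  have h16 : BGTwelveFourHyp G := fun M hM p _ A hA => Cfsg.Agent.S1416.result hG M hM p A hA
  have h17 : BG7FiveHyp G := fun M hM p _ hp A hA => Cfsg.Agent.S1417.result hG M hM p hp A hA
  have h18 : BG7SixHyp G := bg7_six_of hG h16 h17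
  obtain ⟨-, -, -, hsolv⟩ := id hG
  have hsolvM : Group.IsSolvable ↥M := hsolv M hM.1
  obtain ⟨hH1, -, -⟩ := Cfsg.Agent.S1350.result hG M hM
  obtain ⟨⟨haM, y, hy, hy1, hay⟩, haU⟩ := ha
  have hUM : U ≤ M := hKU.compl.1
  have hKM : K ≤ M := hKU.hall.1
  have hMσ := Cfsg.Agent.Lib.helper13.le_normalizer_sigmaCore M
  have hHall := (Cfsg.Agent.Lib.helper54.PNU.decomp_glue hG M hM K U hKU).2.2.2.1
  have hUσ : ∀ p : ℕ, p.Prime → p ∣ Nat.card U → p ∉ sigma M :=
    fun p hp hpU => not_mem_sigma_of_dvd_card_U hG M hM K U hKU p hp hpU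
  have hσprime : ∀ p : ℕ, p.Prime → p ∣ Nat.card ↥(sigmaCore M) → p ∈ sigma M := hH1.2.1
  set b := a ^ (orderOf a / q) with hb
  have hbo : orderOf b = q := orderOf_pow_orderOf_div (orderOf_pos a).ne' hqd
  have hb1 : b ≠ 1 := by
    intro h
    rw [h, orderOf_one] at hbo
    exact hq.one_lt.ne hbo
  have hbM : b ∈ M := M.pow_mem haM _
  have hby : b * y = y * b := ((show Commute a y from hay).pow_left _).eq
  -- `q` divides `|U|`
  have hqU : q ∣ Nat.card U := by
    have h1 : q ∣ Nat.card ↥(U ⊔ sigmaCore M) := by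
      rw [← hbo]
      exact Subgroup.orderOf_dvd_natCard _ (Subgroup.pow_mem _ haU _)
    have h2 : Nat.card ↥(U ⊔ sigmaCore M) ∣ Nat.card U * Nat.card ↥(sigmaCore M) :=
      Cfsg.Agent.Lib.helper65.card_sup_dvd_mul (hUM.trans hMσ)
    rcases (Nat.Prime.dvd_mul hq).mp (h1.trans h2) with h | h
    · exact h
    · exact absurd (hσprime q hq h) hqσ
  -- `U` is a Hall subgroup of `M`
  have hcU : Nat.card (U.subgroupOf M) = Nat.card U :=
    Nat.card_congr (Subgroup.subgroupOfEquivOfLe hUM).toEquiv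
  have hidx : (U.subgroupOf M).index ∣ Nat.card K * Nat.card ↥(sigmaCore M) := by
    have h1 : Nat.card U * Nat.card ↥(K ⊔ sigmaCore M) = Nat.card M := card_of_isComplIn hKU.compl
    have h2 : Nat.card (U.subgroupOf M) * (U.subgroupOf M).index = Nat.card M :=
      Subgroup.card_mul_index _
    rw [hcU, ← h1] at h2
    have h3 : (U.subgroupOf M).index = Nat.card ↥(K ⊔ sigmaCore M) :=
      Nat.eq_of_mul_eq_mul_left Nat.card_pos h2
    rw [h3]
    exact Cfsg.Agent.Lib.helper65.card_sup_dvd_mul (hKM.trans hMσ)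
  have hHallU : Cfsg.IsPiHall {p : ℕ | p ∣ Nat.card U} (U.subgroupOf M) := by
    refine ⟨?_, ?_⟩
    · intro p _ hpd
      rw [hcU] at hpd
      exact hpd
    · intro p hp hpU hpd
      rcases (Nat.Prime.dvd_mul hp).mp (hpd.trans hidx) with h | h
      · exact hHall p hp hpU (hKU.hall.2.1 p hp h)
      · exact hUσ p hp hpU (hσprime p hp h)
  have hXπ : Cfsg.IsPiSubgroup {p : ℕ | p ∣ Nat.card U}
      ((Subgroup.zpowers b).subgroupOf M) := by
    intro p hp hpd
    rw [Nat.card_congr (Subgroup.subgroupOfEquivOfLe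
      (show Subgroup.zpowers b ≤ M by rw [Subgroup.zpowers_le]; exact hbM)).toEquiv,
      Nat.card_zpowers, hbo] at hpd
    rw [(Nat.prime_dvd_prime_iff_eq hp hq).mp hpd]
    exact hqU
  obtain ⟨g, hg⟩ := Cfsg.Agent.Lib.lead.le_conj_isPiHall_of_isSolvable hHallU hXπ
  have hbmem : (⟨b, hbM⟩ : ↥M) ∈ (Subgroup.zpowers b).subgroupOf M :=
    Subgroup.mem_subgroupOf.mpr (Subgroup.mem_zpowers b)
  obtain ⟨e, he, hee⟩ := hg hbmem
  have heU : (e : G) ∈ U := Subgroup.mem_subgroupOf.mp he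
  have hbe : b = (g : G) * (e : G) * (g : G)⁻¹ := by
    have := congrArg Subtype.val hee
    exact this.symm
  have he1 : (e : G) ≠ 1 := by
    intro h
    apply hb1
    rw [hbe, h, mul_one, mul_inv_cancel]
  -- `e` has a fixed point on `M_σ`
  have hgN := Subgroup.mem_normalizer_iff.mp (hMσ (M.inv_mem g.2))
  have hXc : sigmaCore M ⊓
      Subgroup.centralizer ((Subgroup.zpowers (e : G) : Subgroup G) : Set G) ≠ ⊥ := by
    intro hbot
    apply hy1
    have hmem : (g : G)⁻¹ * y * (g : G)⁻¹⁻¹ ∈ sigmaCore M ⊓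
        Subgroup.centralizer ((Subgroup.zpowers (e : G) : Subgroup G) : Set G) := by
      refine Subgroup.mem_inf.mpr ⟨(hgN y).mp hy, ?_⟩
      rw [Cfsg.Agent.Lib.helper71.BGA.centralizer_zpowers, Subgroup.mem_centralizer_iff]
      intro w hw
      rw [Set.mem_singleton_iff.mp hw]
      have hbe' : (e : G) = (g : G)⁻¹ * b * (g : G) := by rw [hbe]; group
      rw [hbe', inv_inv]
      calc (g : G)⁻¹ * b * (g : G) * ((g : G)⁻¹ * y * (g : G))
          = (g : G)⁻¹ * (b * y) * (g : G) := by group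
        _ = (g : G)⁻¹ * (y * b) * (g : G) := by rw [hby]
        _ = (g : G)⁻¹ * y * (g : G) * ((g : G)⁻¹ * b * (g : G)) := by group
    rw [hbot, Subgroup.mem_bot] at hmem
    have := congrArg (fun t => (g : G) * t * (g : G)⁻¹) hmem
    simpa [mul_assoc] using this
  have hX1 : Subgroup.zpowers (e : G) ≠ ⊥ := by
    intro h
    exact he1 (Subgroup.zpowers_eq_bot.mp h)
  have hcent := cent_U hG h17 h18 M hM K U hKU (Subgroup.zpowers (e : G))
    (by rw [Subgroup.zpowers_le]; exact heU) hX1 hXc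
  rw [Cfsg.Agent.Lib.helper71.BGA.centralizer_zpowers] at hcent
  have := uniq_conj hM (e : G) (g : G) g.2 hcent
  rw [← hbe] at this
  exact this

/-- **Statement S1362**: `A(M) ∖ M_σ` is a TI-subset of `G`. -/
theorem sigmaA_diff_TI [Finite G] (hG : IsMinSimpleOddOrder G) (M : Subgroup G)
    (hM : IsCoatom M) (K U : Subgroup G) (hKU : IsSigmaDecomposition M K U) :
    IsTISubset (sigmaA M U \ (sigmaCore M : Set G)) := by
  intro g hg a ha hga
  exfalso
  apply hg
  obtain ⟨-, hsimple, -, -⟩ := id hG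
  have := hsimple
  have hgM : g ∈ M := by
    obtain ⟨q, hq, hqd, hqσ⟩ := exists_prime_not_sigma hG M hM a ha.1.1.1 ha.2
    have h1 := uniq_of_sigmaA hG M hM K U hKU a ha.1 q hq hqd hqσ
    have ho : orderOf (g * a * g⁻¹) = orderOf a :=
      orderOf_injective (MulAut.conj g).toMonoidHom (MulAut.conj g).injective a
    have h2 := uniq_of_sigmaA hG M hM K U hKU (g * a * g⁻¹) hga.1 q hq (by rw [ho]; exact hqd) hqσ
    rw [ho, conj_pow] at h2
    -- `C_G(b) ≤ g⁻¹ M g`
    have hM' : IsCoatom (M.map (MulAut.conj g⁻¹).toMonoidHom) :=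
      Cfsg.Agent.Lib.helper71.BGA.isCoatom_map_conj hM g⁻¹
    have hle : Subgroup.centralizer ({a ^ (orderOf a / q)} : Set G) ≤
        M.map (MulAut.conj g⁻¹).toMonoidHom := by
      intro w hw
      refine ⟨g * w * g⁻¹, h2.1 (conj_mem_centralizer_singleton g _ w hw), ?_⟩
      show g⁻¹ * (g * w * g⁻¹) * g⁻¹⁻¹ = w
      group
    have hMM := h1.2 _ hM' hle
    have hbot : M ≠ ⊥ := by
      intro h
      have h3 : a = 1 := by
        have := ha.1.1.1
        rw [h, Subgroup.mem_bot] at this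
        exact this
      exact ha.2 (h3 ▸ (sigmaCore M).one_mem)
    have hN := Cfsg.Agent.Lib.helper71.BGA.normalizer_eq_of_isCoatom hM hbot
    have hginv : g⁻¹ ∈ Subgroup.normalizer (M : Set G) :=
      mem_normalizer_of_map_conj_eq hMM
    rw [hN] at hginv
    have := M.inv_mem hginv
    rwa [inv_inv] at this
  rw [Subgroup.mem_set_normalizer_iff]
  intro n
  constructor
  · intro hn
    exact conj_mem_sigmaA_diff M K U hKU g hgM n hn
  · intro hn
    have h := conj_mem_sigmaA_diff M K U hKU g⁻¹ (M.inv_mem hgM) _ hn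
    have e : g⁻¹ * (g * n * g⁻¹) * g⁻¹⁻¹ = n := by group
    rwa [e] at h

end Cfsg.Agent.Lib.helper60.BGTI
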