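import Mathlib
import Cfsg.Agent.Lib.helper2.BGDefs
import Cfsg.Agent.Lib.helper82.CharSums

/-! S4504, piece O (helper60): the Sylow count from the two moments and the bound off the centre. -/

set_option autoImplicit false

open Cfsg
open scoped ComplexConjugate

namespace Cfsg.Agent.Lib.helper2.BG

universe u

variable {G : Type*} [Group G] [Fintype G]

/-- O (the Sylow count). -/
theorem sylow_count (p : ℕ) [Fact p.Prime] (hp5 : 5 ≤ p) (P : Sylow p G)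
    (ψ : IrrCharacter G) (hdeg : 2 * charDegree (ψ : G → ℂ) + 1 = p)
    (H : Subgroup (ZMod p)ˣ) (he : 2 * Nat.card H + 1 = p)
    (hZ : ∀ z ∈ Subgroup.center G, ¬ p ∣ orderOf z)
    (hcard : Nat.card G =
      Nat.card (Sylow p G) * (Nat.card H * p * Nat.card (Subgroup.center G)))
    (hm2 : (2 * (p : ℝ)) * ∑ g : G, Set.indicator {g : G | ¬ p ∣ orderOf g}
        (fun g => ‖(ψ : G → ℂ) g‖ ^ 2) g = (Nat.card G : ℝ) * ((p : ℝ) - 1))
    (hm4 : (8 * (p : ℝ)) * ∑ g : G, Set.indicator {g : G | ¬ p ∣ orderOf g}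
        (fun g => ‖(ψ : G → ℂ) g‖ ^ 4) g = (Nat.card G : ℝ) * ((p : ℝ) ^ 2 - 1))
    (hb : ∀ h : G, ¬ p ∣ orderOf h → h ∉ Subgroup.center G → ‖(ψ : G → ℂ) h‖ ≤ 1) :
    Nat.card (Sylow p G) ≤ p + 1 := by
  classical
  have hHe : Nat.card H = charDegree (ψ : G → ℂ) := by omega
  have he2 : 2 ≤ charDegree (ψ : G → ℂ) := by omega
  have hZpos : 0 < Nat.card (Subgroup.center G) := Nat.card_pos
  by_contra hcon
  have hcon' : p + 2 ≤ Nat.card (Sylow p G) := by omega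
  have heR : (2 : ℝ) ≤ (charDegree (ψ : G → ℂ) : ℝ) := by exact_mod_cast he2
  have hZR : (1 : ℝ) ≤ (Nat.card (Subgroup.center G) : ℝ) := by exact_mod_cast hZpos
  have hpR : (p : ℝ) = 2 * (charDegree (ψ : G → ℂ) : ℝ) + 1 := by exact_mod_cast hdeg.symm
  have hnR : (p : ℝ) + 2 ≤ (Nat.card (Sylow p G) : ℝ) := by exact_mod_cast hcon'
  have hNR : (Nat.card G : ℝ) = (Nat.card (Sylow p G) : ℝ) *
      ((charDegree (ψ : G → ℂ) : ℝ) * (p : ℝ) * (Nat.card (Subgroup.center G) : ℝ)) := by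
    rw [← hHe]
    exact_mod_cast hcard
  -- pointwise inequality
  have hpt : ∀ g : G, Set.indicator {g : G | ¬ p ∣ orderOf g} (fun g => ‖(ψ : G → ℂ) g‖ ^ 4) g ≤
      Set.indicator {g : G | ¬ p ∣ orderOf g} (fun g => ‖(ψ : G → ℂ) g‖ ^ 2) g +
      Set.indicator ((Subgroup.center G : Subgroup G) : Set G)
        (fun _ => ((charDegree (ψ : G → ℂ) : ℝ) ^ 4 - (charDegree (ψ : G → ℂ) : ℝ) ^ 2)) g := by
    intro g
    have hx0 : 0 ≤ ‖(ψ : G → ℂ) g‖ := norm_nonneg _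
    have hxe : ‖(ψ : G → ℂ) g‖ ≤ (charDegree (ψ : G → ℂ) : ℝ) :=
      Cfsg.Agent.Lib.helper82.irr_norm_le ψ g
    have hee : 0 ≤ (charDegree (ψ : G → ℂ) : ℝ) ^ 4 - (charDegree (ψ : G → ℂ) : ℝ) ^ 2 := by
      nlinarith [mul_nonneg (sq_nonneg (charDegree (ψ : G → ℂ) : ℝ))
        (show (0 : ℝ) ≤ (charDegree (ψ : G → ℂ) : ℝ) ^ 2 - 1 by nlinarith)]
    by_cases hg : ¬ p ∣ orderOf g
    · rw [Set.indicator_of_mem (show g ∈ {g : G | ¬ p ∣ orderOf g} from hg),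
        Set.indicator_of_mem (show g ∈ {g : G | ¬ p ∣ orderOf g} from hg)]
      by_cases hc : g ∈ Subgroup.center G
      · rw [Set.indicator_of_mem (show g ∈ ((Subgroup.center G : Subgroup G) : Set G) from hc)]
        have hsq : ‖(ψ : G → ℂ) g‖ ^ 2 ≤ (charDegree (ψ : G → ℂ) : ℝ) ^ 2 :=
          pow_le_pow_left₀ hx0 hxe 2
        nlinarith [mul_nonneg (sub_nonneg.mpr hsq)
          (show (0 : ℝ) ≤ (charDegree (ψ : G → ℂ) : ℝ) ^ 2 + ‖(ψ : G → ℂ) g‖ ^ 2 - 1 by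
            nlinarith [sq_nonneg ‖(ψ : G → ℂ) g‖])]
      · rw [Set.indicator_of_notMem (show g ∉ ((Subgroup.center G : Subgroup G) : Set G) from hc)]
        have h1 : ‖(ψ : G → ℂ) g‖ ≤ 1 := hb g hg hc
        have h2 : ‖(ψ : G → ℂ) g‖ ^ 2 ≤ 1 := pow_le_one₀ hx0 h1
        nlinarith [mul_nonneg (sq_nonneg ‖(ψ : G → ℂ) g‖) (sub_nonneg.mpr h2)]
    · rw [Set.indicator_of_notMem (show g ∉ {g : G | ¬ p ∣ orderOf g} from hg),
        Set.indicator_of_notMem (show g ∉ {g : G | ¬ p ∣ orderOf g} from hg)]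
      have h3 : 0 ≤ Set.indicator ((Subgroup.center G : Subgroup G) : Set G)
          (fun _ => ((charDegree (ψ : G → ℂ) : ℝ) ^ 4 - (charDegree (ψ : G → ℂ) : ℝ) ^ 2)) g :=
        Set.indicator_nonneg (fun _ _ => hee) g
      linarith
  -- the sum of the centre term
  have hcen : ∑ g : G, Set.indicator ((Subgroup.center G : Subgroup G) : Set G)
        (fun _ => ((charDegree (ψ : G → ℂ) : ℝ) ^ 4 - (charDegree (ψ : G → ℂ) : ℝ) ^ 2)) g =
      (Nat.card (Subgroup.center G) : ℝ) *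
        ((charDegree (ψ : G → ℂ) : ℝ) ^ 4 - (charDegree (ψ : G → ℂ) : ℝ) ^ 2) := by
    rw [Finset.sum_indicator_eq_sum_filter, Finset.sum_const, nsmul_eq_mul]
    congr 2
    rw [Nat.card_eq_fintype_card, Fintype.card_subtype]
    congr 1
    ext g
    simp
  have hsum : ∑ g : G, Set.indicator {g : G | ¬ p ∣ orderOf g} (fun g => ‖(ψ : G → ℂ) g‖ ^ 4) g ≤
      ∑ g : G, Set.indicator {g : G | ¬ p ∣ orderOf g} (fun g => ‖(ψ : G → ℂ) g‖ ^ 2) g +
      (Nat.card (Subgroup.center G) : ℝ) *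
        ((charDegree (ψ : G → ℂ) : ℝ) ^ 4 - (charDegree (ψ : G → ℂ) : ℝ) ^ 2) := by
    rw [← hcen, ← Finset.sum_add_distrib]
    exact Finset.sum_le_sum (fun g _ => hpt g)
  -- abbreviations
  generalize (∑ g : G, Set.indicator {g : G | ¬ p ∣ orderOf g}
    (fun g => ‖(ψ : G → ℂ) g‖ ^ 4) g) = S4 at hm4 hsum
  generalize (∑ g : G, Set.indicator {g : G | ¬ p ∣ orderOf g}
    (fun g => ‖(ψ : G → ℂ) g‖ ^ 2) g) = S2 at hm2 hsum
  generalize (Nat.card G : ℝ) = N at hm2 hm4 hNR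
  generalize (Nat.card (Sylow p G) : ℝ) = n at hnR hNR
  generalize (Nat.card (Subgroup.center G) : ℝ) = Z at hZR hNR hsum
  generalize (charDegree (ψ : G → ℂ) : ℝ) = e at heR hpR hNR hsum
  generalize (p : ℝ) = q at hm2 hm4 hpR hnR hNR
  subst hpR
  subst hNR
  -- 4 q Z e^2 (e - 1) (n - 2 (e + 1)) ≤ 0
  have hq : (0 : ℝ) < 2 * e + 1 := by linarith
  have hkey : 4 * (2 * e + 1) * Z * e ^ 2 * (e - 1) * (n - 2 * (e + 1)) ≤ 0 := by
    have h1 : 8 * (2 * e + 1) * S4 ≤ 8 * (2 * e + 1) * S2 +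
        8 * (2 * e + 1) * (Z * (e ^ 4 - e ^ 2)) := by
      have := mul_le_mul_of_nonneg_left hsum (show (0 : ℝ) ≤ 8 * (2 * e + 1) by linarith)
      linarith
    nlinarith [h1, hm2, hm4]
  have hpos : 0 < 4 * (2 * e + 1) * Z * e ^ 2 * (e - 1) * (n - 2 * (e + 1)) := by
    have h1 : (0 : ℝ) < e - 1 := by linarith
    have h2 : (0 : ℝ) < n - 2 * (e + 1) := by linarith
    have h3 : (0 : ℝ) < Z := by linarith
    have h4 : (0 : ℝ) < e := by linarith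
    positivity
  linarith

end Cfsg.Agent.Lib.helper2.BG
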