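import Mathlib
import Cfsg.Prelude.Def_CaseTheorems

/-!
# S1238, piece B3a

Move the four-group `{1, z, u, z u}` by conjugation so that `N_S(W)` is a Sylow 2-subgroup of
`N_G(W)`.
-/

set_option autoImplicit false

namespace Cfsg.Agent.Lib.helper60.S1238

open Cfsg

variable {G : Type*} [Group G]

/-- In a finite group, an element conjugating a subgroup into itself normalizes it. -/
theorem mem_normalizer_of_conj_mem [Finite G] (W : Subgroup G) (g : G)
    (h : ∀ w ∈ W, g * w * g⁻¹ ∈ W) : g ∈ Subgroup.normalizer (W : Set G) := by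
  have hpow : ∀ n : ℕ, ∀ w ∈ W, g ^ n * w * (g ^ n)⁻¹ ∈ W := by
    intro n
    induction n with
    | zero => intro w hw; simpa using hw
    | succ n ih =>
      intro w hw
      have h1 := h _ (ih w hw)
      have e : g ^ (n + 1) * w * (g ^ (n + 1))⁻¹ = g * (g ^ n * w * (g ^ n)⁻¹) * g⁻¹ := by
        rw [pow_succ']; group
      rw [e]; exact h1
  rw [Subgroup.mem_normalizer_iff]
  intro w
  refine ⟨h w, fun hw => ?_⟩
  have hpos := orderOf_pos g
  have hinv : g ^ (orderOf g - 1) = g⁻¹ := by
    apply eq_inv_of_mul_eq_one_left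
    rw [← pow_succ, Nat.sub_add_cancel hpos, pow_orderOf_eq_one]
  have h1 := hpow (orderOf g - 1) _ hw
  rw [hinv] at h1
  have e : g⁻¹ * (g * w * g⁻¹) * g⁻¹⁻¹ = w := by group
  rwa [e] at h1

/-- The elements of the closure of a pairwise commuting set commute. -/
theorem comm_of_mem_closure {S : Set G} (hS : ∀ x ∈ S, ∀ y ∈ S, x * y = y * x) :
    ∀ w ∈ Subgroup.closure S, ∀ w' ∈ Subgroup.closure S, w * w' = w' * w := by
  have h1 : Subgroup.closure S ≤ Subgroup.centralizer S := by
    rw [Subgroup.closure_le]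
    intro x hx
    rw [SetLike.mem_coe, Subgroup.mem_centralizer_iff]
    intro y hy
    exact hS y hy x hx
  have h2 : Subgroup.closure S ≤ Subgroup.centralizer (Subgroup.closure S : Set G) := by
    rw [Subgroup.closure_le]
    intro x hx
    rw [SetLike.mem_coe, Subgroup.mem_centralizer_iff]
    intro w hw
    have h3 := h1 hw
    rw [Subgroup.mem_centralizer_iff] at h3
    exact (h3 x hx).symm
  intro w hw w' hw'
  have h3 := h2 hw'
  rw [Subgroup.mem_centralizer_iff] at h3
  exact h3 w hw

/-- The closure of a set of commuting involutions has exponent 2. -/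
theorem sq_of_mem_closure {S : Set G} (hS : ∀ x ∈ S, ∀ y ∈ S, x * y = y * x)
    (hsq : ∀ x ∈ S, x * x = 1) : ∀ w ∈ Subgroup.closure S, w * w = 1 := by
  intro w hw
  induction hw using Subgroup.closure_induction with
  | mem x hx => exact hsq x hx
  | one => simp
  | mul x y hx hy ihx ihy =>
    have hc := comm_of_mem_closure hS x hx y hy
    calc x * y * (x * y) = x * (y * x) * y := by group
      _ = x * (x * y) * y := by rw [hc]
      _ = (x * x) * (y * y) := by group
      _ = 1 := by rw [ihx, ihy, one_mul]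
  | inv x hx ih =>
    have h1 : x⁻¹ = x := inv_eq_of_mul_eq_one_right ih
    rw [h1, ih]

/-- In a group of 2-rank at most 2, an involution commuting with two distinct commuting
involutions `a`, `b` is `a`, `b` or `a * b`. -/
theorem rank_two_four [Finite G] (h2 : PRankLE 2 2 G) (a b c : G) (ha : a * a = 1) (hb : b * b = 1)
    (hc : c * c = 1) (hab : a * b = b * a) (hac : a * c = c * a) (hbc : b * c = c * b)
    (ha1 : a ≠ 1) (hb1 : b ≠ 1) (hne : a ≠ b) : c = 1 ∨ c = a ∨ c = b ∨ c = a * b := by
  have hS : ∀ x ∈ ({a, b, c} : Set G), ∀ y ∈ ({a, b, c} : Set G), x * y = y * x := by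
    intro x hx y hy
    simp only [Set.mem_insert_iff, Set.mem_singleton_iff] at hx hy
    rcases hx with rfl | rfl | rfl <;> rcases hy with rfl | rfl | rfl <;>
      first | rfl | assumption | (symm; assumption)
  have hsq : ∀ x ∈ ({a, b, c} : Set G), x * x = 1 := by
    intro x hx
    simp only [Set.mem_insert_iff, Set.mem_singleton_iff] at hx
    rcases hx with rfl | rfl | rfl <;> assumption
  have hA : IsMulCommutative (Subgroup.closure ({a, b, c} : Set G)) := by
    rw [isMulCommutative_iff]
    intro x y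
    exact Subtype.ext (comm_of_mem_closure hS x x.2 y y.2)
  have hexp : ∀ w ∈ Subgroup.closure ({a, b, c} : Set G), w ^ 2 = 1 := fun w hw => by
    rw [pow_two]; exact sq_of_mem_closure hS hsq w hw
  have hcard := h2 (Subgroup.closure ({a, b, c} : Set G)) hA hexp
  have haS : a ∈ Subgroup.closure ({a, b, c} : Set G) := Subgroup.subset_closure (by simp)
  have hbS : b ∈ Subgroup.closure ({a, b, c} : Set G) := Subgroup.subset_closure (by simp)
  have hcS : c ∈ Subgroup.closure ({a, b, c} : Set G) := Subgroup.subset_closure (by simp)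
  have hsub : ({1, a, b, a * b} : Set G) ⊆ (Subgroup.closure ({a, b, c} : Set G) : Set G) := by
    intro x hx
    simp only [Set.mem_insert_iff, Set.mem_singleton_iff] at hx
    rcases hx with rfl | rfl | rfl | rfl
    · exact Subgroup.one_mem _
    · exact haS
    · exact hbS
    · exact Subgroup.mul_mem _ haS hbS
  have h1a : (1 : G) ≠ a := fun h => ha1 h.symm
  have h1b : (1 : G) ≠ b := fun h => hb1 h.symm
  have h1ab : (1 : G) ≠ a * b := by
    intro h
    have h3 : a = b⁻¹ := eq_inv_of_mul_eq_one_left h.symm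
    have h4 : b⁻¹ = b := inv_eq_of_mul_eq_one_right hb
    exact hne (h3.trans h4)
  have haab : a ≠ a * b := by
    intro h
    have h3 : a * 1 = a * b := by rw [mul_one]; exact h
    exact hb1 (mul_left_cancel h3).symm
  have hbab : b ≠ a * b := by
    intro h
    have h3 : 1 * b = a * b := by rw [one_mul]; exact h
    exact ha1 (mul_right_cancel h3).symm
  have hcard4 : ({1, a, b, a * b} : Set G).ncard = 4 := by
    rw [Set.ncard_insert_of_notMem, Set.ncard_insert_of_notMem, Set.ncard_insert_of_notMem,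
      Set.ncard_singleton]
    · simp [hbab]
    · simp [hne, haab]
    · simp [h1a, h1b, h1ab]
  have hnc : (Subgroup.closure ({a, b, c} : Set G) : Set G).ncard ≤ 4 := by
    have h5 : (Subgroup.closure ({a, b, c} : Set G) : Set G).ncard =
        Nat.card (Subgroup.closure ({a, b, c} : Set G)) :=
      (Nat.card_coe_set_eq _).symm
    rw [h5]
    exact hcard
  have heq : ({1, a, b, a * b} : Set G) = (Subgroup.closure ({a, b, c} : Set G) : Set G) :=
    Set.eq_of_subset_of_ncard_le hsub (by rw [hcard4]; exact hnc) (Set.toFinite _)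
  have hc' : c ∈ (Subgroup.closure ({a, b, c} : Set G) : Set G) := hcS
  rw [← heq] at hc'
  simpa using hc'

theorem mem_smul_sylow {p : ℕ} (P : Sylow p G) (g x : G) :
    x ∈ ((g • P : Sylow p G) : Subgroup G) ↔ g⁻¹ * x * g ∈ (P : Subgroup G) := by
  rw [Sylow.coe_subgroup_smul, Subgroup.mem_pointwise_smul_iff_inv_smul_mem]
  simp [MulAut.smul_def]

/-- The tameness of the conjugated four-group. -/
theorem tame_core [Finite G] (S : Sylow 2 G) (z u : G) (hzu : z * u = u * z) (hzz : z * z = 1)
    (huu : u * u = 1) :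
    ∃ k : G, k * z * k⁻¹ ∈ (S : Subgroup G) ∧ k * u * k⁻¹ ∈ (S : Subgroup G) ∧
      ¬ 2 ∣ ((S : Subgroup G) ⊓ Subgroup.normalizer
        ((Subgroup.closure {k * z * k⁻¹, k * u * k⁻¹} : Subgroup G) : Set G)).relIndex
        (Subgroup.normalizer ((Subgroup.closure {k * z * k⁻¹, k * u * k⁻¹} : Subgroup G) : Set G)) := by
  have hS0 : ∀ x ∈ ({z, u} : Set G), ∀ y ∈ ({z, u} : Set G), x * y = y * x := by
    intro x hx y hy
    simp only [Set.mem_insert_iff, Set.mem_singleton_iff] at hx hy
    rcases hx with rfl | rfl <;> rcases hy with rfl | rfl <;>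
      first | rfl | exact hzu | exact hzu.symm
  have hsq0 : ∀ x ∈ ({z, u} : Set G), x * x = 1 := by
    intro x hx
    simp only [Set.mem_insert_iff, Set.mem_singleton_iff] at hx
    rcases hx with rfl | rfl <;> assumption
  have hWsq := sq_of_mem_closure hS0 hsq0
  obtain ⟨W0, hW0⟩ : ∃ W0 : Subgroup G, W0 = Subgroup.closure {z, u} := ⟨_, rfl⟩
  obtain ⟨N0, hN0⟩ : ∃ N0 : Subgroup G, N0 = Subgroup.normalizer (W0 : Set G) := ⟨_, rfl⟩
  have hzW : z ∈ W0 := by rw [hW0]; exact Subgroup.subset_closure (by simp)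
  have huW : u ∈ W0 := by rw [hW0]; exact Subgroup.subset_closure (by simp)
  have hWN : W0 ≤ N0 := by rw [hN0]; exact Subgroup.le_normalizer
  have hWp : IsPGroup 2 ↥(W0.subgroupOf N0) := by
    intro g
    refine ⟨1, ?_⟩
    have hg : ((g : ↥N0) : G) ∈ W0 := Subgroup.mem_subgroupOf.mp g.2
    have hg' : ((g : ↥N0) : G) ∈ Subgroup.closure {z, u} := hW0 ▸ hg
    have h1 := hWsq _ hg'
    apply Subtype.ext
    apply Subtype.ext
    rw [pow_one, pow_two]
    exact h1
  obtain ⟨Q, hQ⟩ := hWp.exists_le_sylow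
  have hQ'p : IsPGroup 2 ↥((Q : Subgroup ↥N0).map N0.subtype) := Q.isPGroup'.map _
  obtain ⟨P, hP⟩ := hQ'p.exists_le_sylow
  obtain ⟨k, hk⟩ := MulAction.exists_smul_eq G P S
  have hkS : ∀ q ∈ (Q : Subgroup ↥N0).map N0.subtype, k * q * k⁻¹ ∈ (S : Subgroup G) := by
    intro q hq
    rw [← hk, mem_smul_sylow]
    have e : k⁻¹ * (k * q * k⁻¹) * k = q := by group
    rw [e]
    exact hP hq
  have hWQ : W0 ≤ (Q : Subgroup ↥N0).map N0.subtype := by
    intro w hw
    exact ⟨⟨w, hWN hw⟩, hQ (Subgroup.mem_subgroupOf.mpr hw), rfl⟩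
  refine ⟨k, hkS z (hWQ hzW), hkS u (hWQ huW), ?_⟩
  -- the conjugated four-group
  have hmap : W0.map (MulAut.conj k).toMonoidHom = Subgroup.closure {k * z * k⁻¹, k * u * k⁻¹} := by
    rw [hW0, MonoidHom.map_closure, Set.image_pair]
    rfl
  have hnorm : N0.map (MulAut.conj k).toMonoidHom =
      Subgroup.normalizer ((Subgroup.closure {k * z * k⁻¹, k * u * k⁻¹} : Subgroup G) : Set G) := by
    rw [hN0, ← hmap]
    exact Subgroup.map_equiv_normalizer_eq W0 (MulAut.conj k)
  rw [← hnorm]
  have hinj : Function.Injective (MulAut.conj k).toMonoidHom := (MulAut.conj k).injective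
  have hle : ((Q : Subgroup ↥N0).map N0.subtype).map (MulAut.conj k).toMonoidHom ≤
      (S : Subgroup G) ⊓ N0.map (MulAut.conj k).toMonoidHom := by
    refine le_inf ?_ (Subgroup.map_mono (Subgroup.map_subtype_le _))
    rintro _ ⟨q, hq, rfl⟩
    exact hkS q hq
  have hdvd := Subgroup.relIndex_dvd_of_le_left (N0.map (MulAut.conj k).toMonoidHom) hle
  rw [Subgroup.relIndex_map_map_of_injective _ _ hinj] at hdvd
  have hidx : ((Q : Subgroup ↥N0).map N0.subtype).relIndex N0 = (Q : Subgroup ↥N0).index := by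
    unfold Subgroup.relIndex Subgroup.subgroupOf
    rw [Subgroup.comap_map_eq_self_of_injective (Subgroup.subtype_injective N0)]
  rw [hidx] at hdvd
  intro h
  exact Q.not_dvd_index (h.trans hdvd)

/-- PIECE B3a. Move the four-group `{1, z, u, z u}` so that `N_S(W)` is a Sylow 2-subgroup of
`N_G(W)`, `W = closure {z, u'}`. -/
theorem exists_three_cycle_tame {G : Type*} [Group G] [Finite G] (h2 : Cfsg.PRankLE 2 2 G)
    (S : Sylow 2 G) (z : G) (hzS : z ∈ (S : Subgroup G))
    (hzc : ∀ g ∈ (S : Subgroup G), g * z = z * g) (hz2 : orderOf z = 2)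
    (u y : G) (huS : u ∈ (S : Subgroup G)) (huu : u * u = 1) (hu1 : u ≠ 1) (huz : u ≠ z)
    (hyz : y * z * y⁻¹ = u) (hyu : y * u * y⁻¹ = z * u) :
    ∃ u' y' : G, u' ∈ (S : Subgroup G) ∧ u' * u' = 1 ∧ u' ≠ 1 ∧ u' ≠ z ∧ y' * z * y'⁻¹ = u' ∧
      y' * u' * y'⁻¹ = z * u' ∧
      ¬ 2 ∣ ((S : Subgroup G) ⊓ Subgroup.normalizer ((Subgroup.closure {z, u'} : Subgroup G) : Set G)).relIndex
        (Subgroup.normalizer ((Subgroup.closure {z, u'} : Subgroup G) : Set G)) := by
  have hzz : z * z = 1 := by rw [← pow_two, ← hz2]; exact pow_orderOf_eq_one z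
  have hz1 : z ≠ 1 := by intro h; rw [h, orderOf_one] at hz2; omega
  have hzu : z * u = u * z := (hzc u huS).symm
  obtain ⟨k, hz1S, hu1S, htame⟩ := tame_core S z u hzu hzz huu
  obtain ⟨a, ha⟩ : ∃ a : G, a = k * z * k⁻¹ := ⟨_, rfl⟩
  obtain ⟨b, hb⟩ : ∃ b : G, b = k * u * k⁻¹ := ⟨_, rfl⟩
  obtain ⟨c, hc⟩ : ∃ c : G, c = k * y * k⁻¹ := ⟨_, rfl⟩
  rw [← ha, ← hb] at htame
  rw [← ha] at hz1S
  rw [← hb] at hu1S
  have haa : a * a = 1 := by
    rw [ha]
    calc k * z * k⁻¹ * (k * z * k⁻¹) = k * (z * z) * k⁻¹ := by group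
      _ = 1 := by rw [hzz]; group
  have hbb : b * b = 1 := by
    rw [hb]
    calc k * u * k⁻¹ * (k * u * k⁻¹) = k * (u * u) * k⁻¹ := by group
      _ = 1 := by rw [huu]; group
  have hab : a * b = b * a := by
    rw [ha, hb]
    calc k * z * k⁻¹ * (k * u * k⁻¹) = k * (z * u) * k⁻¹ := by group
      _ = k * (u * z) * k⁻¹ := by rw [hzu]
      _ = k * u * k⁻¹ * (k * z * k⁻¹) := by group
  have ha1 : a ≠ 1 := by
    intro h
    apply hz1
    have h3 : z = k⁻¹ * a * k := by rw [ha]; group
    rw [h3, h]; group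
  have hb1 : b ≠ 1 := by
    intro h
    apply hu1
    have h3 : u = k⁻¹ * b * k := by rw [hb]; group
    rw [h3, h]; group
  have hne : a ≠ b := by
    intro h
    apply huz
    have h3 : u = k⁻¹ * b * k := by rw [hb]; group
    have h4 : z = k⁻¹ * a * k := by rw [ha]; group
    rw [h3, h4, h]
  have hca : c * a * c⁻¹ = b := by
    rw [hc, ha, hb, ← hyz]; group
  have hcb : c * b * c⁻¹ = a * b := by
    rw [hc, ha, hb]
    calc k * y * k⁻¹ * (k * u * k⁻¹) * (k * y * k⁻¹)⁻¹ = k * (y * u * y⁻¹) * k⁻¹ := by group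
      _ = k * (z * u) * k⁻¹ := by rw [hyu]
      _ = k * z * k⁻¹ * (k * u * k⁻¹) := by group
  have hcab : c * (a * b) * c⁻¹ = a := by
    calc c * (a * b) * c⁻¹ = (c * a * c⁻¹) * (c * b * c⁻¹) := by group
      _ = b * (a * b) := by rw [hca, hcb]
      _ = b * (b * a) := by rw [hab]
      _ = (b * b) * a := by group
      _ = a := by rw [hbb, one_mul]
  -- `z` is one of `a`, `b`, `a * b`
  have haz : a * z = z * a := hzc a hz1S
  have hbz : b * z = z * b := hzc b hu1S
  have hmemA : a ∈ Subgroup.closure ({a, b} : Set G) := Subgroup.subset_closure (by simp)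
  have hmemB : b ∈ Subgroup.closure ({a, b} : Set G) := Subgroup.subset_closure (by simp)
  rcases rank_two_four h2 a b z haa hbb hzz hab haz hbz ha1 hb1 hne with h | h | h | h
  · exact absurd h hz1
  · -- `z = a`
    refine ⟨b, c, hu1S, hbb, hb1, ?_, ?_, ?_, ?_⟩
    · intro h'
      exact hne (h.symm.trans h'.symm)
    · rw [h]; exact hca
    · rw [h]; exact hcb
    · rw [h]; exact htame
  · -- `z = b`
    have hcl : Subgroup.closure ({b, a * b} : Set G) = Subgroup.closure {a, b} := by
      apply le_antisymm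
      · rw [Subgroup.closure_le]
        intro x hx
        simp only [Set.mem_insert_iff, Set.mem_singleton_iff] at hx
        rcases hx with h' | h'
        · rw [h']; exact hmemB
        · rw [h']; exact Subgroup.mul_mem _ hmemA hmemB
      · rw [Subgroup.closure_le]
        intro x hx
        simp only [Set.mem_insert_iff, Set.mem_singleton_iff] at hx
        have hm1 : b ∈ Subgroup.closure ({b, a * b} : Set G) := Subgroup.subset_closure (by simp)
        have hm2 : a * b ∈ Subgroup.closure ({b, a * b} : Set G) :=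
          Subgroup.subset_closure (by simp)
        rcases hx with h' | h'
        · have h5 := Subgroup.mul_mem _ hm2 hm1
          have e : (a * b) * b = a := by rw [mul_assoc, hbb, mul_one]
          rw [e] at h5
          rw [h']; exact h5
        · rw [h']; exact hm1
    refine ⟨a * b, c, (S : Subgroup G).mul_mem hz1S hu1S, ?_, ?_, ?_, ?_, ?_, ?_⟩
    · calc a * b * (a * b) = a * (b * a) * b := by group
        _ = a * (a * b) * b := by rw [hab]
        _ = (a * a) * (b * b) := by group
        _ = 1 := by rw [haa, hbb, one_mul]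
    · intro h'
      have h3 : a = b⁻¹ := eq_inv_of_mul_eq_one_left h'
      have h4 : b⁻¹ = b := inv_eq_of_mul_eq_one_right hbb
      exact hne (h3.trans h4)
    · intro h'
      rw [h] at h'
      have h3 : a * b = 1 * b := by rw [one_mul]; exact h'
      exact ha1 (mul_right_cancel h3)
    · rw [h]; exact hcb
    · rw [h, hcab]
      calc a = (b * b) * a := by rw [hbb, one_mul]
        _ = b * (b * a) := by group
        _ = b * (a * b) := by rw [hab]
    · rw [h, hcl]; exact htame
  · -- `z = a * b`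
    have hcl : Subgroup.closure ({a * b, a} : Set G) = Subgroup.closure {a, b} := by
      apply le_antisymm
      · rw [Subgroup.closure_le]
        intro x hx
        simp only [Set.mem_insert_iff, Set.mem_singleton_iff] at hx
        rcases hx with h' | h'
        · rw [h']; exact Subgroup.mul_mem _ hmemA hmemB
        · rw [h']; exact hmemA
      · rw [Subgroup.closure_le]
        intro x hx
        simp only [Set.mem_insert_iff, Set.mem_singleton_iff] at hx
        have hm1 : a ∈ Subgroup.closure ({a * b, a} : Set G) := Subgroup.subset_closure (by simp)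
        have hm2 : a * b ∈ Subgroup.closure ({a * b, a} : Set G) :=
          Subgroup.subset_closure (by simp)
        rcases hx with h' | h'
        · rw [h']; exact hm1
        · have h5 := Subgroup.mul_mem _ hm1 hm2
          have e : a * (a * b) = b := by rw [← mul_assoc, haa, one_mul]
          rw [e] at h5
          rw [h']; exact h5
    refine ⟨a, c, hz1S, haa, ha1, ?_, ?_, ?_, ?_⟩
    · intro h'
      rw [h] at h'
      have h3 : a * 1 = a * b := by rw [mul_one]; exact h'
      exact hb1 (mul_left_cancel h3).symm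
    · rw [h]; exact hcab
    · rw [h, hca]
      calc b = (a * a) * b := by rw [haa, one_mul]
        _ = a * (a * b) := by group
        _ = a * (b * a) := by rw [hab]
        _ = a * b * a := by group
    · rw [h, hcl]; exact htame

end Cfsg.Agent.Lib.helper60.S1238
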