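import Mathlib
import Cfsg.Agent.Lib.helper97.BGEightDefs
import Cfsg.Agent.Lib.helper60.BGTau2Ab
import Cfsg.Agent.S1416
import Cfsg.Agent.S1417

/-!
# S1421, piece PA1 (`bg8_sylow_normal`) of `tools/S1421_SPEC.md`

An abelian Sylow `p`-subgroup `S ≥ A` of `G` (`p ∈ τ₂(M)`, `A ≤ E` elementary abelian of order
`p ^ 2`) lies in `E` and is normal in `N_G(A)`: a wrapper around
`Cfsg.Agent.Lib.helper60.BGTau2Ab.tau2_sylow_normal_strong`.
-/

set_option autoImplicit false
open Cfsg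

namespace Cfsg.Agent.Lib.helper60

open Cfsg.Agent.Lib.helper8 Cfsg.Agent.Lib.helper97

variable {G : Type*} [Group G]

/-- PA1 of the S1421 spec. -/
theorem bg8_sylow_normal [Finite G] (hG : IsMinSimpleOddOrder G) {M E A : Subgroup G} {p : ℕ}
    [Fact p.Prime] {S : Sylow p G} (c : BG8Ctx M E A p S) :
    (S : Subgroup G) ≤ E ∧
      Subgroup.normalizer (A : Set G) ≤ Subgroup.normalizer ((S : Subgroup G) : Set G) := by
  have h16 : BGTwelveFourHyp G := fun M hM p _ A hA => Cfsg.Agent.S1416.result hG M hM p A hA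
  have h17 : BG7FiveHyp G := fun M hM p _ hp A hA => Cfsg.Agent.S1417.result hG M hM p hp A hA
  have h18 : BG7SixHyp G := bg7_six_of hG h16 h17
  have hSab : IsMulCommutative (S : Subgroup G) :=
    ⟨⟨fun a b => Subtype.ext (c.hSab a a.2 b b.2)⟩⟩
  exact BGTau2Ab.tau2_sylow_normal_strong hG h17 h18 M c.hM E c.hE p c.hp A c.hA S c.hAS hSab

end Cfsg.Agent.Lib.helper60
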