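import Mathlib
import Cfsg.Agent.Lib.helper30.BG8PAD

/-!
# S1421 piece PAD for a subgroup `C_G(A) ≤ E' ≤ E` (towards S1360)

`bg8_exists_cyclic_sub` is `Cfsg.Agent.Lib.helper30.bg8_exists_cyclic` with the acting group `E`
replaced by any subgroup `E'` with `C_G(A) ≤ E' ≤ E`; the proof is helper30's, with `E'` in place
of `E` as the acting group.
-/

set_option autoImplicit false

namespace Cfsg.Agent.Lib.helper60.BG8U

open Cfsg Cfsg.Agent.Lib.helper97 Cfsg.Agent.Lib.helper30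

variable {G : Type*} [Group G]

/-- Piece PAD of the S1421 spec, for an acting group `E'` with `C_G(A) ≤ E' ≤ E`. -/
theorem bg8_exists_cyclic_sub [Finite G] (hG : IsMinSimpleOddOrder G)
    {M E A : Subgroup G} {p : ℕ} [Fact p.Prime] {S : Sylow p G} (c : BG8Ctx M E A p S)
    (E' : Subgroup G) (hCE' : Subgroup.centralizer (A : Set G) ≤ E') (hE'E : E' ≤ E)
    (hSE : (S : Subgroup G) ≤ E)
    (hNS : Subgroup.normalizer (A : Set G) ≤ Subgroup.normalizer ((S : Subgroup G) : Set G))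
    (Y : Subgroup G) (hYA : Y ≤ A) (hYc : Nat.card Y = p)
    (hYE : E' ≤ Subgroup.normalizer (Y : Set G)) :
    ∃ D : Subgroup G, D ≤ (S : Subgroup G) ∧ IsCyclic D ∧ E' ≤ Subgroup.normalizer (D : Set G) ∧
      (∀ s ∈ (S : Subgroup G), s ^ Nat.card D = 1) ∧ ∀ d ∈ D, d ≠ 1 → BG8Reg M d := by
  classical
  have hpp : p.Prime := Fact.out
  obtain ⟨hodd, hsimple, -, -⟩ := id hG
  have := hsimple
  obtain ⟨hAE, hAe, hA2⟩ := c.hA
  have hM := c.hM
  have hEM : E ≤ M := c.hE.1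
  have hAM : A ≤ M := hAE.trans hEM
  have h16 : Cfsg.Agent.Lib.helper8.BGTwelveFourHyp G :=
    fun M hM p _ A hA => Cfsg.Agent.S1416.result hG M hM p A hA
  have h17 : BG7FiveHyp G := fun M hM p _ hp A hA => Cfsg.Agent.S1417.result hG M hM p hp A hA
  have h18 : BG7SixHyp G := bg7_six_of hG h16 h17
  obtain ⟨⟨hEA, -⟩, ⟨hCMN, hMN, hNM⟩, hreg⟩ := h18 M hM E c.hE p c.hp A c.hA
  have hCE : Subgroup.centralizer (A : Set G) ≤ E := hMN ▸ hCMN
  have hES : E' ≤ Subgroup.normalizer ((S : Subgroup G) : Set G) := hE'E.trans (hEA.trans hNS)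
  have hSE' : (S : Subgroup G) ≤ E' := by
    refine le_trans ?_ hCE'
    intro s hs
    rw [Subgroup.mem_centralizer_iff]
    intro a ha
    exact c.hSab a (c.hAS ha) s hs
  have hSM : (S : Subgroup G) ≤ M := hSE.trans hEM
  -- (F2): `Ω₁(S) = A`
  have hF2 : ∀ x ∈ (S : Subgroup G), x ^ p = 1 ↔ x ∈ A := by
    obtain ⟨-, hb, -⟩ := h17 M hM p c.hp A ⟨hAM, hAe, hA2⟩
    have hmap : ((S.subtype hSM : Sylow p M) : Subgroup M).map M.subtype = (S : Subgroup G) := by
      rw [Sylow.coe_subtype, Subgroup.map_subgroupOf_eq_of_le hSM]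
    have h1 := (hb (S.subtype hSM)).2 (by rw [hmap]; exact c.hAS)
    intro x hx
    exact h1.1 x (by rw [hmap]; exact hx)
  have hp2 : p ≠ 2 := by
    rintro rfl
    have h1 : 2 ∣ Nat.card A := by rw [hA2]; exact dvd_pow_self 2 (by norm_num)
    have h2 : 2 ∣ Nat.card G := h1.trans (Subgroup.card_subgroup_dvd_card A)
    exact (Nat.not_even_iff_odd.mpr hodd) (even_iff_two_dvd.mpr h2)
  obtain ⟨n, hnN, hnM⟩ := SetLike.not_le_iff_exists.mp hNM
  -- the abstract abelian group `T = S`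
  have hcommS : ∀ a b : ↥(S : Subgroup G), a * b = b * a :=
    fun a b => Subtype.ext (c.hSab a a.2 b b.2)
  have hTp : IsPGroup p ↥(S : Subgroup G) := S.isPGroup'
  let ρ : ↥E' →* MulAut ↥(S : Subgroup G) :=
    (S : Subgroup G).normalizerMonoidHom.comp (Subgroup.inclusion hES)
  have hρ : ∀ (e : ↥E') (s : ↥(S : Subgroup G)),
      ((ρ e s : ↥(S : Subgroup G)) : G) = (e : G) * s * (e : G)⁻¹ := fun e s => rfl
  have hX : (Nat.card ρ.range).Coprime p := by
    rw [Nat.coprime_comm, Nat.Prime.coprime_iff_not_dvd hpp, ← Subgroup.index_ker]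
    intro hd
    have hle : (S : Subgroup G).subgroupOf E' ≤ ρ.ker := by
      intro e he
      rw [MonoidHom.mem_ker]
      ext s
      rw [hρ]
      have h1 := c.hSab e he s s.2
      rw [h1, mul_inv_cancel_right]
      rfl
    have h2 : ρ.ker.index ∣ ((S : Subgroup G).subgroupOf E').index := Subgroup.index_dvd_of_le hle
    have h3 : ((S : Subgroup G).subgroupOf E').index ∣ (S : Subgroup G).index :=
      Subgroup.relIndex_dvd_index_of_le hSE'
    exact S.not_dvd_index (hd.trans (h2.trans h3))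
  have hΩ : ∀ t : ↥(S : Subgroup G), t ^ p = 1 ↔ t ∈ A.subgroupOf (S : Subgroup G) := by
    intro t
    rw [Subgroup.mem_subgroupOf, ← hF2 t t.2]
    constructor
    · intro h
      have h1 := congrArg Subtype.val h
      simpa using h1
    · intro h
      exact Subtype.ext (by simpa using h)
  have hΩc : Nat.card ↥(A.subgroupOf (S : Subgroup G)) = p ^ 2 := by
    rw [← hA2]; exact Nat.card_congr (Subgroup.subgroupOfEquivOfLe c.hAS).toEquiv
  have hBc : Nat.card ↥(Y.subgroupOf (S : Subgroup G)) = p := by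
    exact (Nat.card_congr (Subgroup.subgroupOfEquivOfLe (hYA.trans c.hAS)).toEquiv).trans hYc
  have hBinv : ∀ x ∈ ρ.range, ∀ b ∈ Y.subgroupOf (S : Subgroup G),
      x b ∈ Y.subgroupOf (S : Subgroup G) := by
    rintro _ ⟨e, rfl⟩ b hb
    rw [Subgroup.mem_subgroupOf] at hb ⊢
    rw [hρ]
    exact (Subgroup.mem_normalizer_iff.mp (hYE e.2) b).mp hb
  obtain ⟨D₀, hD₀inv, hD₀cyc, hD₀Ω, hD₀exp⟩ :=
    pad_pure hcommS p hp2 hTp ρ.range hX (A.subgroupOf (S : Subgroup G)) hΩ hΩc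
      (Y.subgroupOf (S : Subgroup G)) hBc hBinv
  -- transport to `G`
  have hinj : Function.Injective ((S : Subgroup G).subtype) := Subgroup.subtype_injective _
  have hD1S : D₀.map (S : Subgroup G).subtype ≤ (S : Subgroup G) := by
    rintro _ ⟨d, -, rfl⟩; exact d.2
  have hD1card : Nat.card ↥(D₀.map (S : Subgroup G).subtype) = Nat.card D₀ :=
    Subgroup.card_map_of_injective hinj
  have hD1cyc : IsCyclic ↥(D₀.map (S : Subgroup G).subtype) :=
    (Subgroup.equivMapOfInjective D₀ _ hinj).isCyclic.mp hD₀cyc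
  have hD1conj : ∀ e ∈ E', ∀ d ∈ D₀.map (S : Subgroup G).subtype,
      e * d * e⁻¹ ∈ D₀.map (S : Subgroup G).subtype := by
    rintro e he _ ⟨t, ht, rfl⟩
    exact ⟨ρ ⟨e, he⟩ t, hD₀inv _ ⟨⟨e, he⟩, rfl⟩ t ht, rfl⟩
  have hD1exp : ∀ s ∈ (S : Subgroup G), s ^ Nat.card ↥(D₀.map (S : Subgroup G).subtype) = 1 := by
    intro s hs
    rw [hD1card]
    have h1 := hD₀exp ⟨s, hs⟩
    have h2 := congrArg Subtype.val h1
    simpa using h2
  -- the socle `Z = A ⊓ D1` has order `p`
  have hZeq : (A.subgroupOf (S : Subgroup G) ⊓ D₀).map (S : Subgroup G).subtype =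
      A ⊓ D₀.map (S : Subgroup G).subtype := by
    ext x
    constructor
    · rintro ⟨t, ⟨htA, htD⟩, rfl⟩
      exact ⟨Subgroup.mem_subgroupOf.mp htA, ⟨t, htD, rfl⟩⟩
    · rintro ⟨hxA, ⟨t, htD, rfl⟩⟩
      exact ⟨t, ⟨Subgroup.mem_subgroupOf.mpr hxA, htD⟩, rfl⟩
  have hZc : Nat.card ↥(A ⊓ D₀.map (S : Subgroup G).subtype) = p := by
    rw [← hZeq, Subgroup.card_map_of_injective hinj, hD₀Ω]
  -- a generator of the socle
  have hZne : A ⊓ D₀.map (S : Subgroup G).subtype ≠ ⊥ := by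
    intro h
    rw [h, Subgroup.card_bot] at hZc
    exact hpp.one_lt.ne hZc
  obtain ⟨x1, hx11⟩ := (Subgroup.ne_bot_iff_exists_ne_one.mp hZne)
  have hx1Z' : (x1 : G) ∈ A ⊓ D₀.map (S : Subgroup G).subtype := x1.2
  have hx11' : (x1 : G) ≠ 1 := fun h => hx11 (Subtype.ext h)
  -- every non-identity `d ∈ D1` has a power `≠ 1` in the socle, and `x1` is a power of `d`
  have hsoc : ∀ d ∈ D₀.map (S : Subgroup G).subtype, d ≠ 1 →
      ∃ K : ℕ, d ^ K ≠ 1 ∧ d ^ K ∈ A ⊓ D₀.map (S : Subgroup G).subtype ∧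
        A ⊓ D₀.map (S : Subgroup G).subtype = Subgroup.zpowers (d ^ K) := by
    intro d hd hd1
    have hdS := hD1S hd
    obtain ⟨k, hk⟩ := (IsPGroup.iff_orderOf.mp S.isPGroup') ⟨d, hdS⟩
    rw [Subgroup.orderOf_mk] at hk
    have hk0 : k ≠ 0 := by
      rintro rfl
      rw [pow_zero] at hk
      exact hd1 (orderOf_eq_one_iff.mp hk)
    obtain ⟨k', rfl⟩ := Nat.exists_eq_succ_of_ne_zero hk0
    have h1 : d ^ p ^ k' ≠ 1 := by
      intro h
      have h2 := orderOf_dvd_of_pow_eq_one h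
      rw [hk] at h2
      have h3 := Nat.le_of_dvd (pow_pos hpp.pos k') h2
      exact absurd h3 (not_le.mpr (Nat.pow_lt_pow_right hpp.one_lt (Nat.lt_succ_self k')))
    have h2 : (d ^ p ^ k') ^ p = 1 := by
      rw [← pow_mul, ← pow_succ, ← hk]
      exact pow_orderOf_eq_one d
    have h3 : d ^ p ^ k' ∈ A ⊓ D₀.map (S : Subgroup G).subtype :=
      ⟨(hF2 _ (Subgroup.pow_mem _ hdS _)).mp h2, Subgroup.pow_mem _ hd _⟩
    exact ⟨p ^ k', h1, h3, eq_zpowers_of_card_prime p _ hZc _ h3 h1⟩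
  by_cases hcase : BG8Reg M (x1 : G)
  · -- Case a: the socle is regular
    refine ⟨D₀.map (S : Subgroup G).subtype, hD1S, hD1cyc, ?_, hD1exp, ?_⟩
    · intro e he
      exact Cfsg.Agent.Lib.helper13.mem_normalizer_of_forall_conj_mem (hD1conj e he)
    · intro d hd hd1
      obtain ⟨K, hK1, hKZ, hZK⟩ := hsoc d hd hd1
      have h1 : (x1 : G) ∈ Subgroup.zpowers (d ^ K) := hZK ▸ hx1Z'
      obtain ⟨i, hi⟩ := exists_nat_pow_of_mem_zpowers h1
      apply pad_reg_of_pow d (K * i)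
      rw [pow_mul, ← hi]
      exact hcase
  · -- Case b: the socle is not regular; conjugate by `n ∈ N_G(A) \ M`
    have hZM : Subgroup.centralizer ((A ⊓ D₀.map (S : Subgroup G).subtype : Subgroup G) : Set G)
        ≤ M := by
      refine (hreg _ inf_le_left hZc ?_).1
      intro h
      apply hcase
      unfold BG8Reg
      rw [eq_bot_iff, ← h]
      refine inf_le_inf_left _ ?_
      intro w hw
      have h2 := pad_cent_zpowers (x1 : G) w hw
      rwa [← eq_zpowers_of_card_prime p _ hZc _ hx1Z' hx11'] at h2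
    have hconj0 : sigmaCore M ⊓ M.map (MulAut.conj n).toMonoidHom = ⊥ :=
      bg7_sigma_inf_conj hG h17 M hM p c.hp A ⟨hAM, hAe, hA2⟩ n hnN hnM
    have hnS : n ∈ Subgroup.normalizer ((S : Subgroup G) : Set G) := hNS hnN
    have hinjn : Function.Injective ((MulAut.conj n).toMonoidHom : G →* G) :=
      (MulAut.conj n).injective
    refine ⟨(D₀.map (S : Subgroup G).subtype).map (MulAut.conj n).toMonoidHom, ?_, ?_, ?_, ?_, ?_⟩
    · rintro _ ⟨d, hd, rfl⟩
      exact (Subgroup.mem_normalizer_iff.mp hnS d).mp (hD1S hd)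
    · exact (Subgroup.equivMapOfInjective _ _ hinjn).isCyclic.mp hD1cyc
    · intro e he
      apply Cfsg.Agent.Lib.helper13.mem_normalizer_of_forall_conj_mem
      rintro _ ⟨d, hd, rfl⟩
      have h1 : n⁻¹ * e * n⁻¹⁻¹ * e⁻¹ ∈ Subgroup.centralizer (A : Set G) :=
        bg8_comm_le_cent hG c n⁻¹ (Subgroup.inv_mem _ hnN) e (hEA (hE'E he))
      have h2 : n⁻¹ * e * n ∈ E' := by
        have h3 : n⁻¹ * e * n = (n⁻¹ * e * n⁻¹⁻¹ * e⁻¹) * e := by group
        rw [h3]
        exact E'.mul_mem (hCE' h1) he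
      refine ⟨(n⁻¹ * e * n) * d * (n⁻¹ * e * n)⁻¹, hD1conj _ h2 d hd, ?_⟩
      simp only [MulEquiv.coe_toMonoidHom, MulAut.conj_apply]
      group
    · intro s hs
      rw [Subgroup.card_map_of_injective hinjn]
      exact hD1exp s hs
    · rintro _ ⟨d, hd, rfl⟩ hd1
      have hd1' : d ≠ 1 := by
        rintro rfl
        exact hd1 (by simp)
      obtain ⟨K, hK1, hKZ, hZK⟩ := hsoc d hd hd1'
      apply pad_reg_of_pow _ K
      unfold BG8Reg
      rw [eq_bot_iff, ← hconj0]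
      refine inf_le_inf_left _ ?_
      intro w hw
      rw [Subgroup.mem_centralizer_iff] at hw
      have h1 := hw _ rfl
      -- `n⁻¹ w n` commutes with `d ^ K`
      have h2 : n⁻¹ * w * n ∈ Subgroup.centralizer ({d ^ K} : Set G) := by
        rw [Subgroup.mem_centralizer_iff]
        intro y hy
        rw [Set.mem_singleton_iff] at hy
        subst hy
        simp only [MulEquiv.coe_toMonoidHom, MulAut.conj_apply] at h1
        have h3 : (n * d * n⁻¹) ^ K = n * d ^ K * n⁻¹ := by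
          rw [conj_pow]
        rw [h3] at h1
        calc d ^ K * (n⁻¹ * w * n) = n⁻¹ * ((n * d ^ K * n⁻¹) * w) * n := by group
          _ = n⁻¹ * (w * (n * d ^ K * n⁻¹)) * n := by rw [h1]
          _ = n⁻¹ * w * n * d ^ K := by group
      have h4 : n⁻¹ * w * n ∈ M := by
        apply hZM
        rw [hZK]
        exact pad_cent_zpowers _ _ h2
      exact ⟨n⁻¹ * w * n, h4, by simp only [MulEquiv.coe_toMonoidHom, MulAut.conj_apply]; group⟩

end Cfsg.Agent.Lib.helper60.BG8U
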