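import Mathlib
import Cfsg.Prelude.Def_OddOrderLocal
import Cfsg.Agent.Lib.helper60.BGHatU
import Cfsg.Agent.Lib.helper60.BG8PA1
import Cfsg.Agent.Lib.helper60.BG8U
import Cfsg.Agent.Lib.helper70.BG8PARU
import Cfsg.Agent.Lib.helper20.BG8ASM
import Cfsg.Agent.Lib.helper97.BGEight2
import Cfsg.Agent.S1427

/-!
# A regular subgroup of `U` of full exponent (towards statement S1360)

In the standard factorisation `M = K U M_σ`: if every prime of `τ₂(M)` has abelian Sylow subgroups
in `G`, then `U` has a subgroup `U₀` of the same exponent all of whose non-identity elements act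
regularly on `M_σ` (`exists_U0_of_abelian`).  This is the argument of the regular complement
theorem (S1421) carried out in `U`: the pieces PA1, PAR, PAD, ASM of that proof, with `U` as the
acting group.
-/

set_option autoImplicit false
open Cfsg

namespace Cfsg.Agent.Lib.helper60.BGU0

open Cfsg.Agent.Lib.helper8 Cfsg.Agent.Lib.helper97 Cfsg.Agent.Lib.helper60.BGCentU
open Cfsg.Agent.Lib.helper60.BGTau2Ab Cfsg.Agent.Lib.helper60.BGHatU

variable {G : Type*} [Group G]

/-- `|H N|` divides `|H| |N|` when `H` normalizes `N`. -/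
theorem card_sup_dvd_mul_of_le_normalizer [Finite G] {H N : Subgroup G}
    (hN : H ≤ Subgroup.normalizer (N : Set G)) :
    Nat.card (H ⊔ N : Subgroup G) ∣ Nat.card H * Nat.card N := by
  set T : Subgroup G := H ⊔ N with hT
  have hNT : N ≤ T := le_sup_right
  have hHT : H ≤ T := le_sup_left
  have hTn : T ≤ Subgroup.normalizer (N : Set G) := sup_le hN Subgroup.le_normalizer
  have : (N.subgroupOf T).Normal := (Subgroup.normal_subgroupOf_iff_le_normalizer hNT).mpr hTn
  have h1 : H.subgroupOf T ⊔ N.subgroupOf T = ⊤ := by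
    rw [← Subgroup.subgroupOf_sup hHT hNT, Subgroup.subgroupOf_self]
  have h2 : (N.subgroupOf T).relIndex (H.subgroupOf T ⊔ N.subgroupOf T)
      = (N.subgroupOf T).relIndex (H.subgroupOf T) := Subgroup.relIndex_sup_right _ _
  rw [h1, Subgroup.relIndex_top_right] at h2
  have h3 : (N.subgroupOf T).index ∣ Nat.card (H.subgroupOf T) := by
    rw [h2]; exact Subgroup.relIndex_dvd_card _ _
  have h4 : Nat.card (N.subgroupOf T) * (N.subgroupOf T).index = Nat.card T :=
    Subgroup.card_mul_index _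
  have h5 : Nat.card (N.subgroupOf T) = Nat.card N :=
    Nat.card_congr (Subgroup.subgroupOfEquivOfLe hNT).toEquiv
  have h6 : Nat.card (H.subgroupOf T) = Nat.card H :=
    Nat.card_congr (Subgroup.subgroupOfEquivOfLe hHT).toEquiv
  rw [← h4, h5, mul_comm]
  exact Nat.mul_dvd_mul_right (h6 ▸ h3) _

/-- A non-regular element has a fixed point of its cyclic group on `M_σ`. -/
theorem fix_zpowers_of_not_reg {M : Subgroup G} {e : G} (h : ¬ BG8Reg M e) :
    sigmaCore M ⊓ Subgroup.centralizer ((Subgroup.zpowers e : Subgroup G) : Set G) ≠ ⊥ := by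
  intro hbot
  apply h
  unfold BG8Reg
  rw [eq_bot_iff]
  intro y hy
  obtain ⟨hyσ, hyc⟩ := Subgroup.mem_inf.mp hy
  have hcomm : e * y = y * e := Subgroup.mem_centralizer_iff.mp hyc e rfl
  have hmem : y ∈ sigmaCore M ⊓
      Subgroup.centralizer ((Subgroup.zpowers e : Subgroup G) : Set G) := by
    refine Subgroup.mem_inf.mpr ⟨hyσ, ?_⟩
    rw [Subgroup.mem_centralizer_iff]
    intro z hz
    obtain ⟨k, rfl⟩ := Subgroup.mem_zpowers_iff.mp hz
    exact ((show Commute e y from hcomm).zpow_left k).eq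
  rw [hbot] at hmem
  exact hmem

/-- An element of `U` whose order is divisible by a prime outside `τ₂(M)` acts regularly on
`M_σ`. -/
theorem reg_of_prime_not_tau2 [Finite G] (hG : IsMinSimpleOddOrder G) (M : Subgroup G)
    (hM : IsCoatom M) (K U : Subgroup G) (hKU : IsSigmaDecomposition M K U) (e : G) (heU : e ∈ U)
    (q : ℕ) (hq : q.Prime) (hqe : q ∣ orderOf e) (hq2 : q ∉ tau2 M) : BG8Reg M e := by
  by_contra hne
  exact hq2 (mem_tau2_of_dvd hG M hM K U hKU (Subgroup.zpowers e)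
    (by rw [Subgroup.zpowers_le]; exact heU) (fix_zpowers_of_not_reg hne) q hq
    (by rw [Nat.card_zpowers]; exact hqe))

/-- `τ₂(M)` and `κ(M)` are disjoint. -/
theorem tau2_not_kappa [Finite G] (M : Subgroup G) (p : ℕ) (hp : p ∈ tau2 M) : p ∉ kappa M := by
  intro hκ
  obtain ⟨hpp, -, -, hr1⟩ := hp
  have : Fact p.Prime := ⟨hpp⟩
  apply hr1
  intro A hA hAe
  have hAp : IsPGroup p A := fun a => ⟨1, by rw [pow_one]; exact Subtype.ext (hAe a.1 a.2)⟩
  obtain ⟨P, hP⟩ := hAp.exists_le_sylow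
  have hPc : IsCyclic ↥(P : Subgroup ↥M) := (hκ.2.2.2 P).1
  classical
  have : Fintype ↥(P : Subgroup ↥M) := Fintype.ofFinite _
  have h1 := IsCyclic.card_pow_eq_one_le (α := ↥(P : Subgroup ↥M)) hpp.pos
  have h2 : Nat.card A ≤ Nat.card {a : ↥(P : Subgroup ↥M) // a ^ p = 1} := by
    apply Nat.card_le_card_of_injective
      (fun a : A => (⟨⟨a.1, hP a.2⟩, Subtype.ext (hAe a.1 a.2)⟩ :
        {a : ↥(P : Subgroup ↥M) // a ^ p = 1}))
    intro a b hab
    apply Subtype.ext
    exact congrArg (fun z => (z.1 : ↥M)) hab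
  have h3 : Nat.card {a : ↥(P : Subgroup ↥M) // a ^ p = 1} =
      (Finset.univ.filter (fun a : ↥(P : Subgroup ↥M) => a ^ p = 1)).card := by
    rw [Nat.card_eq_fintype_card, Fintype.card_subtype]
  rw [pow_one]
  exact h2.trans (h3.le.trans h1)

/-- A normal Sylow `p`-subgroup of a complement `E ≥ U`, `p ∉ κ(M)`, lies in `U`. -/
theorem sylow_le_U [Finite G] (M : Subgroup G)
    (K U : Subgroup G) (hKU : IsSigmaDecomposition M K U) (E : Subgroup G)
    (hE : IsComplIn E (sigmaCore M) M) (hUE : U ≤ E) (p : ℕ) [Fact p.Prime] (hpκ : p ∉ kappa M)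
    (S : Sylow p G) (hSE : (S : Subgroup G) ≤ E)
    (hES : E ≤ Subgroup.normalizer ((S : Subgroup G) : Set G)) : (S : Subgroup G) ≤ U := by
  have hpp : p.Prime := Fact.out
  have hKM : K ≤ M := hKU.hall.1
  have hKσ : K ≤ Subgroup.normalizer ((sigmaCore M : Subgroup G) : Set G) :=
    hKM.trans (Cfsg.Agent.Lib.helper13.le_normalizer_sigmaCore M)
  have h1 : Nat.card U * Nat.card ↥(K ⊔ sigmaCore M) = Nat.card M := card_of_isComplIn hKU.compl
  have h2 : Nat.card E * Nat.card ↥(sigmaCore M) = Nat.card M := card_of_isComplIn hE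
  have h3 : Nat.card ↥(K ⊔ sigmaCore M) ∣ Nat.card K * Nat.card ↥(sigmaCore M) :=
    card_sup_dvd_mul_of_le_normalizer hKσ
  have h4 : Nat.card E ∣ Nat.card U * Nat.card K := by
    obtain ⟨t, ht⟩ := h3
    have h5 : Nat.card E * t * Nat.card ↥(sigmaCore M) =
        Nat.card U * Nat.card K * Nat.card ↥(sigmaCore M) := by
      calc Nat.card E * t * Nat.card ↥(sigmaCore M)
          = (Nat.card E * Nat.card ↥(sigmaCore M)) * t := by ring
        _ = Nat.card U * (Nat.card ↥(K ⊔ sigmaCore M) * t) := by rw [h2, ← h1]; ring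
        _ = Nat.card U * Nat.card K * Nat.card ↥(sigmaCore M) := by rw [← ht]; ring
    have h6 := Nat.eq_of_mul_eq_mul_right Nat.card_pos h5
    exact ⟨t, h6.symm⟩
  have hpK : ¬ p ∣ Nat.card K := fun h => hpκ (hKU.hall.2.1 p hpp h)
  obtain ⟨n, hn⟩ := IsPGroup.iff_card.mp S.isPGroup'
  have h7 : p ^ n ∣ Nat.card U := by
    have h8 : p ^ n ∣ Nat.card U * Nat.card K := by
      rw [← hn]; exact (Subgroup.card_dvd_of_le hSE).trans h4
    exact (Nat.Coprime.pow_left n
      ((Nat.Prime.coprime_iff_not_dvd hpp).mpr hpK)).dvd_of_dvd_mul_right h8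
  obtain ⟨P, hP⟩ := Sylow.exists_subgroup_card_pow_prime (G := ↥U) p h7
  have hPp : IsPGroup p (P.map U.subtype) := (IsPGroup.of_card hP).map _
  have hPS : P.map U.subtype ≤ (S : Subgroup G) :=
    le_sylow_of_le_normalizer S hPp ((Subgroup.map_subtype_le P).trans (hUE.trans hES))
  have hcard : Nat.card (P.map U.subtype) = Nat.card (S : Subgroup G) := by
    rw [Subgroup.card_map_of_injective U.subtype_injective, hP, hn]
  have heq : P.map U.subtype = (S : Subgroup G) := Subgroup.eq_of_le_of_card_ge hPS hcard.ge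
  rw [← heq]
  exact Subgroup.map_subtype_le P

/-- The abelian case of S1360: if every prime of `τ₂(M)` has abelian Sylow subgroups in `G`, then
`U` has a subgroup of the same exponent acting regularly on `M_σ`. -/
theorem exists_U0_of_abelian [Finite G] (hG : IsMinSimpleOddOrder G) (M : Subgroup G)
    (hM : IsCoatom M) (K U : Subgroup G) (hKU : IsSigmaDecomposition M K U)
    (hab : ∀ (q : ℕ) [Fact q.Prime], q ∈ tau2 M →
      ∃ S : Sylow q G, IsMulCommutative (S : Subgroup G)) :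
    ∃ U₀ : Subgroup G, U₀ ≤ U ∧ Monoid.exponent U₀ = Monoid.exponent U ∧
      ∀ u ∈ U₀, u ≠ 1 → BG8Reg M u := by
  have h16 : BGTwelveFourHyp G := fun M hM p _ A hA => Cfsg.Agent.S1416.result hG M hM p A hA
  have h17 : BG7FiveHyp G := fun M hM p _ hp A hA => Cfsg.Agent.S1417.result hG M hM p hp A hA
  have h18 : BG7SixHyp G := bg7_six_of hG h16 h17
  have h27 : BG8PrimeHyp G := fun M hM E hE p _ S hS1 hSc =>
    Cfsg.Agent.S1427.result hG M hM E hE p S hS1 hSc
  have hUM : U ≤ M := hKU.compl.1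
  obtain ⟨E, hE, hUE⟩ := exists_compl_ge hG M hM U hUM
    (fun p hp hpU => not_mem_sigma_of_dvd_card_U hG M hM K U hKU p hp hpU)
  have hregU : ∀ e ∈ U, e ≠ 1 →
      (∀ q : ℕ, q.Prime → q ∣ orderOf e → q ∈ tau1 M ∪ tau3 M) → BG8Reg M e := by
    intro e heU he1 hq
    obtain ⟨q, hqp, hqd⟩ := Nat.exists_prime_and_dvd (fun h => he1 (orderOf_eq_one_iff.mp h))
    apply reg_of_prime_not_tau2 hG M hM K U hKU e heU q hqp hqd
    intro hq2
    rcases hq q hqp hqd with h | h
    · exact hq2.2.2.2 h.2.2.2.2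
    · exact hq2.2.2.2 h.2.2.2
  have hdata : ∀ p ∈ tau2 M, p.Prime → ∃ S D : Subgroup G, S ≤ U ∧ IsPGroup p S ∧
      U ≤ Subgroup.normalizer (S : Set G) ∧ (∀ x ∈ S, ∀ y ∈ S, x * y = y * x) ∧
      (∀ x ∈ U, ∀ k : ℕ, x ^ p ^ k = 1 → x ∈ S) ∧ D ≤ S ∧ IsCyclic D ∧
      U ≤ Subgroup.normalizer (D : Set G) ∧ (∀ s ∈ S, s ^ Nat.card D = 1) ∧
      ∀ d ∈ D, d ≠ 1 → BG8Reg M d := by
    intro p hp hpp
    have : Fact p.Prime := ⟨hpp⟩
    obtain ⟨S₀, hS₀⟩ := hab p hp
    obtain ⟨A, S, c⟩ := bg8_exists_ctx hG M hM E hE p hp S₀ hS₀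
    obtain ⟨hSE, hNS⟩ := Cfsg.Agent.Lib.helper60.bg8_sylow_normal hG c
    obtain ⟨⟨hEA, -⟩, ⟨hCA, hMN, -⟩, -⟩ := h18 M hM E hE p hp A c.hA
    have hCE : Subgroup.centralizer (A : Set G) ≤ E := hMN ▸ hCA
    have hES : E ≤ Subgroup.normalizer ((S : Subgroup G) : Set G) := hEA.trans hNS
    have hSU : (S : Subgroup G) ≤ U :=
      sylow_le_U M K U hKU E hE hUE p (tau2_not_kappa M p hp) S hSE hES
    obtain ⟨Y, hYA, hYc, hYU⟩ :=
      Cfsg.Agent.Lib.helper70.bg8_exists_invariant_line_sub hG h27 c U hUE hregU hSE hNS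
    have key : ∀ x ∈ Subgroup.centralizer (A : Set G), ∀ z ∈ Y, x * z * x⁻¹ = z := by
      intro x hx z hz
      have := Subgroup.mem_centralizer_iff.mp hx z (hYA hz)
      rw [← this, mul_inv_cancel_right]
    have hYE' : U ⊔ Subgroup.centralizer (A : Set G) ≤ Subgroup.normalizer (Y : Set G) := by
      refine sup_le hYU ?_
      intro x hx
      rw [Subgroup.mem_normalizer_iff]
      intro y
      constructor
      · intro hy
        rw [key x hx y hy]
        exact hy
      · intro hy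
        have h1 := key x⁻¹ (Subgroup.inv_mem _ hx) _ hy
        have h2 : x * y * x⁻¹ = y := by
          rw [← h1]
          group
        rw [← h2]
        exact hy
    obtain ⟨D, hDS, hDc, hDE, hDexp, hDreg⟩ :=
      Cfsg.Agent.Lib.helper60.BG8U.bg8_exists_cyclic_sub hG c
        (U ⊔ Subgroup.centralizer (A : Set G)) le_sup_right (sup_le hUE hCE) hSE hNS Y hYA hYc
        hYE'
    exact ⟨S, D, hSU, S.isPGroup', hUE.trans hES, c.hSab,
      fun x hx k hxk => bg8_mem_sylow hES x (hUE hx) k hxk, hDS, hDc, le_sup_left.trans hDE,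
      hDexp, hDreg⟩
  obtain ⟨-, ⟨U₀, hU₀U, hexp, hreg⟩⟩ :=
    Cfsg.Agent.Lib.helper20.bg8_assemble U (bg8_solvable hG M hM U hUM) (tau2 M) (BG8Reg M)
      (by
        intro e n hr
        unfold BG8Reg at hr ⊢
        rw [eq_bot_iff] at hr ⊢
        refine le_trans (inf_le_inf_left _ ?_) hr
        intro x hx
        rw [Subgroup.mem_centralizer_iff] at hx ⊢
        intro y hy
        rw [Set.mem_singleton_iff] at hy
        subst hy
        have h1 := hx e rfl
        exact ((Commute.pow_left (show Commute e x from h1) n)).eq)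
      (by
        intro e he q hq ho hq2
        exact reg_of_prime_not_tau2 hG M hM K U hKU e he q hq (by rw [ho]) hq2)
      hdata
  exact ⟨U₀, hU₀U, hexp, hreg⟩

end Cfsg.Agent.Lib.helper60.BGU0
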