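import Mathlib

/-! S3806, piece CA (helper60): geometric sum of `(1 + D)^i` in binomial form. -/

set_option autoImplicit false

namespace Cfsg.Agent.Lib.helper12.MC

/-- CA: geometric sum of `(1 + D)^i` in binomial form. -/
theorem sum_pow_eq_choose {R : Type*} [Ring R] (D : R) (n : ℕ) :
    ∑ i ∈ Finset.range n, (1 + D) ^ i = ∑ m ∈ Finset.range n, (n.choose (m + 1)) • D ^ m := by
  induction n with
  | zero => simp
  | succ n ih =>
    rw [Finset.sum_range_succ, ih]
    have hb : (1 + D) ^ n = ∑ m ∈ Finset.range (n + 1), (n.choose m) • D ^ m := by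
      rw [add_comm, (Commute.one_right D).add_pow]
      apply Finset.sum_congr rfl
      intro m _
      rw [one_pow, mul_one, nsmul_eq_mul, (Nat.cast_commute _ _).eq]
    rw [hb]
    have h1 : ∑ m ∈ Finset.range n, (n.choose (m + 1)) • D ^ m =
        ∑ m ∈ Finset.range (n + 1), (n.choose (m + 1)) • D ^ m := by
      rw [Finset.sum_range_succ, Nat.choose_succ_self, zero_nsmul, add_zero]
    rw [h1, ← Finset.sum_add_distrib]
    apply Finset.sum_congr rfl
    intro m _
    rw [Nat.choose_succ_succ, add_nsmul, add_comm]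

end Cfsg.Agent.Lib.helper12.MC
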