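import Mathlib
import Cfsg.Agent.Lib.helper1.Coprime
import Cfsg.Agent.Lib.helper65.MinNormal

/-!
Assembly lemma E for Bender–Glauberman Theorem 3.6 (S1444), requested by helper3.
-/

namespace Cfsg.Agent.Lib.helper60.BG36

open scoped commutatorElement

/-- A finite group with a nontrivial normal subgroup `Hb` has a minimal normal subgroup
inside `Hb`. -/
theorem exists_minimal_normal_le {Q : Type*} [Group Q] [Finite Q] (Hb : Subgroup Q)
    (hHbn : Hb.Normal) (hHb : Hb ≠ ⊥) :
    ∃ Mb : Subgroup Q, Mb.Normal ∧ Mb ≤ Hb ∧ Mb ≠ ⊥ ∧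
      ∀ K : Subgroup Q, K.Normal → K ≤ Mb → K = ⊥ ∨ K = Mb := by
  obtain ⟨Mb, hMb, hmin⟩ :=
    (wellFounded_lt : WellFounded ((· < ·) : Subgroup Q → Subgroup Q → Prop)).has_min
      {N : Subgroup Q | N.Normal ∧ N ≤ Hb ∧ N ≠ ⊥} ⟨Hb, hHbn, le_rfl, hHb⟩
  refine ⟨Mb, hMb.1, hMb.2.1, hMb.2.2, ?_⟩
  intro K hKn hK
  by_cases hK0 : K = ⊥
  · exact Or.inl hK0
  · right
    by_contra hne
    exact hmin K ⟨hKn, hK.trans hMb.2.1, hK0⟩ (lt_of_le_of_ne hK hne)

/-- PIECE E (structure of `H` over `V`). -/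
theorem exists_split {G : Type*} [Group G] [Finite G] [Group.IsSolvable G] {p : ℕ}
    [Fact p.Prime] (H R₀ V : Subgroup G) [H.Normal] [V.Normal] (hVH : V ≤ H) (hVne : V ≠ H)
    (hVc : ∀ a ∈ V, ∀ b ∈ V, a * b = b * a) (hVp : IsPGroup p V)
    (hVmax : ∀ T : Subgroup G, T ≤ H → H ≤ Subgroup.normalizer (T : Set G) → IsPGroup p T →
      T ≤ V)
    (hCV : H ⊓ Subgroup.centralizer (V : Set G) ≤ V)
    (hR₀H : (Nat.card R₀).Coprime (Nat.card H)) :
    ∃ (q : ℕ) (K U : Subgroup G), q.Prime ∧ q ≠ p ∧ U.Normal ∧ V ≤ U ∧ U ≤ H ∧ IsPGroup q K ∧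
      K ≠ ⊥ ∧ V ⊔ K = U ∧ V ⊓ K = ⊥ ∧ R₀ ≤ Subgroup.normalizer (K : Set G) ∧
      V ⊔ (H ⊓ Subgroup.normalizer (K : Set G)) = H ∧
      V ⊓ Subgroup.centralizer (U : Set G) = V ⊓ Subgroup.centralizer (K : Set G) ∧
      ⁅V, U⁆ = ⁅V, K⁆ := by
  have hp : p.Prime := Fact.out
  have hπs : Function.Surjective (QuotientGroup.mk' V) := QuotientGroup.mk'_surjective V
  have hker : (QuotientGroup.mk' V).ker = V := QuotientGroup.ker_mk' V
  have hπ1 : ∀ x : G, QuotientGroup.mk' V x = 1 ↔ x ∈ V := by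
    intro x
    rw [← MonoidHom.mem_ker, hker]
  -- the image of `H` in `G ⧸ V`
  have hHbn : (H.map (QuotientGroup.mk' V)).Normal := Subgroup.Normal.map inferInstance _ hπs
  have hHb : H.map (QuotientGroup.mk' V) ≠ ⊥ := by
    intro h0
    apply hVne
    apply le_antisymm hVH
    intro h hh
    have h1 : QuotientGroup.mk' V h ∈ H.map (QuotientGroup.mk' V) := Subgroup.mem_map_of_mem _ hh
    rw [h0, Subgroup.mem_bot] at h1
    exact (hπ1 h).1 h1
  obtain ⟨Mb, hMbn, hMbH, hMb0, hMbmin⟩ :=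
    exists_minimal_normal_le (H.map (QuotientGroup.mk' V)) hHbn hHb
  obtain ⟨q, hq, -, -, hMbq⟩ :=
    Cfsg.Agent.Lib.helper65.minNormal_solvable_elementary Mb hMbn inferInstance hMb0 hMbmin
  have : Fact q.Prime := ⟨hq⟩
  -- the preimage `U`
  have hUn : (Mb.comap (QuotientGroup.mk' V)).Normal := Subgroup.Normal.comap hMbn _
  have hVU : V ≤ Mb.comap (QuotientGroup.mk' V) := by
    intro v hv
    rw [Subgroup.mem_comap, (hπ1 v).2 hv]
    exact Mb.one_mem
  have hUH : Mb.comap (QuotientGroup.mk' V) ≤ H := by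
    intro u hu
    rw [Subgroup.mem_comap] at hu
    obtain ⟨h, hh, hhu⟩ := Subgroup.mem_map.1 (hMbH hu)
    have h1 : h⁻¹ * u ∈ V := by
      rw [← hπ1, map_mul, map_inv, hhu, inv_mul_cancel]
    have h2 : u = h * (h⁻¹ * u) := by group
    rw [h2]
    exact H.mul_mem hh (hVH h1)
  have hUmap : (Mb.comap (QuotientGroup.mk' V)).map (QuotientGroup.mk' V) = Mb :=
    Subgroup.map_comap_eq_self_of_surjective hπs Mb
  have hVmap : V.map (QuotientGroup.mk' V) = ⊥ := by
    rw [Subgroup.map_eq_bot_iff, hker]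
  have hqp : q ≠ p := by
    intro hqp
    subst hqp
    have hUp : IsPGroup q (Mb.comap (QuotientGroup.mk' V) : Subgroup G) :=
      IsPGroup.comap_of_ker_isPGroup hMbq (QuotientGroup.mk' V) (by rw [hker]; exact hVp)
    have hUV : Mb.comap (QuotientGroup.mk' V) ≤ V := by
      apply hVmax _ hUH _ hUp
      rw [Subgroup.normalizer_eq_top]
      exact le_top
    apply hMb0
    rw [← hUmap, eq_bot_iff, ← hVmap]
    exact Subgroup.map_mono hUV
  -- an `R₀`-invariant Sylow `q`-subgroup of `U`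
  have hR₀U : R₀ ≤ Subgroup.normalizer ((Mb.comap (QuotientGroup.mk' V) : Subgroup G) : Set G) := by
    rw [Subgroup.normalizer_eq_top]
    exact le_top
  have hcopU : (Nat.card R₀).Coprime (Nat.card (Mb.comap (QuotientGroup.mk' V) : Subgroup G)) :=
    Nat.Coprime.coprime_dvd_right (Subgroup.card_dvd_of_le hUH) hR₀H
  obtain ⟨P, hP⟩ := Cfsg.Agent.Lib.helper1.exists_invariant_sylow (p := q) R₀
    (Mb.comap (QuotientGroup.mk' V)) hR₀U hcopU (Or.inr inferInstance)
  have hKU : (P : Subgroup (Mb.comap (QuotientGroup.mk' V))).map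
      (Mb.comap (QuotientGroup.mk' V)).subtype ≤ Mb.comap (QuotientGroup.mk' V) :=
    Subgroup.map_subtype_le _
  have hKq : IsPGroup q ((P : Subgroup (Mb.comap (QuotientGroup.mk' V))).map
      (Mb.comap (QuotientGroup.mk' V)).subtype : Subgroup G) := IsPGroup.map P.2 _
  -- `V ⊔ K = U` by an index computation
  have hVK : V ⊔ (P : Subgroup (Mb.comap (QuotientGroup.mk' V))).map
      (Mb.comap (QuotientGroup.mk' V)).subtype = Mb.comap (QuotientGroup.mk' V) := by
    apply le_antisymm (sup_le hVU hKU)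
    rw [← Subgroup.relIndex_eq_one]
    have h1 : (V ⊔ (P : Subgroup (Mb.comap (QuotientGroup.mk' V))).map
        (Mb.comap (QuotientGroup.mk' V)).subtype).relIndex (Mb.comap (QuotientGroup.mk' V)) ∣
        V.relIndex (Mb.comap (QuotientGroup.mk' V)) :=
      Subgroup.relIndex_dvd_of_le_left _ le_sup_left
    have h2 : (V ⊔ (P : Subgroup (Mb.comap (QuotientGroup.mk' V))).map
        (Mb.comap (QuotientGroup.mk' V)).subtype).relIndex (Mb.comap (QuotientGroup.mk' V)) ∣
        ((P : Subgroup (Mb.comap (QuotientGroup.mk' V))).map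
        (Mb.comap (QuotientGroup.mk' V)).subtype).relIndex (Mb.comap (QuotientGroup.mk' V)) :=
      Subgroup.relIndex_dvd_of_le_left _ le_sup_right
    have h3 : V.relIndex (Mb.comap (QuotientGroup.mk' V)) = Nat.card Mb := by
      have h4 : ((QuotientGroup.mk' V).ker).relIndex (Mb.comap (QuotientGroup.mk' V)) =
          Nat.card Mb := by
        rw [← MonoidHom.comap_bot, Subgroup.relIndex_comap, hUmap, Subgroup.relIndex_bot_left]
      rw [hker] at h4
      exact h4
    obtain ⟨k, hk⟩ := IsPGroup.iff_card.1 hMbq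
    have h5 : ((P : Subgroup (Mb.comap (QuotientGroup.mk' V))).map
        (Mb.comap (QuotientGroup.mk' V)).subtype).relIndex (Mb.comap (QuotientGroup.mk' V)) =
        (P : Subgroup (Mb.comap (QuotientGroup.mk' V))).index := by
      unfold Subgroup.relIndex Subgroup.subgroupOf
      rw [Subgroup.comap_map_eq_self_of_injective (Subgroup.subtype_injective _)]
    have h6 : ¬ q ∣ (P : Subgroup (Mb.comap (QuotientGroup.mk' V))).index := P.not_dvd_index
    rw [h3, hk] at h1
    rw [h5] at h2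
    obtain ⟨j, -, hj⟩ := (Nat.dvd_prime_pow hq).1 h1
    rcases Nat.eq_zero_or_pos j with hj0 | hj0
    · rw [hj, hj0, pow_zero]
    · exfalso
      apply h6
      refine dvd_trans ?_ h2
      rw [hj]
      exact dvd_pow_self q hj0.ne'
  have hVKbot : V ⊓ (P : Subgroup (Mb.comap (QuotientGroup.mk' V))).map
      (Mb.comap (QuotientGroup.mk' V)).subtype = ⊥ :=
    disjoint_iff.1 (IsPGroup.disjoint_of_ne p q (Ne.symm hqp) V _ hVp hKq)
  have hK0 : (P : Subgroup (Mb.comap (QuotientGroup.mk' V))).map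
      (Mb.comap (QuotientGroup.mk' V)).subtype ≠ ⊥ := by
    intro hK0
    rw [hK0, sup_bot_eq] at hVK
    apply hMb0
    rw [← hUmap, ← hVK, hVmap]
  -- membership in `U = V K`
  have hUmem : ∀ u ∈ Mb.comap (QuotientGroup.mk' V), ∃ v ∈ V,
      ∃ k ∈ (P : Subgroup (Mb.comap (QuotientGroup.mk' V))).map
        (Mb.comap (QuotientGroup.mk' V)).subtype, v * k = u := by
    intro u hu
    rw [← hVK] at hu
    exact Subgroup.mem_sup_of_normal_left.1 hu
  refine ⟨q, (P : Subgroup (Mb.comap (QuotientGroup.mk' V))).map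
      (Mb.comap (QuotientGroup.mk' V)).subtype, Mb.comap (QuotientGroup.mk' V), hq, hqp, hUn,
      hVU, hUH, hKq, hK0, hVK, hVKbot, hP, ?_, ?_, ?_⟩
  · -- Frattini argument
    apply le_antisymm (sup_le hVH inf_le_left)
    intro h hh
    have hfr := Sylow.normalizer_sup_eq_top P
    have hmem : h ∈ Subgroup.normalizer
        (((P : Subgroup (Mb.comap (QuotientGroup.mk' V))).map
          (Mb.comap (QuotientGroup.mk' V)).subtype : Subgroup G) : Set G) ⊔
        Mb.comap (QuotientGroup.mk' V) := by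
      rw [hfr]; exact Subgroup.mem_top h
    obtain ⟨n, hn, u, hu, rfl⟩ := Subgroup.mem_sup_of_normal_right.1 hmem
    obtain ⟨v, hv, k, hk, rfl⟩ := hUmem u hu
    have h1 : n * v * n⁻¹ ∈ V := Subgroup.Normal.conj_mem inferInstance v hv n
    have h2 : n * (v * k) = (n * v * n⁻¹) * (n * k) := by group
    have h3 : n * k ∈ Subgroup.normalizer
        (((P : Subgroup (Mb.comap (QuotientGroup.mk' V))).map
          (Mb.comap (QuotientGroup.mk' V)).subtype : Subgroup G) : Set G) :=
      Subgroup.mul_mem _ hn (Subgroup.le_normalizer hk)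
    have h4 : n * k ∈ H := by
      have h5 : n * k = (n * v * n⁻¹)⁻¹ * (n * (v * k)) := by group
      rw [h5]
      exact H.mul_mem (H.inv_mem (hVH h1)) hh
    rw [h2]
    exact Subgroup.mul_mem_sup h1 ⟨h4, h3⟩
  · -- centralizers
    apply le_antisymm
    · exact inf_le_inf_left V (Subgroup.centralizer_le hKU)
    · rintro v ⟨hv, hvK⟩
      refine ⟨hv, Subgroup.mem_centralizer_iff.2 ?_⟩
      intro u hu
      obtain ⟨v', hv', k, hk, rfl⟩ := hUmem u hu
      have h1 : k * v = v * k := (Subgroup.mem_centralizer_iff.1 hvK) k hk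
      have h2 : v' * v = v * v' := hVc v' hv' v hv
      calc v' * k * v = v' * (k * v) := by group
        _ = v' * (v * k) := by rw [h1]
        _ = (v' * v) * k := by group
        _ = (v * v') * k := by rw [h2]
        _ = v * (v' * k) := by group
  · -- commutators
    apply le_antisymm
    · rw [Subgroup.commutator_le]
      intro v hv u hu
      obtain ⟨v', hv', k, hk, rfl⟩ := hUmem u hu
      have h1 : ⁅v, k⁆ ∈ V := by
        rw [commutatorElement_def]
        have h2 : k * v⁻¹ * k⁻¹ ∈ V := Subgroup.Normal.conj_mem inferInstance _ (V.inv_mem hv) k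
        have h3 : v * k * v⁻¹ * k⁻¹ = v * (k * v⁻¹ * k⁻¹) := by group
        rw [h3]
        exact V.mul_mem hv h2
      have h2 : v * v' = v' * v := hVc v hv v' hv'
      have h3 : v' * ⁅v, k⁆ = ⁅v, k⁆ * v' := hVc v' hv' _ h1
      have h4 : ⁅v, v' * k⁆ = ⁅v, k⁆ := by
        have h5 : ⁅v, v' * k⁆ = (v * v') * k * v⁻¹ * k⁻¹ * v'⁻¹ := by
          rw [commutatorElement_def]; group
        have h6 : (v' * v) * k * v⁻¹ * k⁻¹ * v'⁻¹ = (v' * ⁅v, k⁆) * v'⁻¹ := by
          rw [commutatorElement_def]; group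
        rw [h5, h2, h6, h3]
        group
      rw [h4]
      exact Subgroup.commutator_mem_commutator hv hk
    · exact Subgroup.commutator_mono le_rfl hKU

end Cfsg.Agent.Lib.helper60.BG36
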