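import Mathlib
import Cfsg.Agent.S1350
import Cfsg.Agent.S1403
import Cfsg.Agent.S1417
import Cfsg.Agent.S1404
import Cfsg.Agent.S1420
import Cfsg.Agent.S1423
import Cfsg.Agent.S1429
import Cfsg.Agent.S1430
import Cfsg.Agent.Lib.helper27.BGKPrime
import Cfsg.Agent.Lib.helper55.BGTau1
import Cfsg.Agent.Lib.helper60.BG131
import Cfsg.Agent.Lib.helper60.BGTI
import Cfsg.Agent.Lib.helper65.Fitting
import Cfsg.Agent.Lib.helper69.NilpSym

/-!
# Maximal subgroups with `K ≠ 1` and a prime outside `σ(M) ∪ κ(M)`: the fixed point formula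

Let `K ≠ 1` be a Hall `κ(M)`-subgroup of the maximal subgroup `M` and `r` a prime divisor of `|M|`
outside `σ(M) ∪ κ(M)`.  Then there is a nontrivial `K`-invariant elementary abelian `r`-subgroup `A`
of `M` on which `K` acts regularly and with `C_{M_σ}(A) = 1`; the Frobenius–Wielandt fixed point
formula for the Frobenius group `A K` gives `|Z| = |C_Z(K)| ^ |K|` for every `M`-invariant subgroup
`Z` of `M_σ`.
-/

set_option autoImplicit false

namespace Cfsg.Agent.Lib.helper60.BGP2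

open Cfsg Subgroup Cfsg.Agent.Lib.helper8 Cfsg.Agent.Lib.helper27.BGKP

variable {G : Type*} [Group G]

/-- The Frobenius kernel `A`. -/
theorem p2_exists_A [Finite G] (hG : IsMinSimpleOddOrder G) (M : Subgroup G) (hM : IsCoatom M)
    (K : Subgroup G) (hK : IsPiHallOf (kappa M) K M) (hK1 : K ≠ ⊥)
    (r : ℕ) (hr : r.Prime) (hrM : r ∣ Nat.card M) (hrσ : r ∉ sigma M) (hrκ : r ∉ kappa M) :
    ∃ A : Subgroup G, A ≤ M ∧ A ≠ ⊥ ∧ (∀ k ∈ K, ∀ a ∈ A, k * a * k⁻¹ ∈ A) ∧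
      (∀ e ∈ K, e ≠ 1 → ∀ u ∈ A, e * u = u * e → u = 1) ∧
      sigmaCore M ⊓ centralizer (A : Set G) = ⊥ ∧ ∃ n : ℕ, Nat.card A = r ^ n := by
  obtain ⟨hodd, -, -, -⟩ := id hG
  have : Fact r.Prime := ⟨hr⟩
  obtain ⟨hpa, ⟨U, hUc, hUh, hKU, hreg⟩, -⟩ := Cfsg.Agent.S1430.result hG M hM K hK hK1
  -- `r` divides `|U|`
  have hrU : r ∣ Nat.card U := by
    have e := Cfsg.Agent.Lib.helper69.bgk_card_mul_relIndex hUh.1
    rw [← e] at hrM
    rcases (Nat.Prime.dvd_mul hr).mp hrM with h | h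
    · exact h
    · exact absurd h (hUh.2.2 r hr ⟨hr, hrκ, hrσ⟩)
  -- the subgroup `A`
  obtain ⟨A, hA⟩ : ∃ A : Subgroup G, A = omegaSub U hUc r := ⟨_, rfl⟩
  have hAmem : ∀ u : G, u ∈ A ↔ u ∈ U ∧ u ^ r = 1 := fun u => by rw [hA]; exact Iff.rfl
  have hAU : A ≤ U := fun a ha => ((hAmem a).mp ha).1
  have hAM : A ≤ M := hAU.trans hUh.1
  have hA1 : A ≠ ⊥ := by
    obtain ⟨u, hu⟩ := exists_prime_orderOf_dvd_card' r hrU
    intro h
    have hmem : (u : G) ∈ A := by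
      rw [hAmem]
      refine ⟨u.2, ?_⟩
      have h1 := pow_orderOf_eq_one u
      rw [hu] at h1
      have h2 := congrArg Subtype.val h1
      rwa [Subgroup.coe_pow] at h2
    rw [h, Subgroup.mem_bot] at hmem
    have h3 : u = 1 := Subtype.ext hmem
    rw [h3, orderOf_one] at hu
    exact hr.one_lt.ne hu
  have hKA : ∀ k ∈ K, ∀ a ∈ A, k * a * k⁻¹ ∈ A := by
    intro k hk a ha
    rw [hAmem] at ha ⊢
    refine ⟨Subgroup.le_normalizer_iff.mp hKU k hk a ha.1, ?_⟩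
    rw [conj_pow, ha.2, mul_one, mul_inv_cancel]
  have hMσn : ∀ m ∈ M, ∀ y ∈ sigmaCore M, m * y * m⁻¹ ∈ sigmaCore M :=
    Subgroup.le_normalizer_iff.mp (Cfsg.Agent.Lib.helper71.BGA.le_normalizer_sigmaCore M)
  -- `C_{M_σ}(A) = 1`
  have hCA : sigmaCore M ⊓ centralizer (A : Set G) = ⊥ := by
    rw [eq_bot_iff]
    intro y hy
    rw [Subgroup.mem_bot]
    by_contra hy1
    obtain ⟨hyσ, hyc⟩ := Subgroup.mem_inf.mp hy
    by_cases hr1 : PRankLE r 1 M
    · apply hrκ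
      refine ⟨hr, hrM, hrσ, fun P =>
        ⟨bg_sylow_cyclic_of_prank_one hodd (le_refl M) r hr1 P, ?_⟩⟩
      obtain ⟨⟨a, haA'⟩, ha1⟩ := (Subgroup.ne_bot_iff_exists_ne_one.mp hA1)
      have ha1' : a ≠ 1 := fun h => ha1 (Subtype.ext h)
      have haM : a ∈ M := hAM haA'
      have hapow : a ^ r = 1 := ((hAmem a).mp haA').2
      have hzp : IsPGroup r (Subgroup.zpowers (⟨a, haM⟩ : M)) := by
        apply IsPGroup.of_card (n := 1)
        rw [Nat.card_zpowers, pow_one]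
        exact orderOf_eq_prime (Subtype.ext (by rw [Subgroup.coe_pow]; exact hapow))
          (fun h => ha1' (congrArg Subtype.val h))
      obtain ⟨Q, hQ⟩ := hzp.exists_le_sylow
      obtain ⟨g, hg⟩ := MulAction.exists_smul_eq M Q P
      refine ⟨g * ⟨a, haM⟩ * g⁻¹, ?_, ?_, (g : G) * y * (g : G)⁻¹, hMσn g g.2 y hyσ, ?_, ?_⟩
      · rw [← hg, Cfsg.Agent.Lib.helper69.bg1210_mem_smul_sylow]
        have h1 : g⁻¹ * (g * ⟨a, haM⟩ * g⁻¹) * g = ⟨a, haM⟩ := by group
        rw [h1]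
        exact hQ (Subgroup.mem_zpowers _)
      · intro h
        apply ha1'
        have h2 : (⟨a, haM⟩ : M) = g⁻¹ * (g * ⟨a, haM⟩ * g⁻¹) * g := by group
        rw [h] at h2
        have h3 : (⟨a, haM⟩ : M) = 1 := by rw [h2]; group
        exact congrArg Subtype.val h3
      · intro h
        apply hy1
        have h2 : y = (g : G)⁻¹ * ((g : G) * y * (g : G)⁻¹) * (g : G) := by group
        rw [h2, h]; group
      · have hc : a * y = y * a := Subgroup.mem_centralizer_iff.mp hyc a haA'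
        show (g : G) * a * (g : G)⁻¹ * ((g : G) * y * (g : G)⁻¹) =
          (g : G) * y * (g : G)⁻¹ * ((g : G) * a * (g : G)⁻¹)
        calc (g : G) * a * (g : G)⁻¹ * ((g : G) * y * (g : G)⁻¹)
            = (g : G) * (a * y) * (g : G)⁻¹ := by group
          _ = (g : G) * (y * a) * (g : G)⁻¹ := by rw [hc]
          _ = (g : G) * y * (g : G)⁻¹ * ((g : G) * a * (g : G)⁻¹) := by group
    · have hU' : BGUniqHyp G := fun K hK h1 h2 => Cfsg.Agent.S1403.result hG K hK h1 h2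
      have hr2 : PRankLE r 2 M := by
        by_contra h
        exact hrσ (bg_alpha_sub_sigma hG hU' M hM ⟨hr, h⟩)
      obtain ⟨B, hBM, hBe, hBc⟩ := bg_exists_elemAb_sq M r hr2 hr1
      have h17 := (Cfsg.Agent.S1417.result hG M hM r ⟨hr, hrσ, hr2, hr1⟩ B
        ⟨hBM, hBe, hBc⟩).2.2.2.1
      have hBp : IsPGroup r B := IsPGroup.of_card hBc
      obtain ⟨g, hgM, hg⟩ := Cfsg.Agent.Lib.helper69.bgk_conj_into_hall hUh (p := r)
        ⟨hr, hrκ, hrσ⟩ hBM hBp
      have hmem : g⁻¹ * y * g ∈ sigmaCore M ⊓ centralizer (B : Set G) := by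
        refine Subgroup.mem_inf.mpr ⟨?_, ?_⟩
        · have h1 := hMσn g⁻¹ (M.inv_mem hgM) y hyσ
          rwa [inv_inv] at h1
        · rw [Subgroup.mem_centralizer_iff]
          intro b hb
          have hbA : g * b * g⁻¹ ∈ A := by
            rw [hAmem]
            exact ⟨hg b hb, by rw [conj_pow, hBe.2 b hb, mul_one, mul_inv_cancel]⟩
          have hc := Subgroup.mem_centralizer_iff.mp hyc _ hbA
          calc b * (g⁻¹ * y * g) = g⁻¹ * ((g * b * g⁻¹) * y) * g := by group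
            _ = g⁻¹ * (y * (g * b * g⁻¹)) * g := by rw [hc]
            _ = g⁻¹ * y * g * b := by group
      rw [h17, Subgroup.mem_bot] at hmem
      apply hy1
      have h2 : y = g * (g⁻¹ * y * g) * g⁻¹ := by group
      rw [h2, hmem]; group
  have hfpf : ∀ e ∈ K, e ≠ 1 → ∀ u ∈ A, e * u = u * e → u = 1 := by
    intro e he he1 u hu hc
    have h1 : u ∈ U ⊓ centralizer ({e} : Set G) := by
      refine Subgroup.mem_inf.mpr ⟨hAU hu, ?_⟩
      rw [Subgroup.mem_centralizer_iff]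
      intro x hx
      rw [Set.mem_singleton_iff.mp hx]
      exact hc
    rw [hreg e he he1, Subgroup.mem_bot] at h1
    exact h1
  have hAp : IsPGroup r A := by
    intro a
    refine ⟨1, Subtype.ext ?_⟩
    rw [pow_one, Subgroup.coe_pow]
    exact ((hAmem a).mp a.2).2
  exact ⟨A, hAM, hA1, hKA, hfpf, hCA, IsPGroup.iff_card.mp hAp⟩

/-- **The fixed point formula**: `|Z| = |C_Z(K)| ^ |K|` for every `M`-invariant subgroup `Z` of
`M_σ`. -/
theorem p2_formula [Finite G] (hG : IsMinSimpleOddOrder G) (M : Subgroup G) (hM : IsCoatom M)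
    (K : Subgroup G) (hK : IsPiHallOf (kappa M) K M) (hK1 : K ≠ ⊥)
    (r : ℕ) (hr : r.Prime) (hrM : r ∣ Nat.card M) (hrσ : r ∉ sigma M) (hrκ : r ∉ kappa M)
    (Z : Subgroup G) (hZσ : Z ≤ sigmaCore M) (hZn : ∀ m ∈ M, ∀ z ∈ Z, m * z * m⁻¹ ∈ Z) :
    Nat.card Z = Nat.card ↥(Z ⊓ centralizer (K : Set G)) ^ Nat.card K := by
  obtain ⟨A, hAM, hA1, hKA, hfpf, hCA, n, hn⟩ := p2_exists_A hG M hM K hK hK1 r hr hrM hrσ hrκ
  have hsolv : Group.IsSolvable Z :=
    Cfsg.Agent.Lib.helper97.bg8_solvable hG M hM Z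
      (hZσ.trans (Cfsg.Agent.Lib.helper71.BGA.sigmaCore_le M))
  have hcopK : (Nat.card (sigmaCore M)).Coprime (Nat.card K) := by
    apply Nat.coprime_of_dvd
    intro q hq h1 h2
    have hqσ : q ∉ sigma M := (hK.2.1 q hq h2).2.2.1
    exact (Nat.Prime.coprime_iff_not_dvd hq).mp (bg_sigmaCore_card_coprime M hq hqσ).symm h1
  have hAKM : A ⊔ K ≤ M := sup_le hAM hK.1
  have hHn : ∀ x ∈ A ⊔ K, ∀ h ∈ Z, x * h * x⁻¹ ∈ Z := fun x hx h hh => hZn x (hAKM hx) h hh
  have hdisj : A ⊓ K = ⊥ := by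
    rw [eq_bot_iff]
    intro x hx
    rw [Subgroup.mem_bot]
    by_contra hx1
    obtain ⟨hxA, hxK⟩ := Subgroup.mem_inf.mp hx
    exact hx1 (hfpf x hxK hx1 x hxA rfl)
  have hcompl : IsComplIn A K (A ⊔ K) := by
    refine ⟨le_sup_left, le_sup_right, hdisj, fun m hm => ?_⟩
    have hnorm : K ≤ normalizer (A : Set G) := Subgroup.le_normalizer_iff.mpr hKA
    exact Cfsg.Agent.Lib.helper29.exists_mul_of_mem_sup_of_le_normalizer hnorm hm
  have hcard : Nat.card A * Nat.card K = Nat.card ↥(A ⊔ K) :=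
    Cfsg.Agent.Lib.helper29.IsComplIn.card_mul hcompl
  have hcop : Nat.Coprime (Nat.card Z) (Nat.card ↥(A ⊔ K)) := by
    apply Nat.Coprime.coprime_dvd_left (Subgroup.card_dvd_of_le hZσ)
    rw [← hcard, hn]
    apply Nat.Coprime.mul_right
    · exact Nat.Coprime.pow_right n (bg_sigmaCore_card_coprime M hr hrσ)
    · exact hcopK
  have hff := Cfsg.Agent.Lib.helper12.ff_formula A K Z hK1 hKA hfpf hHn hsolv hcop
  have hZA : Z ⊓ centralizer (A : Set G) = ⊥ := by
    rw [eq_bot_iff, ← hCA]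
    exact inf_le_inf_right _ hZσ
  have h1 : Z ⊓ centralizer ((A ⊔ K : Subgroup G) : Set G) = ⊥ := by
    rw [eq_bot_iff, ← hZA]
    exact inf_le_inf_left _ (Subgroup.centralizer_le (by exact_mod_cast (le_sup_left : A ≤ A ⊔ K)))
  rw [h1, hZA, Subgroup.card_bot, one_pow, one_mul, mul_one] at hff
  exact hff

/-- `Ω₁(Z(P))`: the central elements of `P` of order dividing `q`. -/
def omZ (P : Subgroup G) (q : ℕ) : Subgroup G where
  carrier := {z | z ∈ P ∧ (∀ s ∈ P, s * z = z * s) ∧ z ^ q = 1}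
  mul_mem' := by
    rintro a b ⟨ha, hac, haq⟩ ⟨hb, hbc, hbq⟩
    refine ⟨P.mul_mem ha hb, fun s hs => ?_, ?_⟩
    · rw [← mul_assoc, hac s hs, mul_assoc, hbc s hs, mul_assoc]
    · have hc : Commute a b := (hac b hb).symm
      rw [hc.mul_pow, haq, hbq, one_mul]
  one_mem' := ⟨P.one_mem, fun s _ => by rw [mul_one, one_mul], one_pow q⟩
  inv_mem' := by
    rintro a ⟨ha, hac, haq⟩
    refine ⟨P.inv_mem ha, fun s hs => ?_, by rw [inv_pow, haq, inv_one]⟩
    have h := hac s hs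
    calc s * a⁻¹ = a⁻¹ * (a * s) * a⁻¹ := by group
      _ = a⁻¹ * (s * a) * a⁻¹ := by rw [h]
      _ = a⁻¹ * s := by group

theorem mem_omZ {P : Subgroup G} {q : ℕ} {z : G} :
    z ∈ omZ P q ↔ z ∈ P ∧ (∀ s ∈ P, s * z = z * s) ∧ z ^ q = 1 := Iff.rfl

theorem omZ_le (P : Subgroup G) (q : ℕ) : omZ P q ≤ P := fun _ hz => hz.1

theorem omZ_elemAb (P : Subgroup G) (q : ℕ) : IsElementaryAbelian q (omZ P q) := by
  rw [bg_elemAb_iff]
  exact ⟨fun a ha b hb => hb.2.1 a ha.1, fun a ha => ha.2.2⟩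

theorem omZ_conj (P : Subgroup G) (q : ℕ) (m : G) (hm : m ∈ normalizer (P : Set G)) (z : G)
    (hz : z ∈ omZ P q) : m * z * m⁻¹ ∈ omZ P q := by
  have hmN := Subgroup.mem_normalizer_iff.mp hm
  obtain ⟨hzP, hzc, hzq⟩ := hz
  refine ⟨(hmN z).mp hzP, fun s hs => ?_, by rw [conj_pow, hzq, mul_one, mul_inv_cancel]⟩
  have hs' : m⁻¹ * s * m ∈ P := by
    rw [hmN]
    have e : m * (m⁻¹ * s * m) * m⁻¹ = s := by group
    rw [e]; exact hs
  have h := hzc _ hs'
  calc s * (m * z * m⁻¹) = m * ((m⁻¹ * s * m) * z) * m⁻¹ := by group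
    _ = m * (z * (m⁻¹ * s * m)) * m⁻¹ := by rw [h]
    _ = m * z * m⁻¹ * s := by group

theorem omZ_ne_bot [Finite G] (P : Subgroup G) (q : ℕ) [Fact q.Prime] (hP : IsPGroup q P)
    (hP1 : P ≠ ⊥) : omZ P q ≠ ⊥ := by
  have hqp : q.Prime := Fact.out
  have : Nontrivial ↥P := (Subgroup.nontrivial_iff_ne_bot P).mpr hP1
  have hcn := hP.center_nontrivial
  obtain ⟨⟨c, hc⟩, hc1⟩ := exists_ne (1 : Subgroup.center ↥P)
  have hc1' : c ≠ 1 := fun h => hc1 (Subtype.ext h)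
  obtain ⟨k, hk⟩ := (IsPGroup.iff_orderOf.mp hP) c
  have hk0 : k ≠ 0 := by
    intro h
    rw [h, pow_zero, orderOf_eq_one_iff] at hk
    exact hc1' hk
  have hqd : q ∣ orderOf c := by
    rw [hk]; exact dvd_pow_self q hk0
  have hzo : orderOf (c ^ (orderOf c / q)) = q :=
    orderOf_pow_orderOf_div (orderOf_pos c).ne' hqd
  intro hbot
  have hmem : ((c ^ (orderOf c / q) : ↥P) : G) ∈ omZ P q := by
    refine ⟨(c ^ (orderOf c / q)).2, fun s hs => ?_, ?_⟩
    · have h1 : c ^ (orderOf c / q) ∈ Subgroup.center ↥P := Subgroup.pow_mem _ hc _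
      have h2 := Subgroup.mem_center_iff.mp h1 ⟨s, hs⟩
      exact congrArg Subtype.val h2
    · have h1 := pow_orderOf_eq_one (c ^ (orderOf c / q))
      rw [hzo] at h1
      have h2 := congrArg Subtype.val h1
      rwa [Subgroup.coe_pow] at h2
  rw [hbot, Subgroup.mem_bot] at hmem
  have h3 : c ^ (orderOf c / q) = 1 := Subtype.ext hmem
  rw [h3, orderOf_one] at hzo
  exact hqp.one_lt.ne hzo

/-- **Every prime of `σ(M)` is ideal** when `K ≠ 1`, `M_σ` is nilpotent and some prime divisor of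
`|M|` lies outside `σ(M) ∪ κ(M)`: a Sylow `q`-subgroup of `G` has a central elementary abelian
subgroup of order at least `q³`. -/
theorem p2_ideal [Finite G] (hG : IsMinSimpleOddOrder G) (M : Subgroup G) (hM : IsCoatom M)
    (K : Subgroup G) (hK : IsPiHallOf (kappa M) K M) (hK1 : K ≠ ⊥)
    (r : ℕ) (hr : r.Prime) (hrM : r ∣ Nat.card M) (hrσ : r ∉ sigma M) (hrκ : r ∉ kappa M)
    (hnil : Group.IsNilpotent ↥(sigmaCore M)) (q : ℕ) (hq : q ∈ sigma M) :
    IsIdealPrime q G := by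
  have hqp := hq.1
  have : Fact q.Prime := ⟨hqp⟩
  obtain ⟨hodd, -, -, -⟩ := id hG
  have hU : BGUniqHyp G := fun K hK h1 h2 => Cfsg.Agent.S1403.result hG K hK h1 h2
  have hF : BGFusHyp G := by
    intro M hM p hp X hXp hX1 hXM g hg
    have : Fact p.Prime := ⟨hp.1⟩
    exact (Cfsg.Agent.S1404.result hG M hM p hp X hXp hX1 hXM).1 g hg
  obtain ⟨hH1, hH2, -⟩ := Cfsg.Agent.S1350.result hG M hM
  have hσM : sigmaCore M ≤ M := Cfsg.Agent.Lib.helper71.BGA.sigmaCore_le M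
  have hMσn : ∀ m ∈ M, ∀ y ∈ sigmaCore M, m * y * m⁻¹ ∈ sigmaCore M :=
    Subgroup.le_normalizer_iff.mp (Cfsg.Agent.Lib.helper71.BGA.le_normalizer_sigmaCore M)
  -- the Sylow `q`-subgroup of `M_σ`
  obtain ⟨Q⟩ : Nonempty (Sylow q ↥(sigmaCore M)) := inferInstance
  have hQn : (Q : Subgroup ↥(sigmaCore M)).Normal := by
    have := hnil
    infer_instance
  obtain ⟨S, hS⟩ : ∃ S : Subgroup G, S = (Q : Subgroup ↥(sigmaCore M)).map (sigmaCore M).subtype :=
    ⟨_, rfl⟩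
  have hSσ : S ≤ sigmaCore M := by rw [hS]; exact Subgroup.map_subtype_le _
  have hSp : IsPGroup q S := by rw [hS]; exact Q.isPGroup'.map _
  -- all `q`-elements of `M` lie in `S`
  have hmemS : ∀ x ∈ M, (∃ k : ℕ, x ^ q ^ k = 1) → x ∈ S := by
    intro x hxM ⟨k, hk⟩
    have hzp : IsPGroup q (Subgroup.zpowers x) := by
      rw [IsPGroup.iff_card, Nat.card_zpowers]
      exact (Nat.dvd_prime_pow hqp).mp (orderOf_dvd_of_pow_eq_one hk) |>.imp fun j hj => hj.2
    have hxσ : x ∈ sigmaCore M :=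
      bg_pgroup_le_sigmaCore hG hU hF M hM hq _ (by rw [Subgroup.zpowers_le]; exact hxM) hzp
        (Subgroup.mem_zpowers x)
    have hzp' : IsPGroup q (Subgroup.zpowers (⟨x, hxσ⟩ : ↥(sigmaCore M))) := by
      rw [IsPGroup.iff_card, Nat.card_zpowers]
      have ho : orderOf (⟨x, hxσ⟩ : ↥(sigmaCore M)) = orderOf x := Subgroup.orderOf_mk x hxσ
      rw [ho]
      exact (Nat.dvd_prime_pow hqp).mp (orderOf_dvd_of_pow_eq_one hk) |>.imp fun j hj => hj.2
    have h1 := bg_le_of_not_dvd_index (Q : Subgroup ↥(sigmaCore M)) Q.not_dvd_index _ hzp'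
    rw [hS]
    exact ⟨⟨x, hxσ⟩, h1 (Subgroup.mem_zpowers _), rfl⟩
  have hSnorm : ∀ m ∈ M, m ∈ normalizer (S : Set G) := by
    intro m hm
    rw [Subgroup.mem_normalizer_iff]
    intro s
    constructor
    · intro hs
      obtain ⟨k, hk⟩ := (IsPGroup.iff_orderOf.mp hSp) ⟨s, hs⟩
      refine hmemS _ (M.mul_mem (M.mul_mem hm (hσM (hSσ hs))) (M.inv_mem hm)) ⟨k, ?_⟩
      rw [conj_pow]
      have h1 : s ^ q ^ k = 1 := by
        have h2 := pow_orderOf_eq_one (⟨s, hs⟩ : ↥S)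
        rw [hk] at h2
        exact congrArg Subtype.val h2
      rw [h1, mul_one, mul_inv_cancel]
    · intro hs
      obtain ⟨k, hk⟩ := (IsPGroup.iff_orderOf.mp hSp) ⟨_, hs⟩
      have h1 : (m * s * m⁻¹) ^ q ^ k = 1 := by
        have h2 := pow_orderOf_eq_one (⟨_, hs⟩ : ↥S)
        rw [hk] at h2
        exact congrArg Subtype.val h2
      have h3 : s = m⁻¹ * (m * s * m⁻¹) * m := by group
      have hsM : s ∈ M := by
        rw [h3]
        exact M.mul_mem (M.mul_mem (M.inv_mem hm) (hσM (hSσ hs))) hm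
      refine hmemS s hsM ⟨k, ?_⟩
      rw [conj_pow] at h1
      have h4 : s ^ q ^ k = m⁻¹ * (m * s ^ q ^ k * m⁻¹) * m := by group
      rw [h4, h1]; group
  -- `S ≠ 1`
  have hqσ : q ∣ Nat.card ↥(sigmaCore M) := by
    have h1 : Nat.card ↥(sigmaCore M) * (sigmaCore M).relIndex M = Nat.card M :=
      Cfsg.Agent.Lib.helper69.bgk_card_mul_relIndex hσM
    have h2 := hq.2.1
    rw [← h1] at h2
    rcases (Nat.Prime.dvd_mul hqp).mp h2 with h | h
    · exact h
    · exact absurd h (hH1.2.2 q hqp hq)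
  have hS1 : S ≠ ⊥ := by
    intro h
    obtain ⟨x, hx⟩ := exists_prime_orderOf_dvd_card' q hqσ
    have hxS : (x : G) ∈ S := by
      refine hmemS _ (hσM x.2) ⟨1, ?_⟩
      rw [pow_one]
      have h1 := pow_orderOf_eq_one x
      rw [hx] at h1
      have h2 := congrArg Subtype.val h1
      rwa [Subgroup.coe_pow] at h2
    rw [h, Subgroup.mem_bot] at hxS
    have h3 : x = 1 := Subtype.ext hxS
    rw [h3, orderOf_one] at hx
    exact hqp.one_lt.ne hx
  -- `Z = Ω₁(Z(S))`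
  have hZ1 : omZ S q ≠ ⊥ := omZ_ne_bot S q hSp hS1
  have hZσ : omZ S q ≤ sigmaCore M := (omZ_le S q).trans hSσ
  have hform := p2_formula hG M hM K hK hK1 r hr hrM hrσ hrκ (omZ S q) hZσ
    (fun m hm z hz => omZ_conj S q m (hSnorm m hm) z hz)
  have hZp : IsPGroup q (omZ S q) := hSp.to_le (omZ_le S q)
  have hCp : IsPGroup q ↥(omZ S q ⊓ centralizer (K : Set G)) := hZp.to_le inf_le_left
  obtain ⟨j, hj⟩ := IsPGroup.iff_card.mp hCp
  have hj0 : j ≠ 0 := by
    intro h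
    rw [h, pow_zero] at hj
    rw [hj, one_pow] at hform
    exact hZ1 (Subgroup.eq_bot_of_card_eq _ hform)
  have hK3 : 3 ≤ Nat.card K := by
    have h0 : 0 < Nat.card K := Nat.card_pos
    have h1 : Nat.card K ≠ 1 := fun h => hK1 (Subgroup.eq_bot_of_card_eq K h)
    have h2 : Odd (Nat.card K) := Odd.of_dvd_nat hodd (Subgroup.card_subgroup_dvd_card K)
    rcases h2 with ⟨t, ht⟩
    omega
  have hcard : q ^ 2 < Nat.card (omZ S q) := by
    rw [hform, hj, ← pow_mul]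
    apply Nat.pow_lt_pow_right hqp.one_lt
    have : 1 * 3 ≤ j * Nat.card K := Nat.mul_le_mul (Nat.one_le_iff_ne_zero.mpr hj0) hK3
    omega
  have hZe := omZ_elemAb S q
  have hrG : ¬ PRankLE q 2 G := by
    intro h
    exact absurd (h (omZ S q) hZe.1 hZe.2) (not_le.mpr hcard)
  -- `S` is a Sylow `q`-subgroup of `G`
  have hSidx : ¬ q ∣ S.index := by
    rw [hS, Subgroup.index_map_subtype]
    exact Nat.Prime.not_dvd_mul hqp Q.not_dvd_index (hH2.2 q hqp hq)
  let S' : Sylow q G := ⟨S, hSp, fun {R} hR hSR => le_antisymm (bg_pgroup_max_of_not_dvd hSR hR hSidx) hSR⟩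
  by_contra hni
  obtain ⟨E, hEe, hE2, hEmax⟩ := Cfsg.Agent.Lib.helper60.BG131.exists_max_elemAb_of_not_ideal q hni hrG S'
  have hZe' : IsElementaryAbelian q ((omZ S q).subgroupOf (S' : Subgroup G)) :=
    bg_elemAb_subgroupOf _ hZe
  have hB : IsElementaryAbelian q (E ⊔ (omZ S q).subgroupOf (S' : Subgroup G)) := by
    apply bg_elemAb_sup E _ hEe hZe'
    intro x _ y hy
    have hy' : (y : G) ∈ omZ S q := Subgroup.mem_subgroupOf.mp hy
    exact Subtype.ext (hy'.2.1 x x.2)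
  have hBE := hEmax _ hB le_sup_left
  have hle : (omZ S q).subgroupOf (S' : Subgroup G) ≤ E := by
    rw [← hBE]; exact le_sup_right
  have hc1 : Nat.card ((omZ S q).subgroupOf (S' : Subgroup G)) = Nat.card (omZ S q) :=
    Nat.card_congr (Subgroup.subgroupOfEquivOfLe (omZ_le S q)).toEquiv
  have hc2 := Subgroup.card_le_of_le hle
  rw [hc1, hE2] at hc2
  omega

/-- `M_σ` is nilpotent as soon as some prime divisor of `|M|` lies outside `σ(M) ∪ κ(M)`
(statement S1429). -/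
theorem p2_nilpotent [Finite G] (hG : IsMinSimpleOddOrder G) (M : Subgroup G) (hM : IsCoatom M)
    (r : ℕ) (hr : r.Prime) (hrM : r ∣ Nat.card M) (hrσ : r ∉ sigma M) (hrκ : r ∉ kappa M) :
    Group.IsNilpotent ↥(sigmaCore M) := by
  have : Fact r.Prime := ⟨hr⟩
  obtain ⟨S⟩ : Nonempty (Sylow r M) := inferInstance
  exact (Cfsg.Agent.S1429.result hG M hM (fun h => hrκ (h r hr hrM hrσ)) r hrM
    (fun h => h.elim hrσ hrκ) S).2.2

/-- `M_σ ≤ F(M)` when `M_σ` is nilpotent. -/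
theorem sigmaCore_le_fittingOf [Finite G] (M : Subgroup G)
    (hnil : Group.IsNilpotent ↥(sigmaCore M)) : sigmaCore M ≤ fittingOf M := by
  have hnil' : Group.IsNilpotent ↥(piCore (sigma M) ↥M) :=
    bg_isNilpotent_of_injective
      ((piCore (sigma M) ↥M).equivMapOfInjective M.subtype M.subtype_injective).toMonoidHom
      ((piCore (sigma M) ↥M).equivMapOfInjective M.subtype M.subtype_injective).injective hnil
  have hle : piCore (sigma M) ↥M ≤ Cfsg.fittingSubgroup ↥M :=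
    le_sSup ⟨inferInstance, hnil'⟩
  exact Subgroup.map_mono hle

/-- **Uniqueness for the elements of prime order of `F(M)`.** -/
theorem p2_uniq [Finite G] (hG : IsMinSimpleOddOrder G) (M : Subgroup G) (hM : IsCoatom M)
    (K : Subgroup G) (hK : IsPiHallOf (kappa M) K M) (hK1 : K ≠ ⊥)
    (r : ℕ) (hr : r.Prime) (hrM : r ∣ Nat.card M) (hrσ : r ∉ sigma M) (hrκ : r ∉ kappa M)
    (b : G) (hb : b ∈ fittingOf M) (q : ℕ) (hq : q.Prime) (hbo : orderOf b = q) :
    centralizer ({b} : Set G) ≤ M ∧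
      ∀ L : Subgroup G, IsCoatom L → centralizer ({b} : Set G) ≤ L → L = M := by
  have : Fact q.Prime := ⟨hq⟩
  obtain ⟨hodd, -, -, -⟩ := id hG
  have hU : BGUniqHyp G := fun K hK h1 h2 => Cfsg.Agent.S1403.result hG K hK h1 h2
  have hnil := p2_nilpotent hG M hM r hr hrM hrσ hrκ
  have hσM : sigmaCore M ≤ M := Cfsg.Agent.Lib.helper71.BGA.sigmaCore_le M
  have hMσn : ∀ m ∈ M, ∀ y ∈ sigmaCore M, m * y * m⁻¹ ∈ sigmaCore M :=
    Subgroup.le_normalizer_iff.mp (Cfsg.Agent.Lib.helper71.BGA.le_normalizer_sigmaCore M)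
  obtain ⟨b', hb'F, hb'⟩ := hb
  have hbM : b ∈ M := by rw [← hb']; exact b'.2
  have hb1 : b ≠ 1 := by
    intro h
    rw [h, orderOf_one] at hbo
    exact hq.one_lt.ne hbo
  by_cases hqσ : q ∈ sigma M
  · have hβ : q ∈ beta M := Cfsg.Agent.Lib.helper55.BGJ.mem_beta_of_ideal_of_sigma
      (p2_ideal hG M hM K hK hK1 r hr hrM hrσ hrκ hnil q hqσ) hqσ
    obtain ⟨P⟩ : Nonempty (Sylow q ↥(sigmaCore M)) := inferInstance
    have h := (Cfsg.Agent.S1423.result hG M hM q hqσ (Subgroup.zpowers b)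
      (by rw [Subgroup.zpowers_le]; exact hbM) (by rw [Nat.card_zpowers, hbo]) P (Or.inl hβ)).1
    rwa [Cfsg.Agent.Lib.helper71.BGA.centralizer_zpowers] at h
  · -- `b` centralizes `M_σ`
    have hcomm : ∀ y ∈ sigmaCore M, b * y = y * b := by
      intro y hy
      have hnF : Group.IsNilpotent ↥(Cfsg.fittingSubgroup ↥M) :=
        Cfsg.Agent.Lib.helper65.fittingSubgroup_isNilpotent
      obtain ⟨y', hy'F, hy'⟩ := sigmaCore_le_fittingOf M hnil hy
      have ho1 : orderOf (⟨b', hb'F⟩ : ↥(Cfsg.fittingSubgroup ↥M)) = q := by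
        rw [Subgroup.orderOf_mk, ← Subgroup.orderOf_coe]
        rw [show ((b' : ↥M) : G) = b from hb']
        exact hbo
      have ho2 : orderOf (⟨y', hy'F⟩ : ↥(Cfsg.fittingSubgroup ↥M)) ∣ Nat.card ↥(sigmaCore M) := by
        rw [Subgroup.orderOf_mk, ← Subgroup.orderOf_coe]
        rw [show ((y' : ↥M) : G) = y from hy']
        exact Subgroup.orderOf_dvd_natCard _ hy
      have hcop : (orderOf (⟨b', hb'F⟩ : ↥(Cfsg.fittingSubgroup ↥M))).Coprime
          (orderOf (⟨y', hy'F⟩ : ↥(Cfsg.fittingSubgroup ↥M))) := by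
        rw [ho1]
        exact Nat.Coprime.coprime_dvd_right ho2 (bg_sigmaCore_card_coprime M hq hqσ).symm
      have hc := Cfsg.Agent.Lib.helper69.commute_of_coprime_orderOf _ _ _ hcop
      have h1 : (⟨b', hb'F⟩ : ↥(Cfsg.fittingSubgroup ↥M)) * ⟨y', hy'F⟩ = ⟨y', hy'F⟩ * ⟨b', hb'F⟩ :=
        hc.eq
      have h2 : b' * y' = y' * b' := congrArg Subtype.val h1
      have h3 : ((b' * y' : ↥M) : G) = ((y' * b' : ↥M) : G) := congrArg Subtype.val h2
      rw [Subgroup.coe_mul, Subgroup.coe_mul] at h3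
      rw [show ((b' : ↥M) : G) = b from hb', show ((y' : ↥M) : G) = y from hy'] at h3
      exact h3
    -- `M_σ ≠ 1`
    have hKcard1 : Nat.card K ≠ 1 := fun h => hK1 (Subgroup.eq_bot_of_card_eq K h)
    obtain ⟨q', hq', hq'K⟩ := Nat.exists_prime_and_dvd hKcard1
    have hσ1 : sigmaCore M ≠ ⊥ := sigmaCore_ne_bot_of_kappa M (hK.2.1 q' hq' hq'K)
    obtain ⟨⟨y0, hy0⟩, hy01⟩ := Subgroup.ne_bot_iff_exists_ne_one.mp hσ1
    have hy01' : y0 ≠ 1 := fun h => hy01 (Subtype.ext h)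
    have hqM : q ∣ Nat.card M := by
      rw [← hbo]; exact Subgroup.orderOf_dvd_natCard _ hbM
    have hzp : IsPGroup q (Subgroup.zpowers b) := by
      apply IsPGroup.of_card (n := 1)
      rw [Nat.card_zpowers, pow_one, hbo]
    -- `q ∉ κ(M)`
    have hqκ : q ∉ kappa M := by
      intro hqκ
      obtain ⟨g, hgM, hg⟩ := Cfsg.Agent.Lib.helper69.bgk_conj_into_hall hK (p := q) hqκ
        (show Subgroup.zpowers b ≤ M by rw [Subgroup.zpowers_le]; exact hbM) hzp
      have hkK : g * b * g⁻¹ ∈ K := hg b (Subgroup.mem_zpowers b)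
      have hk1 : g * b * g⁻¹ ≠ 1 := by
        intro h
        apply hb1
        have h2 : b = g⁻¹ * (g * b * g⁻¹) * g := by group
        rw [h2, h]; group
      have hpa := (Cfsg.Agent.S1430.result hG M hM K hK hK1).1 _ hkK hk1
      have hle : sigmaCore M ≤ sigmaCore M ⊓ centralizer (K : Set G) := by
        rw [← hpa]
        intro y hy
        refine Subgroup.mem_inf.mpr ⟨hy, ?_⟩
        rw [Subgroup.mem_centralizer_iff]
        intro w hw
        rw [Set.mem_singleton_iff.mp hw]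
        have h1 := hMσn g⁻¹ (M.inv_mem hgM) y hy
        rw [inv_inv] at h1
        have h2 := hcomm _ h1
        calc g * b * g⁻¹ * y = g * (b * (g⁻¹ * y * g)) * g⁻¹ := by group
          _ = g * ((g⁻¹ * y * g) * b) * g⁻¹ := by rw [h2]
          _ = y * (g * b * g⁻¹) := by group
      have heq : sigmaCore M ⊓ centralizer (K : Set G) = sigmaCore M :=
        le_antisymm inf_le_left hle
      have hform := p2_formula hG M hM K hK hK1 r hr hrM hrσ hrκ (sigmaCore M) le_rfl hMσn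
      rw [heq] at hform
      have hn2 : 2 ≤ Nat.card ↥(sigmaCore M) := by
        have h0 : 0 < Nat.card ↥(sigmaCore M) := Nat.card_pos
        have h1 : Nat.card ↥(sigmaCore M) ≠ 1 := fun h => hσ1 (Subgroup.eq_bot_of_card_eq _ h)
        omega
      have hk2 : 2 ≤ Nat.card K := by
        have h0 : 0 < Nat.card K := Nat.card_pos
        omega
      have hlt : Nat.card ↥(sigmaCore M) ^ 1 < Nat.card ↥(sigmaCore M) ^ Nat.card K :=
        Nat.pow_lt_pow_right hn2 hk2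
      rw [pow_one] at hlt
      omega
    -- `q ∈ τ₂(M)`
    have hr1 : ¬ PRankLE q 1 M := by
      intro hr1
      apply hqκ
      refine ⟨hq, hqM, hqσ, fun P =>
        ⟨bg_sylow_cyclic_of_prank_one hodd (le_refl M) q hr1 P, ?_⟩⟩
      have hzp' : IsPGroup q (Subgroup.zpowers (⟨b, hbM⟩ : M)) := by
        apply IsPGroup.of_card (n := 1)
        rw [Nat.card_zpowers, pow_one, Subgroup.orderOf_mk, hbo]
      obtain ⟨Q, hQ⟩ := hzp'.exists_le_sylow
      obtain ⟨g, hg⟩ := MulAction.exists_smul_eq M Q P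
      refine ⟨g * ⟨b, hbM⟩ * g⁻¹, ?_, ?_, (g : G) * y0 * (g : G)⁻¹, hMσn g g.2 y0 hy0, ?_, ?_⟩
      · rw [← hg, Cfsg.Agent.Lib.helper69.bg1210_mem_smul_sylow]
        have h1 : g⁻¹ * (g * ⟨b, hbM⟩ * g⁻¹) * g = ⟨b, hbM⟩ := by group
        rw [h1]
        exact hQ (Subgroup.mem_zpowers _)
      · intro h
        apply hb1
        have h2 : (⟨b, hbM⟩ : M) = g⁻¹ * (g * ⟨b, hbM⟩ * g⁻¹) * g := by group
        rw [h] at h2
        have h3 : (⟨b, hbM⟩ : M) = 1 := by rw [h2]; group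
        exact congrArg Subtype.val h3
      · intro h
        apply hy01'
        have h2 : y0 = (g : G)⁻¹ * ((g : G) * y0 * (g : G)⁻¹) * (g : G) := by group
        rw [h2, h]; group
      · have hc : b * y0 = y0 * b := hcomm y0 hy0
        show (g : G) * b * (g : G)⁻¹ * ((g : G) * y0 * (g : G)⁻¹) =
          (g : G) * y0 * (g : G)⁻¹ * ((g : G) * b * (g : G)⁻¹)
        calc (g : G) * b * (g : G)⁻¹ * ((g : G) * y0 * (g : G)⁻¹)
            = (g : G) * (b * y0) * (g : G)⁻¹ := by group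
          _ = (g : G) * (y0 * b) * (g : G)⁻¹ := by rw [hc]
          _ = (g : G) * y0 * (g : G)⁻¹ * ((g : G) * b * (g : G)⁻¹) := by group
    have hr2 : PRankLE q 2 M := by
      by_contra h
      exact hqσ (bg_alpha_sub_sigma hG hU M hM ⟨hq, h⟩)
    have hτ2 : q ∈ tau2 M := ⟨hq, hqσ, hr2, hr1⟩
    obtain ⟨E, hE⟩ := Cfsg.Agent.Lib.helper60.BGSylU.exists_compl_sigmaCore hG M hM
    exact (Cfsg.Agent.S1420.result hG M hM E hE).2.2.2 b hbM hb1
      (fun p hp hpd => by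
        rw [hbo] at hpd
        rw [(Nat.prime_dvd_prime_iff_eq hp hq).mp hpd]
        exact hτ2)
      ⟨hbM, y0, hy0, hy01', hcomm y0 hy0⟩

/-- **`F(M)` is a TI-subset** when `K ≠ 1` and some prime divisor of `|M|` lies outside
`σ(M) ∪ κ(M)`. -/
theorem p2_fitting_TI [Finite G] (hG : IsMinSimpleOddOrder G) (M : Subgroup G) (hM : IsCoatom M)
    (K : Subgroup G) (hK : IsPiHallOf (kappa M) K M) (hK1 : K ≠ ⊥)
    (r : ℕ) (hr : r.Prime) (hrM : r ∣ Nat.card M) (hrσ : r ∉ sigma M) (hrκ : r ∉ kappa M) :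
    IsTISubset (fittingOf M : Set G) := by
  intro g hg a ha hga
  by_contra ha1
  apply hg
  obtain ⟨-, hsimple, -, -⟩ := id hG
  have := hsimple
  have hFM : fittingOf M ≤ M := Subgroup.map_subtype_le _
  have hgM : g ∈ M := by
    have hord : orderOf a ≠ 1 := fun h => ha1 (orderOf_eq_one_iff.mp h)
    obtain ⟨q, hq, hqd⟩ := Nat.exists_prime_and_dvd hord
    have hbo : orderOf (a ^ (orderOf a / q)) = q :=
      orderOf_pow_orderOf_div (orderOf_pos a).ne' hqd
    have h1 := p2_uniq hG M hM K hK hK1 r hr hrM hrσ hrκ (a ^ (orderOf a / q))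
      (Subgroup.pow_mem _ ha _) q hq hbo
    have ho : orderOf (g * a * g⁻¹) = orderOf a :=
      orderOf_injective (MulAut.conj g).toMonoidHom (MulAut.conj g).injective a
    have hbo2 : orderOf ((g * a * g⁻¹) ^ (orderOf a / q)) = q := by
      rw [← ho]
      exact orderOf_pow_orderOf_div (orderOf_pos _).ne' (by rw [ho]; exact hqd)
    have h2 := p2_uniq hG M hM K hK hK1 r hr hrM hrσ hrκ ((g * a * g⁻¹) ^ (orderOf a / q))
      (Subgroup.pow_mem _ hga _) q hq hbo2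
    rw [conj_pow] at h2
    have hM' : IsCoatom (M.map (MulAut.conj g⁻¹).toMonoidHom) :=
      Cfsg.Agent.Lib.helper71.BGA.isCoatom_map_conj hM g⁻¹
    have hle : Subgroup.centralizer ({a ^ (orderOf a / q)} : Set G) ≤
        M.map (MulAut.conj g⁻¹).toMonoidHom := by
      intro w hw
      refine ⟨g * w * g⁻¹,
        h2.1 (Cfsg.Agent.Lib.helper60.BGTI.conj_mem_centralizer_singleton g _ w hw), ?_⟩
      show g⁻¹ * (g * w * g⁻¹) * g⁻¹⁻¹ = w
      group
    have hMM := h1.2 _ hM' hle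
    have hbot : M ≠ ⊥ := by
      intro h
      have h3 : a = 1 := by
        have := hFM ha
        rw [h, Subgroup.mem_bot] at this
        exact this
      exact ha1 h3
    have hN := Cfsg.Agent.Lib.helper71.BGA.normalizer_eq_of_isCoatom hM hbot
    have hginv : g⁻¹ ∈ Subgroup.normalizer (M : Set G) :=
      Cfsg.Agent.Lib.helper60.BGTau2Ab.mem_normalizer_of_map_conj_eq hMM
    rw [hN] at hginv
    have := M.inv_mem hginv
    rwa [inv_inv] at this
  -- `M` normalizes `F(M)`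
  have hnorm : ∀ m ∈ M, ∀ n ∈ fittingOf M, m * n * m⁻¹ ∈ fittingOf M := by
    rintro m hm _ ⟨n', hn'F, rfl⟩
    have hN : (Cfsg.fittingSubgroup ↥M).Normal := inferInstance
    exact ⟨⟨m, hm⟩ * n' * ⟨m, hm⟩⁻¹, hN.conj_mem n' hn'F ⟨m, hm⟩, rfl⟩
  rw [Subgroup.mem_set_normalizer_iff]
  intro n
  constructor
  · intro hn
    exact hnorm g hgM n hn
  · intro hn
    have h := hnorm g⁻¹ (M.inv_mem hgM) _ hn
    have e : g⁻¹ * (g * n * g⁻¹) * g⁻¹⁻¹ = n := by group
    rwa [e] at h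

/-- A nontrivial `U` in a standard factorisation provides a prime divisor of `|M|` outside
`σ(M) ∪ κ(M)`. -/
theorem exists_prime_of_U [Finite G] (hG : IsMinSimpleOddOrder G) (M : Subgroup G)
    (hM : IsCoatom M) (K U : Subgroup G) (hKU : IsSigmaDecomposition M K U) (hU1 : U ≠ ⊥) :
    ∃ r : ℕ, r.Prime ∧ r ∣ Nat.card M ∧ r ∉ sigma M ∧ r ∉ kappa M := by
  have hK := hKU.hall
  have hC := hKU.compl
  have hHall : IsPiHallOf (sigma M) (sigmaCore M) M := (Cfsg.Agent.S1350.result hG M hM).1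
  have hUcard1 : Nat.card U ≠ 1 := fun h => hU1 (Subgroup.eq_bot_of_card_eq U h)
  obtain ⟨r, hr, hrU⟩ := Nat.exists_prime_and_dvd hUcard1
  have eK : K.relIndex (K ⊔ sigmaCore M) * (K ⊔ sigmaCore M).relIndex M = K.relIndex M :=
    Subgroup.relIndex_mul_relIndex K (K ⊔ sigmaCore M) M le_sup_left hC.2.1
  have eS : (sigmaCore M).relIndex (K ⊔ sigmaCore M) * (K ⊔ sigmaCore M).relIndex M =
      (sigmaCore M).relIndex M :=
    Subgroup.relIndex_mul_relIndex (sigmaCore M) (K ⊔ sigmaCore M) M le_sup_right hC.2.1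
  have eD : Nat.card U = (K ⊔ sigmaCore M).relIndex M :=
    Cfsg.Agent.Lib.helper29.IsComplIn.card_left hC
  refine ⟨r, hr, hrU.trans (Subgroup.card_dvd_of_le hC.1), fun hps => ?_, fun hpk => ?_⟩
  · exact hHall.2.2 r hr hps (by rw [← eS, ← eD]; exact Dvd.dvd.mul_left hrU _)
  · exact hK.2.2 r hr hpk (by rw [← eK, ← eD]; exact Dvd.dvd.mul_left hrU _)

/-- **Statement S1372** (B-G Theorem 14.2(g)): for `M = K U M_σ` with `K ≠ 1` and `U ≠ 1`, the
order of `K` is prime, `F(M)` is a TI-subset of `G` and `M_σ ≤ F(M)`. -/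
theorem p2_main [Finite G] (hG : IsMinSimpleOddOrder G) (M : Subgroup G) (hM : IsCoatom M)
    (K U : Subgroup G) (hKU : IsSigmaDecomposition M K U) (hK1 : K ≠ ⊥) (hU1 : U ≠ ⊥) :
    (Nat.card K).Prime ∧ IsTISubset (fittingOf M : Set G) ∧ sigmaCore M ≤ fittingOf M := by
  obtain ⟨r, hr, hrM, hrσ, hrκ⟩ := exists_prime_of_U hG M hM K U hKU hU1
  exact ⟨kappa_card_prime_of_prime hG
      (fun M hM K hK hK1 => Cfsg.Agent.S1430.result hG M hM K hK hK1) M hM K hKU.hall hK1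
      r hr hrM hrσ hrκ,
    p2_fitting_TI hG M hM K hKU.hall hK1 r hr hrM hrσ hrκ,
    sigmaCore_le_fittingOf M (p2_nilpotent hG M hM r hr hrM hrσ hrκ)⟩

/-- In a maximal subgroup `M = K U M_σ` with `K ≠ 1` and `U ≠ 1`: `M_σ` is nilpotent, every prime
of `σ(M)` lies in `β(M)`, and `M` is the only maximal subgroup containing `C_G(x)` for every
element `x` of prime order of `F(M)`. -/
theorem p2_facts [Finite G] (hG : IsMinSimpleOddOrder G) (M : Subgroup G) (hM : IsCoatom M)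
    (K U : Subgroup G) (hKU : IsSigmaDecomposition M K U) (hK1 : K ≠ ⊥) (hU1 : U ≠ ⊥) :
    Group.IsNilpotent ↥(sigmaCore M) ∧ (∀ q ∈ sigma M, q ∈ beta M) ∧
      ∀ b ∈ fittingOf M, (orderOf b).Prime →
        centralizer ({b} : Set G) ≤ M ∧
          ∀ L : Subgroup G, IsCoatom L → centralizer ({b} : Set G) ≤ L → L = M := by
  obtain ⟨r, hr, hrM, hrσ, hrκ⟩ := exists_prime_of_U hG M hM K U hKU hU1
  have hnil := p2_nilpotent hG M hM r hr hrM hrσ hrκ
  exact ⟨hnil, fun q hq => Cfsg.Agent.Lib.helper55.BGJ.mem_beta_of_ideal_of_sigma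
      (p2_ideal hG M hM K hKU.hall hK1 r hr hrM hrσ hrκ hnil q hq) hq,
    fun b hb hbo => p2_uniq hG M hM K hKU.hall hK1 r hr hrM hrσ hrκ b hb _ hbo rfl⟩

end Cfsg.Agent.Lib.helper60.BGP2
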