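import Mathlib
import Cfsg.Agent.S0016
import Cfsg.Agent.Lib.helper3.ElemAb

/-!
# Fixed-point counting for a `p`-group acting on an abelian `p'`-group

Auxiliary file for `S2277` (helper60).  Main results:

* `modthm`: a `p`-group `Γ` (`p ≥ 3`) acting on a finite abelian group `A` of order prime to `p`,
  nontrivial central elements acting fixed-point-freely, `C`, `D` generating `Γ` with
  `A = C_A(c) + C_A(d)` for all `c ∈ C`, `d ∈ D`: then `Γ` or `A` is trivial.
* `Setting`: the hypotheses of S2277 with `P` only a `p`-subgroup; transport to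
  quotients (`Setting.map`) and to subgroups `N₁ P` (`Setting.sub`).
-/

set_option autoImplicit false

namespace Cfsg.Agent.Lib.helper60.FixCount

universe u

section Ring

variable {A : Type u} [AddCommGroup A]

/-- the trace-like element `∑_{k<p} (β ζ^i)^k` -/
def tr (p : ℕ) (β ζ : AddMonoid.End A) (i : ℕ) : AddMonoid.End A :=
  ∑ k ∈ Finset.range p, (β * ζ ^ i) ^ k

theorem end_sum_apply (s : Finset ℕ) (f : ℕ → AddMonoid.End A) (a : A) :
    (∑ i ∈ s, f i) a = ∑ i ∈ s, f i a :=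
  AddMonoidHom.finsetSum_apply _ _ _

theorem tr_congr (p : ℕ) (β ζ : AddMonoid.End A) (hζ : ζ ^ p = 1) (i i' : ℕ)
    (h : i ≡ i' [MOD p]) : tr p β ζ i = tr p β ζ i' := by
  unfold tr
  have h' : i % p = i' % p := h
  have : ζ ^ i = ζ ^ i' := by
    rw [pow_eq_pow_mod i hζ, pow_eq_pow_mod i' hζ, h']
  rw [this]

theorem upow (p : ℕ) (β ζ : AddMonoid.End A) (hζ : ζ ^ p = 1) (hβ : β ^ p = 1)
    (hc : Commute β ζ) (i : ℕ) : (β * ζ ^ i) ^ p = 1 := by
  rw [(hc.pow_right i).mul_pow, hβ, ← pow_mul, mul_comm, pow_mul, hζ, one_pow, one_mul]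

theorem mul_tr (p : ℕ) (β ζ : AddMonoid.End A) (hζ : ζ ^ p = 1) (hβ : β ^ p = 1)
    (hc : Commute β ζ) (i : ℕ) : (β * ζ ^ i) * tr p β ζ i = tr p β ζ i := by
  have h := mul_geom_sum (β * ζ ^ i) p
  rw [upow p β ζ hζ hβ hc i, sub_self, sub_mul, one_mul, sub_eq_zero] at h
  exact h

theorem pow_mul_tr (p : ℕ) (β ζ : AddMonoid.End A) (hζ : ζ ^ p = 1) (hβ : β ^ p = 1)
    (hc : Commute β ζ) (i k : ℕ) : (β * ζ ^ i) ^ k * tr p β ζ i = tr p β ζ i := by
  induction k with
  | zero => simp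
  | succ k ih => rw [pow_succ, mul_assoc, mul_tr p β ζ hζ hβ hc i, ih]

theorem geom_zero (p : ℕ) [hp : Fact p.Prime] (ζ : AddMonoid.End A) (hζ : ζ ^ p = 1)
    (hfix : ∀ k, 0 < k → k < p → ∀ a : A, (ζ ^ k) a = a → a = 0) (e : ℕ) (he : ¬ p ∣ e) :
    ∑ k ∈ Finset.range p, (ζ ^ e) ^ k = 0 := by
  have h := mul_geom_sum (ζ ^ e) p
  have h1 : (ζ ^ e) ^ p = 1 := by rw [← pow_mul, mul_comm, pow_mul, hζ, one_pow]
  rw [h1, sub_self, sub_mul, one_mul, sub_eq_zero] at h
  ext a
  have h2 : (ζ ^ e) ((∑ k ∈ Finset.range p, (ζ ^ e) ^ k) a) = (∑ k ∈ Finset.range p, (ζ ^ e) ^ k) a := by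
    have := congrArg (fun f : AddMonoid.End A => f a) h
    exact this
  rw [pow_eq_pow_mod e hζ] at h2 ⊢
  exact hfix (e % p) (Nat.pos_of_ne_zero (fun h0 => he (Nat.dvd_of_mod_eq_zero h0)))
    (Nat.mod_lt _ hp.out.pos) _ h2

theorem tr_mul_tr_ne (p : ℕ) [hp : Fact p.Prime] (β ζ : AddMonoid.End A) (hζ : ζ ^ p = 1)
    (hβ : β ^ p = 1) (hc : Commute β ζ)
    (hfix : ∀ k, 0 < k → k < p → ∀ a : A, (ζ ^ k) a = a → a = 0)
    (i j : ℕ) (hi : i < p) (hj : j < p) (hij : i ≠ j) :
    tr p β ζ j * tr p β ζ i = 0 := by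
  have hw : β * ζ ^ j = ζ ^ (j + (p - i)) * (β * ζ ^ i) := by
    have h1 : ζ ^ (j + (p - i)) * (β * ζ ^ i) = β * ζ ^ (j + p) := by
      rw [← mul_assoc, ← (hc.pow_right (j + (p - i))).eq, mul_assoc, ← pow_add]
      congr 2
      omega
    rw [h1, pow_add, hζ, mul_one]
  have hcomm : Commute (ζ ^ (j + (p - i))) (β * ζ ^ i) :=
    ((hc.pow_right (j + (p - i))).symm).mul_right (Commute.pow_pow (Commute.refl ζ) _ _)
  have hpe : ¬ p ∣ (j + (p - i)) := by
    intro hd
    rcases Nat.lt_or_ge j i with hlt | hge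
    · have h1 := Nat.le_of_dvd (by omega) hd
      omega
    · have h2 : p ∣ (j + (p - i)) - p := Nat.dvd_sub hd (dvd_refl p)
      have h3 : (j + (p - i)) - p = j - i := by omega
      rw [h3] at h2
      have h4 := Nat.eq_zero_of_dvd_of_lt h2 (by omega)
      omega
  calc tr p β ζ j * tr p β ζ i
      = (∑ k ∈ Finset.range p, (ζ ^ (j + (p - i))) ^ k * (β * ζ ^ i) ^ k) * tr p β ζ i := by
        congr 1
        unfold tr
        refine Finset.sum_congr rfl (fun k _ => ?_)
        rw [hw, hcomm.mul_pow]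
    _ = ∑ k ∈ Finset.range p, (ζ ^ (j + (p - i))) ^ k * tr p β ζ i := by
        rw [Finset.sum_mul]
        refine Finset.sum_congr rfl (fun k _ => ?_)
        rw [mul_assoc, pow_mul_tr p β ζ hζ hβ hc i k]
    _ = (∑ k ∈ Finset.range p, (ζ ^ (j + (p - i))) ^ k) * tr p β ζ i := by rw [Finset.sum_mul]
    _ = 0 := by rw [geom_zero p ζ hζ hfix _ hpe, zero_mul]

theorem tr_mul_tr_self (p : ℕ) (β ζ : AddMonoid.End A) (hζ : ζ ^ p = 1)
    (hβ : β ^ p = 1) (hc : Commute β ζ) (i : ℕ) :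
    tr p β ζ i * tr p β ζ i = p • tr p β ζ i := by
  show (∑ k ∈ Finset.range p, (β * ζ ^ i) ^ k) * tr p β ζ i = _
  rw [Finset.sum_mul, Finset.sum_congr rfl (fun k _ => pow_mul_tr p β ζ hζ hβ hc i k),
    Finset.sum_const, Finset.card_range]

theorem sum_tr (p : ℕ) [hp : Fact p.Prime] (β ζ : AddMonoid.End A) (hζ : ζ ^ p = 1)
    (hc : Commute β ζ)
    (hfix : ∀ k, 0 < k → k < p → ∀ a : A, (ζ ^ k) a = a → a = 0) :
    ∑ i ∈ Finset.range p, tr p β ζ i = (p : AddMonoid.End A) := by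
  unfold tr
  rw [Finset.sum_comm]
  have h : ∀ k ∈ Finset.range p, ∑ i ∈ Finset.range p, (β * ζ ^ i) ^ k
      = β ^ k * ∑ i ∈ Finset.range p, (ζ ^ k) ^ i := by
    intro k _
    rw [Finset.mul_sum]
    refine Finset.sum_congr rfl (fun i _ => ?_)
    rw [(hc.pow_right i).mul_pow, ← pow_mul, ← pow_mul, mul_comm i k]
  rw [Finset.sum_congr rfl h, Finset.sum_eq_single 0]
  · simp
  · intro k hk hk0
    rw [geom_zero p ζ hζ hfix k (fun hd => by
      have := Nat.le_of_dvd (Nat.pos_of_ne_zero hk0) hd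
      have := Finset.mem_range.1 hk
      omega), mul_zero]
  · intro h0
    exact absurd (Finset.mem_range.2 hp.out.pos) h0

theorem semiconj_tr (p : ℕ) (β ζ γ : AddMonoid.End A) (j : ℕ) (hγζ : γ * ζ = ζ * γ)
    (hγβ : γ * β = β * ζ ^ j * γ) (i : ℕ) :
    γ * tr p β ζ i = tr p β ζ (i + j) * γ := by
  have hγζi : γ * ζ ^ i = ζ ^ i * γ := (Commute.pow_right (show Commute γ ζ from hγζ) i).eq
  have h1 : SemiconjBy γ (β * ζ ^ i) (β * ζ ^ (i + j)) := by
    show γ * (β * ζ ^ i) = (β * ζ ^ (i + j)) * γ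
    rw [← mul_assoc, hγβ, mul_assoc, hγζi, ← mul_assoc, mul_assoc β, ← pow_add, add_comm j i]
  unfold tr
  rw [Finset.mul_sum, Finset.sum_mul]
  exact Finset.sum_congr rfl (fun k _ => (h1.pow_right k).eq)

theorem tr_fix_shift (p : ℕ) (β ζ γ : AddMonoid.End A) (j : ℕ) (hγζ : γ * ζ = ζ * γ)
    (hγβ : γ * β = β * ζ ^ j * γ) (w : A) (hw : γ w = w) (i : ℕ) (h0 : tr p β ζ i w = 0)
    (m : ℕ) : tr p β ζ (i + m * j) w = 0 := by
  induction m with
  | zero => simpa using h0
  | succ m ih =>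
    have h := congrArg (fun f : AddMonoid.End A => f w) (semiconj_tr p β ζ γ j hγζ hγβ (i + m * j))
    have h' : γ (tr p β ζ (i + m * j) w) = tr p β ζ (i + m * j + j) (γ w) := h
    rw [hw, ih, map_zero] at h'
    have e : i + (m + 1) * j = i + m * j + j := by ring
    rw [e]
    exact h'.symm

theorem tr_fix_all (p : ℕ) [hp : Fact p.Prime] (β ζ γ : AddMonoid.End A) (hζ : ζ ^ p = 1)
    (j : ℕ) (hj : ¬ p ∣ j) (hγζ : γ * ζ = ζ * γ)
    (hγβ : γ * β = β * ζ ^ j * γ) (w : A) (hw : γ w = w) (i : ℕ) (h0 : tr p β ζ i w = 0)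
    (s : ℕ) : tr p β ζ s w = 0 := by
  have hj' : (j : ZMod p) ≠ 0 := by
    intro h
    exact hj ((ZMod.natCast_eq_zero_iff j p).1 h)
  have hm : ((i + (((s : ZMod p) - i) / j).val * j : ℕ) : ZMod p) = s := by
    push_cast
    rw [ZMod.natCast_zmod_val, div_mul_cancel₀ _ hj']
    ring
  have hmod : i + (((s : ZMod p) - i) / j).val * j ≡ s [MOD p] :=
    (ZMod.natCast_eq_natCast_iff _ _ _).1 hm
  rw [← tr_congr p β ζ hζ _ _ hmod]
  exact tr_fix_shift p β ζ γ j hγζ hγβ w hw i h0 _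

theorem card_fix_pow_le [Finite A] (p : ℕ) [hp : Fact p.Prime] (hcop : (Nat.card A).Coprime p)
    (β ζ γ : AddMonoid.End A) (hζ : ζ ^ p = 1) (hβ : β ^ p = 1) (hc : Commute β ζ)
    (hfix : ∀ k, 0 < k → k < p → ∀ a : A, (ζ ^ k) a = a → a = 0)
    (j : ℕ) (hj : ¬ p ∣ j) (hγζ : γ * ζ = ζ * γ) (hγβ : γ * β = β * ζ ^ j * γ) :
    Nat.card {a : A // γ a = a} ^ p ≤ Nat.card A := by
  classical
  have hpinj : ∀ a : A, p • a = 0 → a = 0 := by
    intro a ha
    have h1 : addOrderOf a ∣ p := addOrderOf_dvd_of_nsmul_eq_zero ha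
    have h2 : addOrderOf a ∣ Nat.card A := addOrderOf_dvd_natCard a
    have h3 : addOrderOf a = 1 := Nat.eq_one_of_dvd_coprimes hcop h2 h1
    exact AddMonoid.addOrderOf_eq_one_iff.1 h3
  have hΦ : Function.Injective
      (fun v : Fin p → {a : A // γ a = a} => ∑ i : Fin p, tr p β ζ i (v i : A)) := by
    intro v v' hvv
    funext t
    apply Subtype.ext
    have hw : γ ((v t : A) - v' t) = (v t : A) - v' t := by rw [map_sub, (v t).2, (v' t).2]
    have h3 : ∀ v : Fin p → {a : A // γ a = a},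
        tr p β ζ t (∑ i : Fin p, tr p β ζ i (v i : A)) = p • tr p β ζ t (v t : A) := by
      intro v
      rw [map_sum, Finset.sum_eq_single t]
      · exact congrArg (fun f : AddMonoid.End A => f (v t : A)) (tr_mul_tr_self p β ζ hζ hβ hc (t : ℕ))
      · intro i _ hit
        exact congrArg (fun f : AddMonoid.End A => f (v i : A))
          (tr_mul_tr_ne p β ζ hζ hβ hc hfix (i : ℕ) (t : ℕ) i.2 t.2 (fun h => hit (Fin.ext h)))
      · intro h
        exact absurd (Finset.mem_univ t) h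
    have h1 : tr p β ζ t ((v t : A) - v' t) = 0 := by
      have h2 : tr p β ζ t (∑ i : Fin p, tr p β ζ i (v i : A))
          = tr p β ζ t (∑ i : Fin p, tr p β ζ i (v' i : A)) := congrArg _ hvv
      rw [h3, h3] at h2
      rw [map_sub]
      apply hpinj
      rw [smul_sub, h2, sub_self]
    have hall : ∀ s, tr p β ζ s ((v t : A) - v' t) = 0 :=
      tr_fix_all p β ζ γ hζ j hj hγζ hγβ _ hw t h1
    have hsum : p • ((v t : A) - v' t) = 0 := by
      have h5 := congrArg (fun f : AddMonoid.End A => f ((v t : A) - v' t)) (sum_tr p β ζ hζ hc hfix)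
      have h6 : (∑ i ∈ Finset.range p, tr p β ζ i) ((v t : A) - v' t)
          = ((p : AddMonoid.End A)) ((v t : A) - v' t) := h5
      rw [end_sum_apply, AddMonoid.End.natCast_apply] at h6
      rw [← h6]
      exact Finset.sum_eq_zero (fun s _ => hall s)
    exact sub_eq_zero.1 (hpinj _ hsum)
  calc Nat.card {a : A // γ a = a} ^ p = Nat.card (Fin p → {a : A // γ a = a}) := by
        rw [Nat.card_fun, Nat.card_fin]
    _ ≤ Nat.card A := Nat.card_le_card_of_injective _ hΦ

end Ring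

section Mod

variable {A : Type u} [AddCommGroup A] [Finite A] {Γ : Type u} [Group Γ] [Finite Γ]

theorem smul_inj (p : ℕ) (hcop : (Nat.card A).Coprime p) (a : A) (ha : p • a = 0) : a = 0 := by
  have h1 : addOrderOf a ∣ p := addOrderOf_dvd_of_nsmul_eq_zero ha
  have h2 : addOrderOf a ∣ Nat.card A := addOrderOf_dvd_natCard a
  have h3 : addOrderOf a = 1 := Nat.eq_one_of_dvd_coprimes hcop h2 h1
  exact AddMonoid.addOrderOf_eq_one_iff.1 h3

theorem card_fix_eq_one (f : AddMonoid.End A) (h : ∀ a : A, f a = a → a = 0) :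
    Nat.card {a : A // f a = a} = 1 := by
  rw [Nat.card_eq_one_iff_unique]
  exact ⟨⟨fun x y => Subtype.ext (by rw [h x x.2, h y y.2])⟩, ⟨⟨0, map_zero f⟩⟩⟩

theorem card_le_of_dec (f g : AddMonoid.End A)
    (h : ∀ a : A, ∃ u v : A, f u = u ∧ g v = v ∧ a = u + v) :
    Nat.card A ≤ Nat.card {a : A // f a = a} * Nat.card {a : A // g a = a} := by
  rw [← Nat.card_prod]
  apply Nat.card_le_card_of_surjective
    (fun x : {a : A // f a = a} × {a : A // g a = a} => (x.1 : A) + x.2)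
  intro a
  obtain ⟨u, v, hu, hv, rfl⟩ := h a
  exact ⟨(⟨u, hu⟩, ⟨v, hv⟩), rfl⟩

theorem exists_ne_one_of_closure [Nontrivial Γ] (C : Set Γ) (hC : Subgroup.closure C = ⊤) :
    ∃ c ∈ C, c ≠ 1 := by
  by_contra h
  have h' : ∀ c ∈ C, c = 1 := fun c hc => by_contra (fun hne => h ⟨c, hc, hne⟩)
  have h2 : Subgroup.closure C ≤ ⊥ := (Subgroup.closure_le _).2 (fun c hc => by
    rw [h' c hc]; exact Subgroup.one_mem _)
  rw [hC] at h2
  obtain ⟨x, hx⟩ := exists_ne (1 : Γ)
  exact hx (Subgroup.mem_bot.1 (h2 (Subgroup.mem_top x)))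

theorem exists_not_comm (C : Set Γ) (hC : Subgroup.closure C = ⊤) (b : Γ)
    (hb : b ∉ Subgroup.center Γ) : ∃ c ∈ C, c * b ≠ b * c := by
  by_contra h
  have h' : ∀ c ∈ C, c * b = b * c := fun c hc => by_contra (fun hne => h ⟨c, hc, hne⟩)
  apply hb
  rw [Subgroup.mem_center_iff]
  intro g
  have hg : g ∈ Subgroup.closure C := by rw [hC]; exact Subgroup.mem_top g
  have h2 : Subgroup.closure C ≤ Subgroup.centralizer {b} := (Subgroup.closure_le _).2 (fun c hc => by
    rw [SetLike.mem_coe, Subgroup.mem_centralizer_iff]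
    intro t ht
    rw [Set.mem_singleton_iff.1 ht]
    exact (h' c hc).symm)
  have h3 := h2 hg
  rw [Subgroup.mem_centralizer_iff] at h3
  exact (h3 b rfl).symm

theorem modthm (p : ℕ) [hp : Fact p.Prime] (hp3 : 3 ≤ p) (hcop : (Nat.card A).Coprime p)
    (hΓ : IsPGroup p Γ) (ι : Γ →* AddMonoid.End A)
    (hfpf : ∀ z ∈ Subgroup.center Γ, z ≠ 1 → ∀ a : A, ι z a = a → a = 0)
    (C D : Set Γ) (hC : Subgroup.closure C = ⊤) (hD : Subgroup.closure D = ⊤)
    (hdec : ∀ c ∈ C, ∀ d ∈ D, ∀ a : A, ∃ u v : A, ι c u = u ∧ ι d v = v ∧ a = u + v) :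
    Subsingleton Γ ∨ Subsingleton A := by
  by_contra hcon
  rw [not_or] at hcon
  obtain ⟨hΓn, hAn⟩ := hcon
  have hΓnt : Nontrivial Γ := not_subsingleton_iff_nontrivial.1 hΓn
  have hAnt : Nontrivial A := not_subsingleton_iff_nontrivial.1 hAn
  have hA2 : 1 < Nat.card A := Finite.one_lt_card
  by_cases huniq : ∀ H K : Subgroup Γ, Nat.card H = p → Nat.card K = p → H = K
  · -- cyclic
    have hcyc : IsCyclic Γ := by
      rcases Cfsg.Agent.S0016.result p hΓ huniq with h | ⟨h2, _⟩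
      · exact h
      · omega
    have hcomm : ∀ g : Γ, g ∈ Subgroup.center Γ := by
      intro g
      rw [Subgroup.mem_center_iff]
      intro x
      obtain ⟨t, ht⟩ := hcyc.exists_generator
      obtain ⟨m, rfl⟩ := Subgroup.mem_zpowers_iff.1 (ht g)
      obtain ⟨n, rfl⟩ := Subgroup.mem_zpowers_iff.1 (ht x)
      rw [← zpow_add, ← zpow_add, add_comm]
    obtain ⟨c, hcC, hc1⟩ := exists_ne_one_of_closure C hC
    obtain ⟨d, hdD, hd1⟩ := exists_ne_one_of_closure D hD
    have h1 := card_le_of_dec (ι c) (ι d) (hdec c hcC d hdD)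
    rw [card_fix_eq_one _ (hfpf c (hcomm c) hc1), card_fix_eq_one _ (hfpf d (hcomm d) hd1)] at h1
    omega
  · -- noncyclic
    rw [not_forall] at huniq
    obtain ⟨H, hH⟩ := huniq
    rw [not_forall] at hH
    obtain ⟨K, hK⟩ := hH
    rw [Classical.not_imp] at hK
    obtain ⟨hHp, hK⟩ := hK
    rw [Classical.not_imp] at hK
    obtain ⟨hKp, hHK⟩ := hK
    have hcn : Nontrivial (Subgroup.center Γ) := hΓ.center_nontrivial
    have hpc : p ∣ Nat.card (Subgroup.center Γ) := by
      rcases (hΓ.to_subgroup (Subgroup.center Γ)).card_eq_or_dvd with h | h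
      · exact absurd h (ne_of_gt Finite.one_lt_card)
      · exact h
    obtain ⟨z0, hz0⟩ := exists_prime_orderOf_dvd_card' p hpc
    obtain ⟨z, hzc, hzo⟩ : ∃ z : Γ, z ∈ Subgroup.center Γ ∧ orderOf z = p :=
      ⟨(z0 : Γ), z0.2, by rw [Subgroup.orderOf_coe]; exact hz0⟩
    have hzp : z ^ p = 1 := by rw [← hzo]; exact pow_orderOf_eq_one z
    have hEcard : Nat.card (Subgroup.zpowers z) = p := by rw [Nat.card_zpowers, hzo]
    have hEc : ∀ e ∈ Subgroup.zpowers z, e ∈ Subgroup.center Γ :=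
      fun e he => (Subgroup.zpowers_le.2 hzc) he
    obtain ⟨X, hXp, hXE⟩ : ∃ X : Subgroup Γ, Nat.card X = p ∧ X ≠ Subgroup.zpowers z := by
      by_cases h : H = Subgroup.zpowers z
      · exact ⟨K, hKp, fun h' => hHK (h.trans h'.symm)⟩
      · exact ⟨H, hHp, h⟩
    have hXnt : Nontrivial X := by
      rw [← Finite.one_lt_card_iff_nontrivial, hXp]; exact hp.out.one_lt
    obtain ⟨x0, hx0⟩ := exists_ne (1 : X)
    have hx1 : (x0 : Γ) ≠ 1 := fun h => hx0 (Subtype.ext h)
    have hxp : (x0 : Γ) ^ p = 1 := by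
      have h := pow_card_eq_one' (G := X) (x := x0)
      rw [hXp] at h
      have h2 := congrArg Subtype.val h
      simpa using h2
    have hxo : orderOf (x0 : Γ) = p := by
      rcases (Nat.dvd_prime hp.out).1 (orderOf_dvd_of_pow_eq_one hxp) with h | h
      · exact absurd (orderOf_eq_one_iff.1 h) hx1
      · exact h
    have hxE : (x0 : Γ) ∉ Subgroup.zpowers z := by
      intro hx
      apply hXE
      have h1 : Subgroup.zpowers (x0 : Γ) ≤ Subgroup.zpowers z := Subgroup.zpowers_le.2 hx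
      have h2 : Subgroup.zpowers (x0 : Γ) ≤ X := Subgroup.zpowers_le.2 x0.2
      have hc : Nat.card (Subgroup.zpowers (x0 : Γ)) = p := by rw [Nat.card_zpowers, hxo]
      have e1 : Subgroup.zpowers (x0 : Γ) = Subgroup.zpowers z :=
        Subgroup.eq_of_le_of_card_ge h1 (by rw [hc, hEcard])
      have e2 : Subgroup.zpowers (x0 : Γ) = X :=
        Subgroup.eq_of_le_of_card_ge h2 (by rw [hc, hXp])
      rw [← e2, e1]
    have hEn : (Subgroup.zpowers z).Normal := by
      constructor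
      intro n hn g
      have hnc := Subgroup.mem_center_iff.1 (hEc n hn)
      have : g * n * g⁻¹ = n := by rw [hnc g, mul_inv_cancel_right]
      rw [this]; exact hn
    obtain ⟨b, hbE, hbp, -, hbcomm⟩ :=
      Cfsg.Agent.Lib.helper3.exists_central_mod_of_centralizing p (by omega) (Nat.card Γ) Γ rfl hΓ
        (Subgroup.zpowers z) hEn
        (fun a ha b hb => (Subgroup.mem_center_iff.1 (hEc b hb) a))
        (fun a ha => by
          obtain ⟨m, rfl⟩ := Subgroup.mem_zpowers_iff.1 ha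
          rw [← zpow_natCast, ← zpow_mul, mul_comm, zpow_mul, zpow_natCast, hzp, one_zpow])
        (x0 : Γ) hxE hxp (fun e he => (Subgroup.mem_center_iff.1 (hEc e he) _))
    have hζ : (ι z) ^ p = 1 := by rw [← map_pow, hzp, map_one]
    have hβ : (ι b) ^ p = 1 := by rw [← map_pow, hbp, map_one]
    have hcβζ : Commute (ι b) (ι z) := by
      show ι b * ι z = ι z * ι b
      rw [← map_mul, ← map_mul, Subgroup.mem_center_iff.1 hzc b]
    have hfix : ∀ k, 0 < k → k < p → ∀ a : A, ((ι z) ^ k) a = a → a = 0 := by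
      intro k hk0 hkp a ha
      apply hfpf (z ^ k) (Subgroup.pow_mem _ hzc k)
        (pow_ne_one_of_lt_orderOf hk0.ne' (by rw [hzo]; exact hkp)) a
      rw [map_pow]; exact ha
    by_cases hbz : b ∈ Subgroup.center Γ
    · apply hAn
      have hz : ∀ a : A, a = 0 := by
        intro a
        have hall : ∀ i, tr p (ι b) (ι z) i a = 0 := by
          intro i
          apply hfpf (b * z ^ i) (Subgroup.mul_mem _ hbz (Subgroup.pow_mem _ hzc i)) ?_
          · rw [map_mul, map_pow]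
            exact congrArg (fun f : AddMonoid.End A => f a) (mul_tr p (ι b) (ι z) hζ hβ hcβζ i)
          · intro h
            apply hbE
            have : b = (z ^ i)⁻¹ := eq_inv_of_mul_eq_one_left h
            rw [this]
            exact Subgroup.inv_mem _ (Subgroup.pow_mem _ (Subgroup.mem_zpowers z) i)
        have h5 := congrArg (fun f : AddMonoid.End A => f a) (sum_tr p (ι b) (ι z) hζ hcβζ hfix)
        have h6 : (∑ i ∈ Finset.range p, tr p (ι b) (ι z) i) a = ((p : AddMonoid.End A)) a := h5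
        rw [end_sum_apply, AddMonoid.End.natCast_apply, Finset.sum_eq_zero (fun s _ => hall s)] at h6
        exact smul_inj p hcop a h6.symm
      exact ⟨fun a a' => by rw [hz a, hz a']⟩
    · have key : ∀ c : Γ, c * b ≠ b * c → Nat.card {a : A // ι c a = a} ^ p ≤ Nat.card A := by
        intro c hcb
        have hcm := hbcomm c
        rw [← mem_powers_iff_mem_zpowers] at hcm
        obtain ⟨n, hn⟩ := (Submonoid.mem_powers_iff _ _).1 hcm
        have hn' : b * c = z ^ n * c * b := by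
          rw [hn, commutatorElement_def]; group
        have hzj : z ^ ((p - 1) * n) * z ^ n = 1 := by
          rw [← pow_add, ← Nat.succ_mul, Nat.succ_eq_add_one, Nat.sub_add_cancel hp.out.pos,
            pow_mul, hzp, one_pow]
        have hzjc : z ^ ((p - 1) * n) * b = b * z ^ ((p - 1) * n) :=
          (Subgroup.mem_center_iff.1 (Subgroup.pow_mem _ hzc _) b).symm
        have hcb' : c * b = b * z ^ ((p - 1) * n) * c := by
          calc c * b = (z ^ ((p - 1) * n) * z ^ n) * c * b := by rw [hzj, one_mul]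
            _ = z ^ ((p - 1) * n) * (z ^ n * c * b) := by group
            _ = z ^ ((p - 1) * n) * (b * c) := by rw [hn']
            _ = b * z ^ ((p - 1) * n) * c := by rw [← mul_assoc, hzjc]
        have hj : ¬ p ∣ (p - 1) * n := by
          intro hd
          apply hcb
          have : z ^ ((p - 1) * n) = 1 := by
            have hd' : orderOf z ∣ (p - 1) * n := by rw [hzo]; exact hd
            exact orderOf_dvd_iff_pow_eq_one.1 hd'
          rw [hcb', this, mul_one]
        refine card_fix_pow_le p hcop (ι b) (ι z) (ι c) hζ hβ hcβζ hfix ((p - 1) * n) hj ?_ ?_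
        · rw [← map_mul, ← map_mul, Subgroup.mem_center_iff.1 hzc c]
        · rw [← map_pow, ← map_mul, ← map_mul, ← map_mul, hcb']
      obtain ⟨c, hcC, hcb⟩ := exists_not_comm C hC b hbz
      obtain ⟨d, hdD, hdb⟩ := exists_not_comm D hD b hbz
      have h1 := card_le_of_dec (ι c) (ι d) (hdec c hcC d hdD)
      have h2 := key c hcb
      have h3 := key d hdb
      have h4 : Nat.card A ^ p ≤ Nat.card A ^ 2 := by
        calc Nat.card A ^ p
            ≤ (Nat.card {a : A // ι c a = a} * Nat.card {a : A // ι d a = a}) ^ p :=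
              Nat.pow_le_pow_left h1 p
          _ = Nat.card {a : A // ι c a = a} ^ p * Nat.card {a : A // ι d a = a} ^ p :=
              mul_pow _ _ _
          _ ≤ Nat.card A * Nat.card A := Nat.mul_le_mul h2 h3
          _ = Nat.card A ^ 2 := (sq _).symm
      have h5 : p ≤ 2 := (Nat.pow_le_pow_iff_right hA2).1 h4
      omega

end Mod

section Grp

variable {G : Type u} [Group G] [Finite G]

/-- the hypotheses of the statement, with `P` only a `p`-subgroup -/
structure Setting (p : ℕ) (P N : Subgroup G) (C D : Set G) : Prop where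
  hP : IsPGroup p P
  hN : N.Normal
  hcop : (Nat.card N).Coprime p
  hsup : N ⊔ P = ⊤
  hC : Subgroup.closure C = P
  hD : Subgroup.closure D = P
  h : ∀ x ∈ N, ∀ c ∈ C, ∀ d ∈ D, IsPGroup p ↥(Subgroup.closure ({x * c * x⁻¹, d} : Set G))

theorem eq_one_of_pelt {p : ℕ} {N : Subgroup G} (hcop : (Nat.card N).Coprime p) {g : G}
    (hgN : g ∈ N) {k : ℕ} (hg : g ^ (p ^ k) = 1) : g = 1 := by
  have h1 : orderOf g ∣ p ^ k := orderOf_dvd_of_pow_eq_one hg
  have h2 : orderOf g ∣ Nat.card N := Subgroup.orderOf_dvd_natCard N hgN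
  have h3 : orderOf g = 1 := Nat.eq_one_of_dvd_coprimes (hcop.pow_right k) h2 h1
  exact orderOf_eq_one_iff.1 h3

theorem card_lt_of_surj_not_inj {α β : Type*} [Finite α] (f : α → β)
    (hs : Function.Surjective f) (hni : ¬ Function.Injective f) : Nat.card β < Nat.card α := by
  have : Finite β := Finite.of_surjective f hs
  have := Fintype.ofFinite α
  have := Fintype.ofFinite β
  rw [Nat.card_eq_fintype_card, Nat.card_eq_fintype_card]
  exact Fintype.card_lt_of_surjective_not_injective f hs hni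

theorem closure_preimage_val (H : Subgroup G) (C : Set G) (hC : C ⊆ H) :
    Subgroup.closure (Subtype.val ⁻¹' C : Set H) = (Subgroup.closure C).subgroupOf H := by
  apply Subgroup.map_injective H.subtype_injective
  rw [MonoidHom.map_closure, Subgroup.map_subgroupOf_eq_of_le ((Subgroup.closure_le H).2 hC)]
  congr 1
  ext g
  constructor
  · rintro ⟨x, hx, rfl⟩
    exact hx
  · intro hg
    exact ⟨⟨g, hC hg⟩, hg, rfl⟩

namespace Setting

variable {p : ℕ} {P N : Subgroup G} {C D : Set G}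

theorem pelt (S : Setting p P N C D) {g : G} (hg : g ∈ P) : ∃ k : ℕ, g ^ (p ^ k) = 1 := by
  obtain ⟨k, hk⟩ := S.hP ⟨g, hg⟩
  exact ⟨k, by simpa using congrArg Subtype.val hk⟩

theorem inter (S : Setting p P N C D) {g : G} (hgN : g ∈ N) (hgP : g ∈ P) : g = 1 := by
  obtain ⟨k, hk⟩ := S.pelt hgP
  exact eq_one_of_pelt S.hcop hgN hk

theorem decomp (S : Setting p P N C D) (g : G) : ∃ n ∈ N, ∃ y ∈ P, n * y = g := by
  have := S.hN
  have h : g ∈ ((N ⊔ P : Subgroup G) : Set G) := by rw [S.hsup]; exact Set.mem_univ g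
  rw [Subgroup.normal_mul] at h
  exact Set.mem_mul.1 h

theorem sylow_conj [Fact p.Prime] (S : Setting p P N C D) (Q : Subgroup G) (hQ : IsPGroup p Q) :
    ∃ n ∈ N, ∀ q ∈ Q, n⁻¹ * q * n ∈ P := by
  obtain ⟨T, hT⟩ := hQ.exists_le_sylow
  obtain ⟨T0, hT0⟩ := S.hP.exists_le_sylow
  have hT0P : ∀ s ∈ (T0 : Subgroup G), s ∈ P := by
    intro s hs
    obtain ⟨n, hn, y, hy, rfl⟩ := S.decomp s
    have hnT : n ∈ (T0 : Subgroup G) := by
      have := Subgroup.mul_mem _ hs (Subgroup.inv_mem _ (hT0 hy))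
      simpa using this
    obtain ⟨k, hk⟩ := T0.isPGroup' ⟨n, hnT⟩
    have hk' : n ^ (p ^ k) = 1 := by simpa using congrArg Subtype.val hk
    rw [eq_one_of_pelt S.hcop hn hk', one_mul]
    exact hy
  obtain ⟨g, hg⟩ := MulAction.exists_smul_eq G T0 T
  obtain ⟨n, hn, y, hy, rfl⟩ := S.decomp g
  refine ⟨n, hn, fun q hq => ?_⟩
  have hqT : q ∈ (T : Subgroup G) := hT hq
  rw [← hg, Sylow.coe_subgroup_smul, Subgroup.mem_pointwise_smul_iff_inv_smul_mem] at hqT
  simp only [MulAut.smul_def, ← map_inv, MulAut.conj_apply, inv_inv] at hqT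
  have h2 := hT0P _ hqT
  have : n⁻¹ * q * n = y * ((n * y)⁻¹ * q * (n * y)) * y⁻¹ := by group
  rw [this]
  exact Subgroup.mul_mem _ (Subgroup.mul_mem _ hy h2) (Subgroup.inv_mem _ hy)

theorem dec [Fact p.Prime] (S : Setting p P N C D) {c d x : G} (hc : c ∈ C) (hd : d ∈ D)
    (hx : x ∈ N) : ∃ v ∈ N, ∃ u ∈ N, d * v = v * d ∧ c * u = u * c ∧ x = v * u := by
  have hcP : c ∈ P := by rw [← S.hC]; exact Subgroup.subset_closure hc
  have hdP : d ∈ P := by rw [← S.hD]; exact Subgroup.subset_closure hd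
  obtain ⟨n, hn, hq⟩ := S.sylow_conj _ (S.h x hx c hc d hd)
  have h1 : n⁻¹ * (x * c * x⁻¹) * n ∈ P := hq _ (Subgroup.subset_closure (by simp))
  have h2 : n⁻¹ * d * n ∈ P := hq _ (Subgroup.subset_closure (by simp))
  have hN := S.hN
  refine ⟨n, hn, n⁻¹ * x, Subgroup.mul_mem _ (Subgroup.inv_mem _ hn) hx, ?_, ?_, by group⟩
  · have h3 : d⁻¹ * (n⁻¹ * d * n) = 1 := by
      apply S.inter
      · have : d⁻¹ * (n⁻¹ * d * n) = (d⁻¹ * n⁻¹ * d⁻¹⁻¹) * n := by group
        rw [this]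
        exact Subgroup.mul_mem _ (hN.conj_mem _ (Subgroup.inv_mem _ hn) _) hn
      · exact Subgroup.mul_mem _ (Subgroup.inv_mem _ hdP) h2
    have : d * n = n * d * (d⁻¹ * (n⁻¹ * d * n)) := by group
    rw [this, h3, mul_one]
  · have h3 : (n⁻¹ * (x * c * x⁻¹) * n) * c⁻¹ = 1 := by
      apply S.inter
      · have : (n⁻¹ * (x * c * x⁻¹) * n) * c⁻¹ = (n⁻¹ * x) * (c * (n⁻¹ * x)⁻¹ * c⁻¹) := by group
        rw [this]
        have hu : n⁻¹ * x ∈ N := Subgroup.mul_mem _ (Subgroup.inv_mem _ hn) hx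
        exact Subgroup.mul_mem _ hu (hN.conj_mem _ (Subgroup.inv_mem _ hu) _)
      · exact Subgroup.mul_mem _ h1 (Subgroup.inv_mem _ hcP)
    have : c * (n⁻¹ * x) = ((n⁻¹ * (x * c * x⁻¹) * n) * c⁻¹)⁻¹ * (n⁻¹ * x * c) := by group
    rw [this, h3, inv_one, one_mul]

theorem map {G' : Type u} [Group G'] [Finite G'] (S : Setting p P N C D) (f : G →* G')
    (hf : Function.Surjective f) : Setting p (P.map f) (N.map f) (f '' C) (f '' D) where
  hP := S.hP.map f
  hN := S.hN.map f hf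
  hcop := Nat.Coprime.coprime_dvd_left (N.card_map_dvd f) S.hcop
  hsup := by rw [← Subgroup.map_sup, S.hsup, Subgroup.map_top_of_surjective f hf]
  hC := by rw [← MonoidHom.map_closure, S.hC]
  hD := by rw [← MonoidHom.map_closure, S.hD]
  h := by
    rintro x' ⟨x, hx, rfl⟩ c' ⟨c, hc, rfl⟩ d' ⟨d, hd, rfl⟩
    have h1 := (S.h x hx c hc d hd).map f
    have h2 : (Subgroup.closure ({x * c * x⁻¹, d} : Set G)).map f
        = Subgroup.closure ({f x * f c * (f x)⁻¹, f d} : Set G') := by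
      rw [MonoidHom.map_closure, Set.image_pair]
      simp
    rw [h2] at h1
    exact h1

theorem sub (S : Setting p P N C D) (N₁ : Subgroup G) (hle : N₁ ≤ N)
    (hnorm : P ≤ Subgroup.normalizer (N₁ : Set G)) :
    Setting p (P.subgroupOf (N₁ ⊔ P)) (N₁.subgroupOf (N₁ ⊔ P))
      (Subtype.val ⁻¹' C : Set ↥(N₁ ⊔ P)) (Subtype.val ⁻¹' D : Set ↥(N₁ ⊔ P)) where
  hP := S.hP.of_equiv (Subgroup.subgroupOfEquivOfLe le_sup_right).symm
  hN := by
    have hH : N₁ ⊔ P ≤ Subgroup.normalizer (N₁ : Set G) := sup_le Subgroup.le_normalizer hnorm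
    constructor
    intro n hn g
    rw [Subgroup.mem_subgroupOf] at hn ⊢
    have := (Subgroup.mem_normalizer_iff.1 (hH g.2) (n : G)).1 hn
    simpa using this
  hcop := by
    have e : Nat.card (N₁.subgroupOf (N₁ ⊔ P)) = Nat.card N₁ :=
      Nat.card_congr (Subgroup.subgroupOfEquivOfLe le_sup_left).toEquiv
    rw [e]
    exact Nat.Coprime.coprime_dvd_left (Subgroup.card_dvd_of_le hle) S.hcop
  hsup := by rw [← Subgroup.subgroupOf_sup le_sup_left le_sup_right, Subgroup.subgroupOf_self]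
  hC := by
    rw [closure_preimage_val _ _ ?_, S.hC]
    intro c hc
    exact (le_sup_right : P ≤ N₁ ⊔ P) (by rw [← S.hC]; exact Subgroup.subset_closure hc)
  hD := by
    rw [closure_preimage_val _ _ ?_, S.hD]
    intro c hc
    exact (le_sup_right : P ≤ N₁ ⊔ P) (by rw [← S.hD]; exact Subgroup.subset_closure hc)
  h := by
    intro x hx c hc d hd
    have h1 := S.h (x : G) (hle hx) (c : G) hc (d : G) hd
    have h2 : (Subgroup.closure ({x * c * x⁻¹, d} : Set ↥(N₁ ⊔ P))).map (N₁ ⊔ P).subtype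
        = Subgroup.closure ({(x : G) * c * (x : G)⁻¹, (d : G)} : Set G) := by
      rw [MonoidHom.map_closure, Set.image_pair]
      simp
    rw [← h2] at h1
    exact h1.of_equiv (Subgroup.equivMapOfInjective _ _ (N₁ ⊔ P).subtype_injective).symm

end Setting

theorem pow_comm_aux (y x w : G) (hw : w = y * x * y⁻¹ * x⁻¹) (hyw : y * w = w * y) (k : ℕ) :
    y ^ k * x = w ^ k * x * y ^ k := by
  induction k with
  | zero => simp
  | succ k ih =>
    have hyx : y * x = w * x * y := by rw [hw]; group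
    have hywk : y * w ^ k = w ^ k * y := (Commute.pow_right (show Commute y w from hyw) k).eq
    calc y ^ (k + 1) * x = y * (y ^ k * x) := by rw [pow_succ', mul_assoc]
      _ = y * (w ^ k * x * y ^ k) := by rw [ih]
      _ = (y * w ^ k) * x * y ^ k := by group
      _ = w ^ k * (y * x) * y ^ k := by rw [hywk]; group
      _ = w ^ k * (w * x * y) * y ^ k := by rw [hyx]
      _ = w ^ (k + 1) * x * y ^ (k + 1) := by rw [pow_succ, pow_succ']; group

theorem comm_of_comm_mod {p : ℕ} {N : Subgroup G} (hcop : (Nat.card N).Coprime p) (y x : G)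
    (hwN : y * x * y⁻¹ * x⁻¹ ∈ N)
    (hyw : y * (y * x * y⁻¹ * x⁻¹) = (y * x * y⁻¹ * x⁻¹) * y) {k : ℕ} (hy : y ^ (p ^ k) = 1) :
    y * x = x * y := by
  have h := pow_comm_aux y x _ rfl hyw (p ^ k)
  rw [hy, one_mul, mul_one] at h
  have hw : (y * x * y⁻¹ * x⁻¹) ^ (p ^ k) = 1 := by
    have h' := congrArg (· * x⁻¹) h
    simpa using h'.symm
  have h1 := eq_one_of_pelt hcop hwN hw
  have : y * x = (y * x * y⁻¹ * x⁻¹) * (x * y) := by group
  rw [this, h1, one_mul]

theorem le_normalizer_of_conj (P R : Subgroup G) (h : ∀ y ∈ P, ∀ x ∈ R, y * x * y⁻¹ ∈ R) :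
    P ≤ Subgroup.normalizer (R : Set G) := by
  intro y hy
  rw [Subgroup.mem_normalizer_iff]
  intro x
  constructor
  · exact h y hy x
  · intro hx
    have := h y⁻¹ (Subgroup.inv_mem _ hy) _ hx
    simpa [mul_assoc] using this

theorem normal_of_sup {P N M : Subgroup G} (hsup : N ⊔ P = ⊤)
    (hN : ∀ g ∈ N, ∀ h ∈ M, g * h * g⁻¹ ∈ M) (hP : ∀ g ∈ P, ∀ h ∈ M, g * h * g⁻¹ ∈ M) :
    M.Normal := by
  rw [← Subgroup.normalizer_eq_top_iff, eq_top_iff, ← hsup]
  exact sup_le (le_normalizer_of_conj N M hN) (le_normalizer_of_conj P M hP)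

open scoped Pointwise in
theorem exists_inv_sylow {p : ℕ} [Fact p.Prime] {P N : Subgroup G} {C D : Set G}
    (S : Setting p P N C D) (r : ℕ) [Fact r.Prime] :
    ∃ R : Subgroup G, R ≤ N ∧ P ≤ Subgroup.normalizer (R : Set G) ∧
      Nat.card R = r ^ (Nat.card N).factorization r := by
  have hN := S.hN
  let φ : ↥P →* MulAut ↥N := (MulAut.conjNormal (H := N)).comp P.subtype
  let _ : MulAction ↥P (Sylow r ↥N) := MulAction.compHom (Sylow r ↥N) φ
  have hnd : ¬ p ∣ Nat.card (Sylow r ↥N) := by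
    intro hd
    obtain ⟨R0⟩ : Nonempty (Sylow r ↥N) := inferInstance
    have h1 : Nat.card (Sylow r ↥N) ∣ Nat.card ↥N :=
      (Sylow.card_dvd_index R0).trans (Subgroup.index_dvd_card _)
    have h3 := Nat.Coprime.eq_one_of_dvd S.hcop.symm (hd.trans h1)
    exact (Fact.out : p.Prime).one_lt.ne' h3
  obtain ⟨R0, hR0⟩ := S.hP.nonempty_fixed_point_of_prime_not_dvd_card (Sylow r ↥N) hnd
  refine ⟨(R0 : Subgroup ↥N).map N.subtype, Subgroup.map_subtype_le _, ?_, ?_⟩
  · apply le_normalizer_of_conj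
    rintro y hy _ ⟨x, hx, rfl⟩
    have h1 : (⟨y, hy⟩ : ↥P) • R0 = R0 := hR0 ⟨y, hy⟩
    have h2 : φ ⟨y, hy⟩ • x ∈ (φ ⟨y, hy⟩ • (R0 : Subgroup ↥N)) :=
      Subgroup.smul_mem_pointwise_smul x _ _ hx
    have h3 : (φ ⟨y, hy⟩ • (R0 : Subgroup ↥N)) = (((⟨y, hy⟩ : ↥P) • R0 : Sylow r ↥N) : Subgroup ↥N) := rfl
    rw [h3, h1] at h2
    refine ⟨φ ⟨y, hy⟩ • x, h2, ?_⟩
    simp [φ]
  · rw [Subgroup.card_map_of_injective N.subtype_injective, Sylow.card_eq_multiplicity]

open scoped IsMulCommutative in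
/-- conjugation action on an abelian normal subgroup, written additively -/
def kap (N : Subgroup G) [hN : N.Normal] [IsMulCommutative ↥N] :
    G →* AddMonoid.End (Additive ↥N) where
  toFun g := MonoidHom.toAdditive (MulAut.conjNormal g : MulAut ↥N).toMonoidHom
  map_one' := by
    rw [map_one]
    rfl
  map_mul' := by
    intro g h
    rw [map_mul]
    rfl

open scoped IsMulCommutative in
theorem kap_apply (N : Subgroup G) [hN : N.Normal] [IsMulCommutative ↥N] (g : G) (x : ↥N) :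
    kap N g (Additive.ofMul x) = Additive.ofMul ⟨g * x * g⁻¹, hN.conj_mem _ x.2 g⟩ := rfl

open scoped IsMulCommutative in
theorem kap_fix (N : Subgroup G) [hN : N.Normal] [IsMulCommutative ↥N] (g : G) (x : ↥N) :
    kap N g (Additive.ofMul x) = Additive.ofMul x ↔ g * (x : G) = x * g := by
  rw [kap_apply]
  constructor
  · intro h
    have h1 : g * (x : G) * g⁻¹ = x := congrArg (fun a : Additive ↥N => ((Additive.toMul a : ↥N) : G)) h
    have h2 : g * (x : G) = (g * (x : G) * g⁻¹) * g := by group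
    rw [h2, h1]
  · intro h
    apply congrArg Additive.ofMul
    apply Subtype.ext
    show g * (x : G) * g⁻¹ = x
    rw [h, mul_inv_cancel_right]

end Grp

end Cfsg.Agent.Lib.helper60.FixCount
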