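import Mathlib
import Cfsg.Prelude.Def_FusionSystem
import Cfsg.Agent.Lib.helper79.PearlX
import Cfsg.Agent.Lib.helper88.Saturated
import Cfsg.Agent.Lib.helper85.PearlFG
import Cfsg.Agent.Lib.helper34.PearlFB
import Cfsg.Agent.Lib.helper55.PearlFD
import Cfsg.Agent.Lib.helper38.PearlFC
import Cfsg.Agent.Lib.helper37.P3ZC
import Cfsg.Agent.Lib.helper58.P3NA
import Cfsg.Agent.Lib.helper58.P3FRAT
import Cfsg.Agent.Lib.helper15.P3UNIF
import Cfsg.Agent.Lib.helper60.P3NONUNIF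
import Cfsg.Agent.Lib.helper98.P3GENSUB
import Cfsg.Agent.Lib.helper53.P3GEN5
import Cfsg.Agent.Lib.helper78.P3N4core
import Cfsg.Agent.Lib.helper30.P3SYL9
import Cfsg.Agent.Lib.helper4.P3XS
import Cfsg.Agent.Lib.helper32.P3EXPO
import Cfsg.Agent.Lib.helper61.P3EXP27
import Cfsg.Agent.Lib.helper31.P3ENT
import Cfsg.Agent.Lib.helper32.P3INV
import Cfsg.Agent.Lib.helper72.P3EXT

/-!
# S5239 (helper60, racing assembly, prefixed): the glue of helper79's skeleton over the landed leaves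

`h60_p3_main` is the frozen statement of S5239.  The glue (`p3_rank`, `pearl27_exp`, `p3_transport`,
`p3_main` of tools/S5239_Skel.lean.txt, architect helper79) is copied with the prefix `h60_`.
-/

set_option autoImplicit false
open Cfsg

namespace Cfsg.Agent.Lib.helper79.P3

open Cfsg.Agent.Lib.helper68

theorem h60_p3_n4 {G : Type*} [Group G] [Finite G] (hG : Nat.card G = 3 ^ 4) (x : G)
    (hx : x ^ 3 = 1) (hC : Nat.card (Subgroup.centralizer ({x} : Set G)) = 3 ^ 2) :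
    (∀ H : Subgroup G, ∃ T : Finset G, T.card ≤ 2 ∧ Subgroup.closure (T : Set G) = H) ∨
      ∃ M : Subgroup G, Nat.card M = 27 ∧ (∀ a ∈ M, ∀ b ∈ M, a * b = b * a) ∧ ∀ a ∈ M, a ^ 3 = 1 :=
  h78_p3_n4_core (fun n hn hG h hC H hh => p3_gen_uniform n hn hG h hC H hh)
    (fun n hn hG x hx hC h hh hCh => h60_p3_nonuniform n hn hG x hx hC h hh hCh)
    (fun n hn hG H h => p3_frat n hn hG H h) hG x hx hC

theorem h60_p3_rank {G : Type*} [Group G] [Finite G] (n : ℕ) (hn : 4 ≤ n) (hG : Nat.card G = 3 ^ n) (x : G)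
    (hx : x ^ 3 = 1) (hC : Nat.card (Subgroup.centralizer ({x} : Set G)) = 3 ^ 2) :
    (∀ H : Subgroup G, ∃ T : Finset G, T.card ≤ 2 ∧ Subgroup.closure (T : Set G) = H) ∨
      ∃ W : Sylow 3 (Equiv.Perm (Fin 9)), Nonempty (G ≃* ↥(W : Subgroup (Equiv.Perm (Fin 9)))) := by
  rcases Nat.lt_or_ge n 5 with h5 | h5
  · have hn4 : n = 4 := by omega
    subst hn4
    rcases h60_p3_n4 hG x hx hC with h | ⟨M, hM, hMc, hMe⟩
    · exact Or.inl h
    · exact Or.inr (p3_sylow9 (by rw [hG]; norm_num) (p3_center_card 4 (by norm_num) hG x hC) M hM hMc hMe)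
  · left
    intro H
    by_cases hH2 : H ≤ gam G 2
    · exact p3_gen_sub n hn hG x hx hC H hH2
    · obtain ⟨h, hhH, hh2⟩ := SetLike.not_le_iff_exists.mp hH2
      by_cases hCh : Nat.card (Subgroup.centralizer ({h} : Set G)) = 3 ^ 2
      · exact p3_gen_uniform n (by omega) hG h hCh H hhH
      · by_cases htop : H ⊔ gam G 2 = ⊤
        · have hHtop : H = ⊤ := p3_frat n (by omega) hG H htop
          exact p3_gen_uniform n (by omega) hG x hC H (by rw [hHtop]; exact Subgroup.mem_top x)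
        · exact p3_gen_nonuniform n h5 hG x hx hC h hh2
            ((h60_p3_nonuniform n hn hG x hx hC h hh2 hCh).2 h5) H hhH htop

open Cfsg.FusionSystem

theorem h60_pearl27_exp {Ω : Type*} [Group Ω] {S : Subgroup Ω} [Finite S] (hS : IsPGroup 3 S)
    (F : Cfsg.FusionSystem S) (hF : F.IsSaturated 3) [Fact (Nat.Prime 3)] (E : Subgroup Ω)
    (hE : F.IsEssential 3 E) (hcE : Nat.card E = 9) (hcS : Nat.card S = 27)
    (hexp : ∀ x ∈ E, x ^ 3 = 1) (hna : ∃ a b : ↥S, a * b ≠ b * a) : ∀ g : ↥S, g ^ 3 = 1 := by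
  obtain ⟨α, hα, hinv⟩ := pearl_inv_mem hS F hF E hE hcE
  obtain ⟨ψ, hψ, hψE⟩ := pearl_ext_inv hS F hF E hE hcE hcS α hα hinv
  have hES : E ≤ S := hE.1.1
  have hc : Nat.card (E.subgroupOf S) = 9 := by
    rw [← hcE]
    exact Nat.card_congr (Subgroup.subgroupOfEquivOfLe hES).toEquiv
  refine p3_exp27 hcS hna (E.subgroupOf S) hc ?_ ψ hψ ?_
  · intro e he
    have h1 := hexp (e : Ω) (Subgroup.mem_subgroupOf.mp he)
    exact Subtype.ext (by simpa using h1)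
  · intro e he
    exact hψE e (Subgroup.mem_subgroupOf.mp he)

theorem h60_p3_transport {Ω : Type*} [Group Ω] (S H : Subgroup Ω) (hHS : H ≤ S)
    (h : ∃ T : Finset ↥S, T.card ≤ 2 ∧ Subgroup.closure (T : Set ↥S) = H.subgroupOf S) :
    ∃ T : Finset Ω, T.card ≤ 2 ∧ Subgroup.closure (T : Set Ω) = H := by
  obtain ⟨T, hT, hcl⟩ := h
  refine ⟨T.map ⟨Subtype.val, Subtype.val_injective⟩, by simpa using hT, ?_⟩
  have h1 : ((T.map ⟨Subtype.val, Subtype.val_injective⟩ : Finset Ω) : Set Ω)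
      = S.subtype '' (T : Set ↥S) := by
    ext y
    simp
  rw [h1, ← MonoidHom.map_closure, hcl, Subgroup.map_subgroupOf_eq_of_le hHS]

open Cfsg.Agent.Lib.helper88.PearlF in
theorem h60_p3_main {Ω : Type*} [Group Ω] {S : Subgroup Ω} [Finite S] (hS : IsPGroup 3 S) (F : Cfsg.FusionSystem S) (hF : F.IsSaturated 3) [Fact (Nat.Prime 3)] (E : Subgroup Ω) (hE : F.IsEssential 3 E) (hpearl : (Nat.card E = 9 ∧ ∀ x ∈ E, x ^ 3 = 1 ∧ IsMulCommutative ↥E) ∨ (Nat.card E = 27 ∧ ¬ IsMulCommutative ↥E)) : (Cfsg.IsExtraspecial 3 ↥S ∧ Nat.card S = 27 ∧ Monoid.exponent ↥S = 3) ∨ (81 ≤ Nat.card S ∧ ∀ H : Subgroup Ω, H ≤ S → ∃ T : Finset Ω, T.card ≤ 2 ∧ Subgroup.closure (T : Set Ω) = H) ∨ (∃ W : Sylow 3 (Equiv.Perm (Fin 9)), Nonempty (↥S ≃* ↥(W : Subgroup (Equiv.Perm (Fin 9))))) := by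
  have hES : E ≤ S := hE.1.1
  have hCE : centralizerIn S E ≤ E := hE.1.2 E (Cfsg.Agent.Lib.helper88.isConj_refl F hES)
  obtain ⟨hc1, hc2, hc3, hc4⟩ := pearl_transfer 3 S E hES hCE
  obtain ⟨m, hm⟩ : ∃ m, Nat.card S = 3 ^ m := IsPGroup.iff_card.mp hS
  have hx : ∃ x : ↥S, x ^ 3 = 1 ∧ Nat.card (Subgroup.centralizer ({x} : Set ↥S)) = 3 ^ 2 := by
    rcases hpearl with ⟨h1, h2⟩ | ⟨h1, h2⟩
    · exact h34_pearl_x_ab 3 m hm (E.subgroupOf S) (hc1.trans (h1.trans (by norm_num)))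
        (hc4 (fun x hx => (h2 x hx).1)) hc2
    · exact h38_pearl_x_nonab 3 m hm (E.subgroupOf S) (hc1.trans (h1.trans (by norm_num)))
        (fun h => h2 (hc3 h))
        (hc4 (h55_pearl_exp 3 F (by norm_num) E hE (h1.trans (by norm_num)) h2)) hc2
  obtain ⟨x, hxp, hxC⟩ := hx
  have hne : E ≠ S := essential_ne_top 3 hS F hF E hE
  have hlt : Nat.card E < Nat.card S := by
    rcases Nat.lt_or_ge (Nat.card E) (Nat.card S) with h | h
    · exact h
    · exact absurd (Subgroup.eq_of_le_of_card_ge hES h) hne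
  have h9 : 9 ≤ Nat.card E := by
    rcases hpearl with ⟨h1, _⟩ | ⟨h1, _⟩ <;> omega
  have hm3 : 3 ≤ m := by
    by_contra hcon
    have h2 : m ≤ 2 := by omega
    have h3 : 3 ^ m ≤ 3 ^ 2 := Nat.pow_le_pow_right (by norm_num) h2
    rw [hm] at hlt
    omega
  rcases Nat.lt_or_ge m 4 with h4 | h4
  · have hm3' : m = 3 := by omega
    subst hm3'
    left
    have hcS : Nat.card S = 27 := by rw [hm]; norm_num
    have hE9 : Nat.card E = 9 ∧ ∀ x ∈ E, x ^ 3 = 1 := by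
      rcases hpearl with ⟨h1, h2⟩ | ⟨h1, h2⟩
      · exact ⟨h1, fun x hx => (h2 x hx).1⟩
      · omega
    have hna : ∃ a b : ↥S, a * b ≠ b * a := p3_nonab 3 (le_refl 3) hm x hxC
    have hexp : ∀ g : ↥S, g ^ 3 = 1 := h60_pearl27_exp hS F hF E hE hE9.1 hcS hE9.2 hna
    exact ⟨p3_extraspecial27 hcS hna, hcS, p3_exponent hcS hexp⟩
  · right
    rcases h60_p3_rank m h4 hm x hxp hxC with h | h
    · left
      refine ⟨?_, fun H hH => h60_p3_transport S H hH (h (H.subgroupOf S))⟩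
      rw [hm]
      calc 81 = 3 ^ 4 := by norm_num
        _ ≤ 3 ^ m := Nat.pow_le_pow_right (by norm_num) h4
    · right
      exact h

end Cfsg.Agent.Lib.helper79.P3
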