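import Mathlib
import Cfsg.Agent.Lib.helper79.PearlX

/-!
# S5239 piece NONUNIF, sub-piece (b) "Y-shift" (helper60)

`h60_p3_nonunif_b`: in a 3-group of maximal class with a uniform element `x` and abelian `P_2`, if
`h` commutes with some `u ∈ P_2 ∖ P_(n-1)` then `[P_j, h] ≤ P_(j+2)` for all `j ≥ 2`.
-/

set_option autoImplicit false

namespace Cfsg.Agent.Lib.helper79.P3

open Cfsg.Agent.Lib.helper68 Cfsg.Agent.Lib.helper79

/-- on an abelian normal subgroup the maps `v ↦ com v h`, `v ↦ com v x` commute -/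
theorem h60_com_com_comm {G : Type*} [Group G] (P : Subgroup G) [hP : P.Normal]
    (hab : ∀ a ∈ P, ∀ b ∈ P, a * b = b * a) (v x h : G) (hv : v ∈ P)
    (hc : x * h * x⁻¹ * h⁻¹ ∈ P) : com (com v h) x = com (com v x) h := by
  have ha : h⁻¹ * v * h ∈ P := by
    have := hP.conj_mem v hv h⁻¹
    simpa using this
  have hb : x⁻¹ * v * x ∈ P := by
    have := hP.conj_mem v hv x⁻¹
    simpa using this
  have hd : x⁻¹ * (h⁻¹ * v * h) * x ∈ P := by
    have := hP.conj_mem _ ha x⁻¹
    simpa using this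
  have hcv : (x * h * x⁻¹ * h⁻¹)⁻¹ * v * (x * h * x⁻¹ * h⁻¹) = v := by
    have h1 := hab v hv _ hc
    rw [mul_assoc, h1, ← mul_assoc, inv_mul_cancel, one_mul]
  have he : h⁻¹ * (x⁻¹ * v * x) * h = x⁻¹ * (h⁻¹ * v * h) * x := by
    have h2 : h⁻¹ * (x⁻¹ * v * x) * h
        = x⁻¹ * h⁻¹ * ((x * h * x⁻¹ * h⁻¹)⁻¹ * v * (x * h * x⁻¹ * h⁻¹)) * h * x := by group
    rw [h2, hcv]
    group
  have e1 : com (com v h) x = (h⁻¹ * v * h)⁻¹ * v * (x⁻¹ * v * x)⁻¹ * (x⁻¹ * (h⁻¹ * v * h) * x) := by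
    unfold com
    group
  have e2 : com (com v x) h = (x⁻¹ * v * x)⁻¹ * v * (h⁻¹ * v * h)⁻¹ * (h⁻¹ * (x⁻¹ * v * x) * h) := by
    unfold com
    group
  rw [e1, e2, he]
  congr 1
  have hai : (h⁻¹ * v * h)⁻¹ ∈ P := P.inv_mem ha
  have hbi : (x⁻¹ * v * x)⁻¹ ∈ P := P.inv_mem hb
  have h3 : (h⁻¹ * v * h)⁻¹ * v * (x⁻¹ * v * x)⁻¹ = (x⁻¹ * v * x)⁻¹ * ((h⁻¹ * v * h)⁻¹ * v) :=
    hab _ (P.mul_mem hai hv) _ hbi
  rw [h3, hab _ hai v hv]
  group

theorem h60_com_eq_one_iff {G : Type*} [Group G] (a b : G) : com a b = 1 ↔ a * b = b * a := by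
  unfold com
  constructor
  · intro h
    have : a⁻¹ * b⁻¹ * a * b = 1 := h
    have h2 : a * b = b * a * (a⁻¹ * b⁻¹ * a * b) := by group
    rw [h2, this, mul_one]
  · intro h
    have h2 : a⁻¹ * b⁻¹ * a * b = a⁻¹ * b⁻¹ * (a * b) := by group
    rw [h2, h]
    group

theorem h60_p3_nonunif_b {G : Type*} [Group G] [Finite G] (n : ℕ) (hn : 4 ≤ n)
    (hG : Nat.card G = 3 ^ n) (x : G) (_hx : x ^ 3 = 1)
    (hC : Nat.card (Subgroup.centralizer ({x} : Set G)) = 3 ^ 2)
    (hab : ∀ a ∈ gam G 2, ∀ b ∈ gam G 2, a * b = b * a) (h : G) (u : G) (hu : u ∈ gam G 2)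
    (hu' : u ∉ gam G (n - 1)) (huh : u * h = h * u) :
    ∀ j, 2 ≤ j → ∀ v ∈ gam G j, com v h ∈ gam G (j + 2) := by
  have : Fact (Nat.Prime 3) := ⟨by norm_num⟩
  have hn3 : 3 ≤ n := by omega
  have hx1 : x ∈ gam G 1 := by simp [gam]
  have hh1 : h ∈ gam G 1 := by simp [gam]
  have hcP : x * h * x⁻¹ * h⁻¹ ∈ gam G 2 := by
    have h1 : com x⁻¹ h⁻¹ ∈ gam G (1 + 1) :=
      com_mem (by simp [gam] : x⁻¹ ∈ gam G 1) (by simp [gam] : h⁻¹ ∈ gam G 1)
    have h2 : com x⁻¹ h⁻¹ = x * h * x⁻¹ * h⁻¹ := by unfold com; group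
    rw [h2] at h1
    exact h1
  have hXY : ∀ v ∈ gam G 2, com (com v h) x = com (com v x) h := fun v hv =>
    h60_com_com_comm (gam G 2) hab v x h hv hcP
  -- depth of u
  have hex : ∃ k, u ∉ gam G (k + 1) := ⟨n - 2, by rwa [show n - 2 + 1 = n - 1 by omega]⟩
  classical
  obtain ⟨i, hi2, hin, hui, hui'⟩ : ∃ i, 2 ≤ i ∧ i + 2 ≤ n ∧ u ∈ gam G i ∧ u ∉ gam G (i + 1) := by
    refine ⟨Nat.find hex, ?_, ?_, ?_, Nat.find_spec hex⟩
    · by_contra hcon
      have hlt : Nat.find hex + 1 ≤ 2 := by omega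
      exact Nat.find_spec hex (gam_antitone hlt hu)
    · have : Nat.find hex ≤ n - 2 :=
        Nat.find_min' hex (by rwa [show n - 2 + 1 = n - 1 by omega])
      omega
    · by_contra hcon
      rcases Nat.eq_zero_or_pos (Nat.find hex) with h0 | hpos
      · rw [h0] at hcon
        exact hcon (by simp [gam])
      · have := Nat.find_min hex (m := Nat.find hex - 1) (by omega)
        apply this
        rwa [show Nat.find hex - 1 + 1 = Nat.find hex by omega]
  -- Claim A: elements of every depth `≥ i` commuting with `h`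
  have hA : ∀ t, i + t + 1 ≤ n → ∃ w ∈ gam G (i + t), w ∉ gam G (i + t + 1) ∧ w * h = h * w := by
    intro t
    induction t with
    | zero => intro _; exact ⟨u, hui, hui', huh⟩
    | succ t ih =>
      intro ht
      obtain ⟨w, hw, hw', hwh⟩ := ih (by omega)
      have hun := h79_px_unis 3 n hG x hC hn3 (i + t) (by omega) (by omega) w hw hw'
      refine ⟨com w x, hun.1, hun.2, ?_⟩
      have hw2 : w ∈ gam G 2 := gam_antitone (by omega) hw
      have h1 := hXY w hw2
      rw [(h60_com_eq_one_iff w h).mpr hwh] at h1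
      have h2 : com (1 : G) x = 1 := by unfold com; group
      rw [h2] at h1
      exact (h60_com_eq_one_iff _ _).mp h1.symm
  -- Claim B: `h` centralizes `P_k` for `k ≥ i`
  have hB : ∀ d k, k + d = n → i ≤ k → ∀ g ∈ gam G k, g * h = h * g := by
    intro d
    induction d with
    | zero =>
      intro k hk hik g hg
      have hk' : k = n := by omega
      subst hk'
      have hc := h79_px_card 3 k hG x hC hn3 k (by omega) le_rfl
      rw [Nat.sub_self, pow_zero] at hc
      have hbot : gam G k = ⊥ := Subgroup.card_eq_one.mp hc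
      rw [hbot, Subgroup.mem_bot] at hg
      rw [hg, one_mul, mul_one]
    | succ d ih =>
      intro k hk hik g hg
      obtain ⟨w, hw, hw', hwh⟩ := hA (k - i) (by omega)
      rw [show i + (k - i) = k by omega] at hw hw'
      have ih' := ih (k + 1) (by omega) (by omega)
      have hck := h79_px_card 3 n hG x hC hn3 k (by omega) (by omega)
      have hck1 := h79_px_card 3 n hG x hC hn3 (k + 1) (by omega) (by omega)
      set C : Subgroup G := gam G k ⊓ Subgroup.centralizer ({h} : Set G) with hCdef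
      have hmemC : ∀ y, y ∈ C ↔ y ∈ gam G k ∧ y * h = h * y := by
        intro y
        rw [hCdef, Subgroup.mem_inf, Subgroup.mem_centralizer_iff]
        constructor
        · rintro ⟨h1, h2⟩
          exact ⟨h1, (h2 h rfl).symm⟩
        · rintro ⟨h1, h2⟩
          refine ⟨h1, fun z hz => ?_⟩
          rw [Set.mem_singleton_iff] at hz
          rw [hz]
          exact h2.symm
      have hle1 : gam G (k + 1) ≤ C := fun y hy =>
        (hmemC y).mpr ⟨gam_antitone (Nat.le_succ k) hy, ih' y hy⟩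
      have hle2 : C ≤ gam G k := inf_le_left
      have hwC : w ∈ C := (hmemC w).mpr ⟨hw, hwh⟩
      have hlt : Nat.card (gam G (k + 1)) < Nat.card C := by
        by_contra hcon
        have := Subgroup.eq_of_le_of_card_ge hle1 (not_lt.mp hcon)
        exact hw' (this ▸ hwC)
      have hdvd : Nat.card C ∣ Nat.card (gam G k) := Subgroup.card_dvd_of_le hle2
      rw [hck] at hdvd
      obtain ⟨e, he, hce⟩ := (Nat.dvd_prime_pow (by norm_num : Nat.Prime 3)).mp hdvd
      rw [hck1, hce] at hlt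
      have hlt2 : n - (k + 1) < e := (Nat.pow_lt_pow_iff_right (by norm_num : 1 < 3)).mp hlt
      have hee : e = n - k := by omega
      have hCeq : C = gam G k := by
        apply Subgroup.eq_of_le_of_card_ge hle2
        rw [hck, hce, hee]
      have hgC : g ∈ C := hCeq ▸ hg
      exact ((hmemC g).mp hgC).2
  have hcen : ∀ g ∈ gam G i, g * h = h * g := hB (n - i) i (by omega) le_rfl
  -- Claim C: downward induction on `j ≤ i`
  have hCl : ∀ d j, j + d = i → 2 ≤ j → ∀ v ∈ gam G j, com v h ∈ gam G (j + 2) := by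
    intro d
    induction d with
    | zero =>
      intro j hj hj2 v hv
      have hj' : j = i := by omega
      subst hj'
      rw [(h60_com_eq_one_iff v h).mpr (hcen v hv)]
      exact Subgroup.one_mem _
    | succ d ih =>
      intro j hj hj2 v hv
      have hv2 : v ∈ gam G 2 := gam_antitone hj2 hv
      have h1 : com v x ∈ gam G (j + 1) := com_mem hv hx1
      have h2 := ih (j + 1) (by omega) (by omega) (com v x) h1
      rw [← hXY v hv2] at h2
      have hy : com v h ∈ gam G (j + 1) := com_mem hv hh1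
      by_contra hcon
      have hun := h79_px_unis 3 n hG x hC hn3 (j + 1) (by omega) (by omega) (com v h) hy hcon
      exact hun.2 h2
  intro j hj2 v hv
  rcases Nat.lt_or_ge j i with hlt | hge
  · exact hCl (i - j) j (by omega) hj2 v hv
  · rw [(h60_com_eq_one_iff v h).mpr (hcen v (gam_antitone hge hv))]
    exact Subgroup.one_mem _

end Cfsg.Agent.Lib.helper79.P3
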