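import Mathlib
import Cfsg.Prelude.Def_CaseTheorems
import Cfsg.Agent.Lib.helper65.MaxClassP
import Cfsg.Agent.Lib.helper59.MaxClass2
import Cfsg.Agent.S0115

/-!
# S3390, piece C (helper60): Suzuki's lemma — a non-cyclic 2-group with an involution whose
centralizer has order 4 is dihedral or quasi-dihedral.
-/

set_option autoImplicit false

namespace Cfsg.Agent.Lib.helper60.S3390C

open Subgroup

/-- In a generalized quaternion presentation (`b` inverts `a`, `b² = a^k ≠ 1`, `⟨a⟩` of index 2)
every element of square `1` outside `⟨a⟩` is excluded: an element `b * w`, `w ∈ ⟨a⟩`, squares to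
`b²`. -/
theorem sq_mul_of_inverts {P : Type*} [Group P] {a b w : P} (hinv : b * a * b⁻¹ = a⁻¹)
    (hb2 : b ^ 2 ∈ zpowers a) (hw : w ∈ zpowers a) : (b * w) ^ 2 = b ^ 2 := by
  obtain ⟨i, rfl⟩ := mem_zpowers_iff.mp hw
  have h' : b * a * b⁻¹ = a ^ (-1 : ℤ) := by rw [hinv, zpow_neg_one]
  have h1 : b * a ^ i * b⁻¹ = a ^ (-1 * i) :=
    Cfsg.Agent.Lib.helper59.conj_zpow_of_conj_eq h' i
  have h2 : b ^ 2 * a ^ i = a ^ i * b ^ 2 :=
    Cfsg.Agent.Lib.helper59.comm_zpow_of_mem_zpowers hb2 i
  have h3 : a ^ (-1 * i) * a ^ i = 1 := by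
    rw [← zpow_add]; simp
  calc (b * a ^ i) ^ 2 = (b * a ^ i * b⁻¹) * (b ^ 2 * a ^ i) := by rw [pow_two, pow_two]; group
    _ = a ^ (-1 * i) * (a ^ i * b ^ 2) := by rw [h1, h2]
    _ = b ^ 2 := by rw [← mul_assoc, h3, one_mul]

/-- PIECE C (Suzuki): a non-cyclic 2-group with an involution whose centralizer has order 4 is
dihedral or quasi-dihedral. -/
theorem suzuki {P : Type*} [Group P] [Finite P] (hP : IsPGroup 2 P) (u : P) (hu : orderOf u = 2)
    (hC : Nat.card ↥(Subgroup.centralizer ({u} : Set P)) = 4) (hnc : ¬ IsCyclic P) :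
    (∃ n : ℕ, Nonempty (P ≃* DihedralGroup n)) ∨ Cfsg.IsQuasiDihedral P := by
  have hp2 : Fact (Nat.Prime 2) := ⟨Nat.prime_two⟩
  obtain ⟨n, hn⟩ := (IsPGroup.iff_card).mp hP
  have h4 : 4 ∣ Nat.card P := hC ▸ Subgroup.card_subgroup_dvd_card _
  have hn2 : 2 ≤ n := by
    by_contra h
    have hn01 : n = 0 ∨ n = 1 := by omega
    rcases hn01 with rfl | rfl
    · rw [hn] at h4; norm_num at h4
    · rw [hn] at h4; norm_num at h4
  rcases Nat.lt_or_ge n 3 with hlt | h3
  · -- order 4
    have hn' : n = 2 := by omega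
    subst hn'
    have hexp : Monoid.exponent P = 2 :=
      (not_isCyclic_iff_exponent_eq_prime Nat.prime_two hn).mp hnc
    have hK : IsKleinFour P := ⟨by rw [hn]; norm_num, hexp⟩
    exact Or.inl ⟨2, IsKleinFour.nonempty_mulEquiv⟩
  · -- order at least 8: maximal class
    have hclass : Group.nilpotencyClass P = n - 1 :=
      Cfsg.Agent.Lib.helper65.nilpotencyClass_eq_of_card_centralizer (p := 2) n hn2 P hn
        ⟨u, by rw [hC]; norm_num⟩
    have hidx : (commutator P).index = 4 :=
      Cfsg.Agent.S0115.index_commutator_of_maxClass n h3 hn hclass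
    obtain ⟨N, rfl⟩ : ∃ N, n = N + 3 := ⟨n - 3, by omega⟩
    obtain ⟨a, b, hord, hb, hcase⟩ := Cfsg.Agent.Lib.helper59.taussky_rel N hn hidx
    have hb1 : b ≠ 1 := fun h => hb (h ▸ one_mem _)
    rcases hcase with ⟨hb2, hinv⟩ | ⟨hb2, hinv⟩ | ⟨hN, hb2, hsd⟩
    · -- dihedral
      left
      refine ⟨2 ^ (N + 2), ?_⟩
      exact Cfsg.Agent.Lib.helper59.dihedral_equiv_of_rel (2 ^ (N + 2)) a b hord
        (by rw [hn]; ring) hb hb2 hinv
    · -- generalized quaternion: impossible
      exfalso
      have hord' : orderOf a = 2 * 2 ^ (N + 1) := by rw [hord]; ring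
      have hb2mem : b ^ 2 ∈ zpowers a := by rw [hb2]; exact pow_mem (mem_zpowers a) _
      have hb2ne : b ^ 2 ≠ 1 := by
        rw [hb2]
        intro h
        have := orderOf_dvd_of_pow_eq_one h
        rw [hord] at this
        have h5 := Nat.le_of_dvd (by positivity) this
        have h6 : (2 : ℕ) ^ (N + 1) < 2 ^ (N + 2) := Nat.pow_lt_pow_right (by norm_num) (by omega)
        omega
      have hu2 : u ^ 2 = 1 := by rw [← hu]; exact pow_orderOf_eq_one u
      have hu1 : u ≠ 1 := by
        intro h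
        rw [h, orderOf_one] at hu
        norm_num at hu
      -- index of `⟨a⟩` is 2
      have hidx2 : (zpowers a).index = 2 := by
        have h := Subgroup.card_mul_index (zpowers a)
        rw [Nat.card_zpowers, hord, hn] at h
        have h7 : (2 : ℕ) ^ (N + 3) = 2 ^ (N + 2) * 2 := by ring
        rw [h7] at h
        exact Nat.eq_of_mul_eq_mul_left (by positivity) h
      -- `u ∈ ⟨a⟩`
      have huA : u ∈ zpowers a := by
        by_contra hu'
        have hbinv : b⁻¹ ∉ zpowers a := fun h => hb (inv_mem_iff.mp h)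
        have hw : b⁻¹ * u ∈ zpowers a := by
          rw [Subgroup.mul_mem_iff_of_index_two hidx2]
          exact ⟨fun h => absurd h hbinv, fun h => absurd h hu'⟩
        have h8 := sq_mul_of_inverts hinv hb2mem hw
        have h9 : b * (b⁻¹ * u) = u := by group
        rw [h9, hu2] at h8
        exact hb2ne h8.symm
      have huz : u = a ^ (2 ^ (N + 1)) := by
        rcases Cfsg.Agent.Lib.helper59.eq_one_or_eq_pow_of_sq_eq_one hord' huA hu2 with h | h
        · exact absurd h hu1
        · exact h
      have hub : u = b ^ 2 := by rw [huz, hb2]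
      -- the centralizer of `u` contains `⟨a⟩` and `b`
      have hle : zpowers a ≤ Subgroup.centralizer ({u} : Set P) := by
        intro w hw
        rw [Subgroup.mem_centralizer_iff]
        intro x hx
        rw [Set.mem_singleton_iff] at hx
        subst hx
        obtain ⟨i, rfl⟩ := mem_zpowers_iff.mp hw
        exact (Cfsg.Agent.Lib.helper59.comm_zpow_of_mem_zpowers huA i)
      have hbC : b ∈ Subgroup.centralizer ({u} : Set P) := by
        rw [Subgroup.mem_centralizer_iff]
        intro x hx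
        rw [Set.mem_singleton_iff] at hx
        subst hx
        rw [hub, pow_two]; group
      have hcard : Nat.card ↥(Subgroup.centralizer ({u} : Set P)) ≤ Nat.card ↥(zpowers a) := by
        rw [hC, Nat.card_zpowers, hord]
        have : (2 : ℕ) ^ 2 ≤ 2 ^ (N + 2) := Nat.pow_le_pow_right (by norm_num) (by omega)
        omega
      have heq := Subgroup.eq_of_le_of_card_ge hle hcard
      exact hb (heq ▸ hbC)
    · -- quasi-dihedral
      right
      refine ⟨N + 2, by omega, hn, a, b, hord, ?_, ?_⟩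
      · exact orderOf_eq_prime hb2 hb1
      · rw [show N + 2 - 1 = N + 1 by omega]
        exact hsd

end Cfsg.Agent.Lib.helper60.S3390C
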