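import Mathlib
import Cfsg.Agent.Lib.helper37.S3390Defs
import Cfsg.Agent.Lib.helper25.Fus2

/-!
# S3390, piece E (helper60): transfer gives a normal subgroup of index 2 meeting `S` in `T`.
-/

set_option autoImplicit false

namespace Cfsg.Agent.Lib.helper60.S3390E

open Cfsg.Agent.Lib.helper37.S3390

variable {G : Type*} [Group G] [Finite G] {Ω : Type*} [MulAction G Ω]

omit [Finite G] in
/-- In the configuration `Cfg`, a non-identity element of `S` with a fixed point lies in `T`. -/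
theorem mem_T_of_fixed (S : Subgroup G) (α : Ω) (n : G) (c : Cfg G Ω S α n)
    (y : G) (hyS : y ∈ S) (hy1 : y ≠ 1) (ω : Ω) (hω : y • ω = ω) :
    y ∈ S ⊓ MulAction.stabilizer G α := by
  have hne : S ⊓ MulAction.stabilizer G ω ≠ ⊥ := by
    intro h
    have : y ∈ S ⊓ MulAction.stabilizer G ω := ⟨hyS, hω⟩
    rw [h] at this
    exact hy1 this
  by_cases h1 : ω = α
  · subst h1
    exact ⟨hyS, hω⟩
  by_cases h2 : ω = n • α
  · subst h2
    have h3 : (n⁻¹ * y * n) • α = α := by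
      rw [mul_smul, mul_smul, hω, inv_smul_smul]
    have h4 : n⁻¹ * y * n ∈ S ⊓ MulAction.stabilizer G α :=
      ⟨S.mul_mem (S.mul_mem (S.inv_mem c.hnS) hyS) c.hnS, h3⟩
    have h5 := c.hnT _ h4
    have h6 : n * (n⁻¹ * y * n) * n⁻¹ = y := by group
    rwa [h6] at h5
  · exact absurd (c.hreg ω h1 h2) hne

/-- PIECE E: transfer gives a normal subgroup of index 2 meeting `S` in `T`. -/
theorem exists_index_two (S : Sylow 2 G) (α : Ω) (n : G) (c : Cfg G Ω (S : Subgroup G) α n) :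
    ∃ N : Subgroup G, N.Normal ∧ N.index = 2 ∧
      N ⊓ (S : Subgroup G) = (S : Subgroup G) ⊓ MulAction.stabilizer G α := by
  haveI : Fact (Nat.Prime 2) := ⟨Nat.prime_two⟩
  set T : Subgroup G := (S : Subgroup G) ⊓ MulAction.stabilizer G α with hT
  have hidx : (T.subgroupOf (S : Subgroup G)).index = 2 := c.hidx
  have hfus : ∀ a ∈ (S : Subgroup G), ∀ g : G, g * a * g⁻¹ ∈ (S : Subgroup G) →
      a * (g * a * g⁻¹)⁻¹ ∈ T := by
    intro a ha g hb
    by_cases ha1 : a = 1
    · subst ha1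
      simp
    have hb1 : g * a * g⁻¹ ≠ 1 := by
      intro h
      apply ha1
      have : a = g⁻¹ * (g * a * g⁻¹) * g := by group
      rw [this, h]; group
    have hiff : a ∈ T ↔ g * a * g⁻¹ ∈ T := by
      constructor
      · intro haT
        have hfix : (g * a * g⁻¹) • (g • α) = g • α := by
          rw [mul_smul, mul_smul, inv_smul_smul, MulAction.mem_stabilizer_iff.mp haT.2]
        exact mem_T_of_fixed (S : Subgroup G) α n c _ hb hb1 _ hfix
      · intro hbT
        have hfix : a • (g⁻¹ • α) = g⁻¹ • α := by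
          have h := MulAction.mem_stabilizer_iff.mp hbT.2
          have : a • (g⁻¹ • α) = g⁻¹ • ((g * a * g⁻¹) • α) := by
            simp [mul_smul]
          rw [this, h]
        exact mem_T_of_fixed (S : Subgroup G) α n c _ ha ha1 _ hfix
    have key := Subgroup.mul_mem_iff_of_index_two hidx
      (a := (⟨a, ha⟩ : ↥(S : Subgroup G)))
      (b := (⟨g * a * g⁻¹, hb⟩ : ↥(S : Subgroup G))⁻¹)
    have h1 : ((⟨a, ha⟩ : ↥(S : Subgroup G)) ∈ T.subgroupOf (S : Subgroup G)) ↔ a ∈ T :=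
      Subgroup.mem_subgroupOf
    have h2 : ((⟨g * a * g⁻¹, hb⟩ : ↥(S : Subgroup G))⁻¹ ∈ T.subgroupOf (S : Subgroup G)) ↔
        g * a * g⁻¹ ∈ T := by
      rw [inv_mem_iff]
      exact Subgroup.mem_subgroupOf
    have h3 : (⟨a, ha⟩ : ↥(S : Subgroup G)) * (⟨g * a * g⁻¹, hb⟩ : ↥(S : Subgroup G))⁻¹ ∈
        T.subgroupOf (S : Subgroup G) := by
      rw [key, h1, h2]
      exact hiff
    exact Subgroup.mem_subgroupOf.mp h3
  obtain ⟨K, hKn, hKS, hKi⟩ :=
    Cfsg.Agent.Lib.helper25.exists_normal_of_fusion S T inf_le_left hfus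
  exact ⟨K, hKn, hKi.trans c.hidx, hKS⟩

end Cfsg.Agent.Lib.helper60.S3390E
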