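import Mathlib
import Cfsg.Agent.Lib.helper60.S3806_CA

/-! S3806, piece C (helper60): `(s c)^p = s^p c^p` for `c` in an abelian `s`-invariant subgroup. -/

set_option autoImplicit false

namespace Cfsg.Agent.Lib.helper12.MC

/-- Additive core: for an endomorphism `f` of an abelian group, `D = f - 1`, if `D c` lies in an
`f`-invariant subgroup of exponent `p` and `D^(p-1) c = 0`, then `∑_{i<p} f^i c = p • c`. -/
theorem helper60_sum_pow_apply {M : Type*} [AddCommGroup M] (f : AddMonoid.End M) (p : ℕ)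
    [Fact p.Prime] (c : M) (B : AddSubgroup M) (hfB : ∀ b ∈ B, f b ∈ B)
    (hBp : ∀ b ∈ B, p • b = 0) (hcB : f c - c ∈ B) (hnil : ((f - 1) ^ (p - 1)) c = 0) :
    ∑ i ∈ Finset.range p, (f ^ i) c = p • c := by
  have hp : p.Prime := Fact.out
  set D : AddMonoid.End M := f - 1 with hD
  have hf : f = 1 + D := by rw [hD]; abel
  have hDapp : ∀ x : M, D x = f x - x := by
    intro x
    rfl
  have hDB : ∀ b ∈ B, D b ∈ B := by
    intro b hb
    rw [hDapp]
    exact B.sub_mem (hfB b hb) hb
  have hDm : ∀ m : ℕ, 1 ≤ m → (D ^ m) c ∈ B := by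
    intro m hm
    induction m with
    | zero => omega
    | succ m ih =>
      rw [pow_succ', AddMonoid.End.coe_mul, Function.comp_apply]
      rcases Nat.eq_zero_or_pos m with h0 | h0
      · subst h0
        rw [pow_zero, AddMonoid.End.one_apply, hDapp]
        exact hcB
      · exact hDB _ (ih h0)
  have hsum : ∑ i ∈ Finset.range p, f ^ i = ∑ m ∈ Finset.range p, (p.choose (m + 1)) • D ^ m := by
    rw [hf]
    exact sum_pow_eq_choose D p
  let ev : AddMonoid.End M →+ M :=
    { toFun := fun g => g c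
      map_zero' := rfl
      map_add' := fun _ _ => rfl }
  have hev : ∀ g : AddMonoid.End M, ev g = g c := fun _ => rfl
  have h1 : ∑ i ∈ Finset.range p, (f ^ i) c = ev (∑ i ∈ Finset.range p, f ^ i) := by
    rw [map_sum]
    rfl
  rw [h1, hsum, map_sum]
  rw [Finset.sum_eq_single 0]
  · rw [map_nsmul, hev, pow_zero, zero_add, Nat.choose_one_right]
    rfl
  · intro m hm hm0
    rw [Finset.mem_range] at hm
    rw [map_nsmul, hev]
    by_cases hlast : m = p - 1
    · rw [hlast, hnil, nsmul_zero]
    · have hdvd : p ∣ p.choose (m + 1) := hp.dvd_choose_self (by omega) (by omega)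
      obtain ⟨t, ht⟩ := hdvd
      rw [ht, mul_nsmul, hBp _ (hDm m (by omega)), nsmul_zero]
  · intro h
    exact absurd (Finset.mem_range.mpr hp.pos) h

/-- C: `(s c)^p = s^p c^p` for `c` in an abelian `s`-invariant subgroup `A`, when `[c, s]` lies in an
`s`-invariant subgroup `B ≤ A` of exponent `p` and `[c, s, …, s] = 1` (`p - 1` times). -/
theorem mul_pow_eq_of_abelian (p : ℕ) [Fact p.Prime] {T : Type*} [Group T] (A B : Subgroup T)
    (hA : ∀ x ∈ A, ∀ y ∈ A, x * y = y * x) (s : T) (hsA : ∀ a ∈ A, s⁻¹ * a * s ∈ A)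
    (_hBA : B ≤ A) (hsB : ∀ b ∈ B, s⁻¹ * b * s ∈ B) (hBp : ∀ b ∈ B, b ^ p = 1)
    (c : T) (hc : c ∈ A) (hcB : c⁻¹ * (s⁻¹ * c * s) ∈ B)
    (hnil : (fun v : T => v⁻¹ * (s⁻¹ * v * s))^[p - 1] c = 1) :
    (s * c) ^ p = s ^ p * c ^ p := by
  classical
  let _ : CommGroup ↥A :=
    { (inferInstance : Group ↥A) with
      mul_comm := fun x y => Subtype.ext (hA x x.2 y y.2) }
  let σ : ↥A →* ↥A :=
    { toFun := fun a => ⟨s⁻¹ * a * s, hsA a a.2⟩
      map_one' := by
        apply Subtype.ext
        simp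
      map_mul' := by
        intro a b
        apply Subtype.ext
        simp only [Subgroup.coe_mul]
        group }
  let f : AddMonoid.End (Additive ↥A) := MonoidHom.toAdditive σ
  let c' : Additive ↥A := Additive.ofMul ⟨c, hc⟩
  let B' : AddSubgroup (Additive ↥A) := Subgroup.toAddSubgroup (B.subgroupOf A)
  have hmemB' : ∀ x : Additive ↥A, x ∈ B' ↔ ((Additive.toMul x : ↥A) : T) ∈ B := by
    intro x
    rfl
  have hfapp : ∀ x : Additive ↥A, ((Additive.toMul (f x) : ↥A) : T) =
      s⁻¹ * ((Additive.toMul x : ↥A) : T) * s := by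
    intro x
    rfl
  -- the value in `T` of a difference
  have hsubT : ∀ x y : Additive ↥A, ((Additive.toMul (x - y) : ↥A) : T) =
      ((Additive.toMul y : ↥A) : T)⁻¹ * ((Additive.toMul x : ↥A) : T) := by
    intro x y
    have h1 : (Additive.toMul (x - y) : ↥A) = (Additive.toMul y)⁻¹ * Additive.toMul x := by
      rw [toMul_sub, div_eq_mul_inv, mul_comm]
    rw [h1]
    simp
  have hfB : ∀ b ∈ B', f b ∈ B' := by
    intro b hb
    rw [hmemB'] at hb ⊢
    rw [hfapp]
    exact hsB _ hb
  have hBp' : ∀ b ∈ B', p • b = 0 := by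
    intro b hb
    rw [hmemB'] at hb
    have h1 : ((Additive.toMul b : ↥A) : T) ^ p = 1 := hBp _ hb
    have h2 : (Additive.toMul b : ↥A) ^ p = 1 := by
      apply Subtype.ext
      simpa using h1
    have h3 : Additive.toMul (p • b) = (Additive.toMul b : ↥A) ^ p := toMul_nsmul p b
    apply Additive.toMul.injective
    rw [h3, h2]
    rfl
  have hcB' : f c' - c' ∈ B' := by
    rw [hmemB', hsubT, hfapp]
    exact hcB
  -- iterates of `f - 1` compute the iterated commutators
  have hiter : ∀ m : ℕ, ((Additive.toMul (((f - 1) ^ m) c') : ↥A) : T) =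
      (fun v : T => v⁻¹ * (s⁻¹ * v * s))^[m] c := by
    intro m
    induction m with
    | zero => rfl
    | succ m ih =>
      rw [pow_succ', AddMonoid.End.coe_mul, Function.comp_apply, Function.iterate_succ_apply', ← ih]
      have h1 : (f - 1) (((f - 1) ^ m) c') = f (((f - 1) ^ m) c') - ((f - 1) ^ m) c' := rfl
      rw [h1, hsubT, hfapp]
  have hnil' : ((f - 1) ^ (p - 1)) c' = 0 := by
    apply Additive.toMul.injective
    apply Subtype.ext
    rw [hiter, hnil]
    rfl
  have hkey := helper60_sum_pow_apply f p c' B' hfB hBp' hcB' hnil'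
  -- the power formula
  have hpow : ∀ n : ℕ, (s * c) ^ n =
      s ^ n * ((Additive.toMul (∑ i ∈ Finset.range n, (f ^ i) c') : ↥A) : T) := by
    intro n
    induction n with
    | zero => simp
    | succ n ih =>
      rw [pow_succ, ih, Finset.sum_range_succ']
      have h1 : ∑ i ∈ Finset.range n, (f ^ (i + 1)) c' =
          f (∑ i ∈ Finset.range n, (f ^ i) c') := by
        rw [map_sum]
        apply Finset.sum_congr rfl
        intro i _
        rw [pow_succ', AddMonoid.End.coe_mul, Function.comp_apply]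
      rw [h1, pow_zero, AddMonoid.End.one_apply]
      have h2 : ((Additive.toMul (f (∑ i ∈ Finset.range n, (f ^ i) c') + c') : ↥A) : T) =
          (s⁻¹ * ((Additive.toMul (∑ i ∈ Finset.range n, (f ^ i) c') : ↥A) : T) * s) * c := by
        rw [toMul_add, Subgroup.coe_mul, hfapp]
        rfl
      rw [h2, pow_succ]
      group
  rw [hpow p, hkey]
  have h3 : ((Additive.toMul (p • c') : ↥A) : T) = c ^ p := by
    rw [toMul_nsmul]
    rfl
  rw [h3]

end Cfsg.Agent.Lib.helper12.MC
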