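import Mathlib
import Cfsg.Agent.Lib.helper24.SfoDefs
import Cfsg.Agent.Lib.helper6.SLCard

/-!
# S5981 piece OIDX (helper60, racing copy): index arithmetic for the orthogonal-type subgroup, core

`h60_sfo_idx_even_core` takes the lower bound OLB for the `r`-part of the isometry group and the
determinant fact ODET as hypotheses.
-/

set_option autoImplicit false

namespace Cfsg.Agent.Lib.helper60

open Module Matrix Cfsg.Geo Cfsg.Agent.Lib.helper24

theorem h60_padicValNat_prod {ι : Type*} (p : ℕ) [hp : Fact p.Prime] (s : Finset ι)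
    (f : ι → ℕ) (hf : ∀ i ∈ s, f i ≠ 0) :
    padicValNat p (∏ i ∈ s, f i) = ∑ i ∈ s, padicValNat p (f i) := by
  classical
  induction s using Finset.induction_on with
  | empty => simp
  | insert a s ha ih =>
    rw [Finset.prod_insert ha, Finset.sum_insert ha,
      padicValNat.mul (hf a (Finset.mem_insert_self a s))
        (Finset.prod_ne_zero_iff.2 (fun i hi => hf i (Finset.mem_insert_of_mem hi))),
      ih (fun i hi => hf i (Finset.mem_insert_of_mem hi))]

/-- the isometry group lies in the similarity group -/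
theorem h60_sfoIsom_le_sim {F : Type*} [Field F] {n : ℕ} (Q : (Fin n → F) → F) :
    sfoIsom Q ≤ quadSimilarityGroup Q := by
  intro g hg
  exact ⟨1, fun v => by rw [hg v, Units.val_one, one_mul]⟩

theorem h60_card_subgroupOf {G : Type*} [Group G] (H K : Subgroup G) :
    Nat.card (H.subgroupOf K) = Nat.card (H ⊓ K : Subgroup G) := by
  rw [← Subgroup.inf_subgroupOf_right H K]
  exact Nat.card_congr (Subgroup.subgroupOfEquivOfLe inf_le_right).toEquiv

/-- `r ∣ q^t - 1` forces the order of `q` modulo `r` to divide `t`. -/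
theorem h60_order_dvd_of_dvd (q r t : ℕ) (hq : 1 ≤ q) (h : r ∣ q ^ t - 1) :
    orderOf ((q : ℕ) : ZMod r) ∣ t := by
  rw [orderOf_dvd_iff_pow_eq_one]
  have h1 : (((q ^ t - 1 : ℕ)) : ZMod r) = 0 := (ZMod.natCast_eq_zero_iff _ r).2 h
  rw [Nat.cast_sub (Nat.one_le_pow _ _ hq)] at h1
  push_cast at h1
  exact sub_eq_zero.1 h1

/-- the `r`-adic valuation of `∏ (q^n - q^j)` -/
theorem h60_val_GL (q r n : ℕ) [hr : Fact r.Prime] (hq : 2 ≤ q) (hrq : ¬ r ∣ q) :
    padicValNat r (∏ j : Fin n, (q ^ n - q ^ (j : ℕ))) =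
      ∑ t ∈ (Finset.range (n + 1)).filter (fun t => orderOf ((q : ℕ) : ZMod r) ∣ t),
        padicValNat r (q ^ t - 1) := by
  classical
  have hne : ∀ j ∈ (Finset.univ : Finset (Fin n)), q ^ n - q ^ (j : ℕ) ≠ 0 := by
    intro j _
    have := Nat.pow_lt_pow_right (by omega : 1 < q) j.2
    omega
  rw [h60_padicValNat_prod r _ _ hne]
  have hsplit : ∀ j : Fin n,
      padicValNat r (q ^ n - q ^ (j : ℕ)) = padicValNat r (q ^ (n - (j : ℕ)) - 1) := by
    intro j
    have h1 : q ^ n - q ^ (j : ℕ) = q ^ (j : ℕ) * (q ^ (n - (j : ℕ)) - 1) := by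
      rw [Nat.mul_sub, mul_one, ← pow_add, Nat.add_sub_cancel' (le_of_lt j.2)]
    have h2 : q ^ (n - (j : ℕ)) - 1 ≠ 0 := by
      have := Nat.pow_lt_pow_right (by omega : 1 < q) (by omega : 0 < n - (j : ℕ))
      rw [pow_zero] at this
      omega
    have h4 : q ^ (j : ℕ) ≠ 0 := by positivity
    rw [h1, padicValNat.mul h4 h2,
      padicValNat.eq_zero_of_not_dvd (fun h => hrq (hr.out.dvd_of_dvd_pow h)), zero_add]
  simp only [hsplit]
  rw [Fin.sum_univ_eq_sum_range (fun j => padicValNat r (q ^ (n - j) - 1)) n]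
  rw [Finset.sum_filter]
  rw [Finset.sum_range_succ']
  have h0 : (if orderOf ((q : ℕ) : ZMod r) ∣ 0 then padicValNat r (q ^ 0 - 1) else 0) = 0 := by
    simp
  rw [h0, add_zero]
  rw [← Finset.sum_range_reflect (fun j => padicValNat r (q ^ (n - j) - 1)) n]
  apply Finset.sum_congr rfl
  intro m hm
  rw [Finset.mem_range] at hm
  have e : n - (n - 1 - m) = m + 1 := by omega
  rw [e]
  by_cases hd : orderOf ((q : ℕ) : ZMod r) ∣ m + 1
  · rw [if_pos hd]
  · rw [if_neg hd]
    apply padicValNat.eq_zero_of_not_dvd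
    intro h
    exact hd (h60_order_dvd_of_dvd q r (m + 1) (by omega) h)

/-- OIDX, with OLB and ODET as hypotheses -/
theorem h60_sfo_idx_even_core {F : Type*} [Field F] [Fintype F] {n : ℕ} (hn : 1 ≤ n)
    (Q : (Fin n → F) → F) (r : ℕ) [Fact r.Prime]
    (hr2 : r ≠ 2) (hrF : (r : F) ≠ 0) (hnd : ¬ r ∣ Fintype.card F - 1)
    (hOLB : (∑ t ∈ (Finset.range n).filter
          (fun t => orderOf ((Fintype.card F : ℕ) : ZMod r) ∣ t),
        padicValNat r (Fintype.card F ^ t - 1)) +
      (if orderOf ((Fintype.card F : ℕ) : ZMod r) ∣ n ∧ r ∣ sfoCount Q 1 then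
        padicValNat r (Fintype.card F ^ n - 1) else 0)
      ≤ padicValNat r (Nat.card (sfoIsom Q)))
    (hDET : ∀ g ∈ sfoIsom Q, (g : Matrix (Fin n) (Fin n) F).det ^ 2 = 1)
    (hΩ : r ∣ (quadSimilarityGroup Q).relIndex (specialLinear (Fin n) F)) :
    orderOf ((Fintype.card F : ℕ) : ZMod r) ∣ n ∧ ¬ r ∣ sfoCount Q 1 := by
  classical
  have hr : r.Prime := Fact.out
  by_contra hcon
  have hq2 : 2 ≤ Fintype.card F := Fintype.one_lt_card
  have hrq : ¬ r ∣ Fintype.card F := by
    intro hrq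
    obtain ⟨p, hpc⟩ := CharP.exists F
    have hpp : p.Prime := CharP.char_is_prime F p
    obtain ⟨k, -, hk⟩ := FiniteField.card F p
    rw [hk] at hrq
    have h3 := (Nat.prime_dvd_prime_iff_eq hr hpp).mp (hr.dvd_of_dvd_pow hrq)
    apply hrF
    rw [h3]
    exact CharP.cast_eq_zero F p
  -- the lower bound, over `range (n+1)`
  have hS : (∑ t ∈ (Finset.range (n + 1)).filter
        (fun t => orderOf ((Fintype.card F : ℕ) : ZMod r) ∣ t),
        padicValNat r (Fintype.card F ^ t - 1)) ≤ padicValNat r (Nat.card (sfoIsom Q)) := by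
    rw [Finset.range_add_one, Finset.filter_insert]
    by_cases hin : orderOf ((Fintype.card F : ℕ) : ZMod r) ∣ n
    · have hN : r ∣ sfoCount Q 1 := by
        by_contra hN
        exact hcon ⟨hin, hN⟩
      rw [if_pos hin, Finset.sum_insert (by simp)]
      rw [if_pos ⟨hin, hN⟩] at hOLB
      omega
    · rw [if_neg hin]
      rw [if_neg (fun h => hin h.1)] at hOLB
      omega
  rw [← h60_val_GL (Fintype.card F) r n hq2 hrq] at hS
  -- |SL| (q - 1) = ∏
  have h4 := Cfsg.Agent.Lib.helper6.card_SL (F := F) n hn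
  rw [Nat.card_congr (Cfsg.Agent.Lib.helper6.slEquivKerDet (F := F) n)] at h4
  have h4' : (Fintype.card F - 1) * Nat.card (specialLinear (Fin n) F) =
      ∏ j : Fin n, (Fintype.card F ^ n - Fintype.card F ^ (j : ℕ)) := h4
  have hSLpos : Nat.card (specialLinear (Fin n) F) ≠ 0 := Nat.card_pos.ne'
  have hvSL : padicValNat r (Nat.card (specialLinear (Fin n) F)) =
      padicValNat r (∏ j : Fin n, (Fintype.card F ^ n - Fintype.card F ^ (j : ℕ))) := by
    rw [← h4', padicValNat.mul (by omega) hSLpos, padicValNat.eq_zero_of_not_dvd hnd, zero_add]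
  -- (1) |SL| = relIndex * |sim ⊓ SL|
  have h1 : Nat.card (specialLinear (Fin n) F) =
      (quadSimilarityGroup Q).relIndex (specialLinear (Fin n) F) *
        Nat.card (quadSimilarityGroup Q ⊓ specialLinear (Fin n) F : Subgroup (GL (Fin n) F)) := by
    have := Subgroup.card_mul_index ((quadSimilarityGroup Q).subgroupOf (specialLinear (Fin n) F))
    rw [h60_card_subgroupOf] at this
    rw [← this, mul_comm]
    rfl
  -- (2) |SO| divides |sim ⊓ SL|
  have h2 : Nat.card (sfoIsom Q ⊓ specialLinear (Fin n) F : Subgroup (GL (Fin n) F)) ∣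
      Nat.card (quadSimilarityGroup Q ⊓ specialLinear (Fin n) F : Subgroup (GL (Fin n) F)) :=
    Subgroup.card_dvd_of_le (inf_le_inf_right _ (h60_sfoIsom_le_sim Q))
  -- (3) |O| = |SO| * d, d ∣ 2
  have h3 : ∃ d, d ∣ 2 ∧ Nat.card (sfoIsom Q) =
      Nat.card (sfoIsom Q ⊓ specialLinear (Fin n) F : Subgroup (GL (Fin n) F)) * d := by
    let φ : sfoIsom Q →* Fˣ :=
      (Matrix.GeneralLinearGroup.det : GL (Fin n) F →* Fˣ).comp (sfoIsom Q).subtype
    have hker : φ.ker = (specialLinear (Fin n) F).subgroupOf (sfoIsom Q) := by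
      ext g
      rw [MonoidHom.mem_ker, Subgroup.mem_subgroupOf]
      show Matrix.GeneralLinearGroup.det (g : GL (Fin n) F) = 1 ↔
        (g : GL (Fin n) F) ∈ (Matrix.GeneralLinearGroup.det : GL (Fin n) F →* Fˣ).ker
      rw [MonoidHom.mem_ker]
    have hc := Subgroup.card_mul_index φ.ker
    rw [Subgroup.index_ker, hker, h60_card_subgroupOf, inf_comm] at hc
    refine ⟨Nat.card φ.range, ?_, hc.symm⟩
    have hexp : Monoid.exponent φ.range ∣ 2 := by
      apply Monoid.exponent_dvd_of_forall_pow_eq_one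
      rintro ⟨x, g, rfl⟩
      apply Subtype.ext
      apply Units.ext
      have := hDET (g : GL (Fin n) F) g.2
      simpa [φ] using this
    rwa [IsCyclic.exponent_eq_card] at hexp
  obtain ⟨d, hd2, h3⟩ := h3
  have hSOpos : Nat.card (sfoIsom Q ⊓ specialLinear (Fin n) F : Subgroup (GL (Fin n) F)) ≠ 0 :=
    Nat.card_pos.ne'
  have hsimpos : Nat.card (quadSimilarityGroup Q ⊓ specialLinear (Fin n) F :
      Subgroup (GL (Fin n) F)) ≠ 0 := Nat.card_pos.ne'
  have hd0 : d ≠ 0 := by
    rintro rfl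
    simp at hd2
  have hrd : ¬ r ∣ d := by
    intro h
    have h5 : r ∣ 2 := h.trans hd2
    exact hr2 ((Nat.prime_dvd_prime_iff_eq hr Nat.prime_two).mp h5)
  have hvO : padicValNat r (Nat.card (sfoIsom Q)) =
      padicValNat r (Nat.card (sfoIsom Q ⊓ specialLinear (Fin n) F :
        Subgroup (GL (Fin n) F))) := by
    rw [h3, padicValNat.mul hSOpos hd0, padicValNat.eq_zero_of_not_dvd hrd, add_zero]
  have hvSO : padicValNat r (Nat.card (sfoIsom Q ⊓ specialLinear (Fin n) F :
        Subgroup (GL (Fin n) F))) ≤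
      padicValNat r (Nat.card (quadSimilarityGroup Q ⊓ specialLinear (Fin n) F :
        Subgroup (GL (Fin n) F))) := by
    obtain ⟨c, hc⟩ := h2
    have hc0 : c ≠ 0 := by
      rintro rfl
      rw [mul_zero] at hc
      exact hsimpos hc
    rw [hc, padicValNat.mul hSOpos hc0]
    omega
  have hrel0 : (quadSimilarityGroup Q).relIndex (specialLinear (Fin n) F) ≠ 0 := by
    intro h
    rw [h, zero_mul] at h1
    exact hSLpos h1
  have hvrel : 1 ≤ padicValNat r ((quadSimilarityGroup Q).relIndex (specialLinear (Fin n) F)) :=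
    one_le_padicValNat_of_dvd hrel0 hΩ
  have hvSL2 : padicValNat r (Nat.card (specialLinear (Fin n) F)) =
      padicValNat r ((quadSimilarityGroup Q).relIndex (specialLinear (Fin n) F)) +
        padicValNat r (Nat.card (quadSimilarityGroup Q ⊓ specialLinear (Fin n) F :
          Subgroup (GL (Fin n) F))) := by
    rw [h1, padicValNat.mul hrel0 hsimpos]
  omega

end Cfsg.Agent.Lib.helper60
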